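import Mathlib

/-!
# Irreducible actions of algebras, ranks of idempotents and lifting along a nilpotent map

Linear algebra for the elementary proof of Dade's theorem on blocks with cyclic defect group.
-/

set_option autoImplicit false

namespace CfsgLib.Blocks.Cyclic

universe u v w

variable {k : Type u} [Field k] {A : Type v} [Ring A] [Algebra k A]
variable {S : Type w} [AddCommGroup S] [Module k S]

/-- An irreducible action. -/
def IsIrredAct (Φ : A →ₐ[k] Module.End k S) : Prop :=
  Nontrivial S ∧ ∀ W : Submodule k S, (∀ a, ∀ v ∈ W, Φ a v ∈ W) → W = ⊥ ∨ W = ⊤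

/-- Schur's lemma. -/
theorem exists_scalar [IsAlgClosed k] [FiniteDimensional k S] {Φ : A →ₐ[k] Module.End k S}
    (hΦ : IsIrredAct Φ) {h : Module.End k S} (hh : ∀ a, Φ a * h = h * Φ a) :
    ∃ r : k, h = r • 1 := by
  have := hΦ.1
  obtain ⟨r, hr⟩ := Module.End.exists_eigenvalue h
  refine ⟨r, ?_⟩
  have hst : ∀ a, ∀ v ∈ Module.End.eigenspace h r, Φ a v ∈ Module.End.eigenspace h r := by
    intro a v hv
    rw [Module.End.mem_eigenspace_iff] at hv ⊢
    rw [← Module.End.mul_apply, ← hh, Module.End.mul_apply, hv, map_smul]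
  rcases hΦ.2 _ hst with h0 | h0
  · exact absurd h0 hr
  · refine LinearMap.ext fun v => ?_
    exact Module.End.mem_eigenspace_iff.1 (h0 ▸ Submodule.mem_top : v ∈ Module.End.eigenspace h r)

/-- Burnside's theorem. -/
theorem surjective_of_irred [IsAlgClosed k] [FiniteDimensional k S] {Φ : A →ₐ[k] Module.End k S}
    (hΦ : IsIrredAct Φ) : Function.Surjective Φ := by
  classical
  have := hΦ.1
  let inst : Module A S := Module.compHom S Φ.toRingHom
  have hsmul : ∀ (a : A) (v : S), a • v = Φ a v := fun _ _ => rfl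
  have hsub : ∀ W : Submodule A S, W = ⊥ ∨ W = ⊤ := by
    intro W
    let W' : Submodule k S :=
      { carrier := W
        add_mem' := W.add_mem
        zero_mem' := W.zero_mem
        smul_mem' := fun r v hv => by
          have h := W.smul_mem (algebraMap k A r) hv
          rw [hsmul, AlgHom.commutes] at h
          simpa using h }
    rcases hΦ.2 W' (fun a v hv => W.smul_mem a hv) with h | h
    · exact Or.inl (SetLike.ext fun v => show v ∈ W' ↔ v ∈ (⊥ : Submodule A S) by simp [h])
    · exact Or.inr (SetLike.ext fun v => show v ∈ W' ↔ v ∈ (⊤ : Submodule A S) by simp [h])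
  have : IsSimpleOrder (Submodule A S) := ⟨hsub⟩
  have : IsSimpleModule A S := IsSimpleModule.mk
  intro T
  let s := (Module.finBasis k S)
  have hscal : ∀ f : Module.End A S, ∃ r : k, ∀ v, f v = r • v := by
    intro f
    let f' : Module.End k S :=
      { toFun := f
        map_add' := map_add f
        map_smul' := fun r v => by
          have h := map_smul f (algebraMap k A r) v
          simpa [hsmul, AlgHom.commutes] using h }
    obtain ⟨r, hr⟩ := exists_scalar hΦ (h := f') fun a => LinearMap.ext fun v => by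
      show Φ a (f v) = f (Φ a v)
      rw [← hsmul, ← hsmul, map_smul]
    exact ⟨r, fun v => congrArg (fun F : Module.End k S => F v) hr⟩
  let T' : Module.End (Module.End A S) S :=
    { toFun := T
      map_add' := map_add T
      map_smul' := fun f v => by
        obtain ⟨r, hr⟩ := hscal f
        show T (f v) = f (T v)
        rw [hr, hr, map_smul] }
  obtain ⟨a, ha⟩ := jacobson_density T' (Finset.univ.image s)
  exact ⟨a, s.ext fun i => (ha (s i) (Finset.mem_image_of_mem _ (Finset.mem_univ i))).symm⟩

/-- A nonzero element of the algebra of endomorphisms generates it. -/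
theorem algHom_injective_of_end {B : Type*} [Ring B] [Algebra k B] [FiniteDimensional k S]
    [Nontrivial B] (ψ : Module.End k S →ₐ[k] B) : Function.Injective ψ := by
  classical
  rw [injective_iff_map_eq_zero]
  intro h hh
  by_contra h0
  obtain ⟨v, hv⟩ : ∃ v, h v ≠ 0 := by
    by_contra hcon
    simp only [not_exists, not_not] at hcon
    exact h0 (LinearMap.ext hcon)
  obtain ⟨φ, hφ⟩ := Module.Projective.exists_dual_ne_zero k hv
  let b := Module.finBasis k S
  have h1 : (1 : Module.End k S) = ∑ i, (LinearMap.smulRight ((φ (h v))⁻¹ • φ) (b i)) * h *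
      (LinearMap.smulRight (b.coord i) v) := by
    refine LinearMap.ext fun y => ?_
    simp only [LinearMap.sum_apply, Module.End.mul_apply, LinearMap.smulRight_apply, map_smul,
      LinearMap.smul_apply, smul_eq_mul, inv_mul_cancel₀ hφ, one_smul, Module.End.one_apply,
      Module.Basis.coord_apply]
    exact (b.sum_repr y).symm
  have := congrArg ψ h1
  simp only [map_one, map_sum, map_mul, hh, mul_zero, zero_mul, Finset.sum_const_zero] at this
  exact one_ne_zero this

/-- An inclusion of kernels of irreducible actions gives an isomorphism of their images. -/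
theorem exists_transfer [IsAlgClosed k] [FiniteDimensional k S] {S' : Type*} [AddCommGroup S']
    [Module k S'] [FiniteDimensional k S'] {Φ : A →ₐ[k] Module.End k S}
    {Φ' : A →ₐ[k] Module.End k S'} (hΦ : IsIrredAct Φ) (hΦ' : IsIrredAct Φ')
    (hker : ∀ a, Φ a = 0 → Φ' a = 0) :
    ∃ ψ : Module.End k S ≃ₐ[k] Module.End k S', ∀ a, ψ (Φ a) = Φ' a := by
  have := hΦ'.1
  have hsurj := surjective_of_irred hΦ
  have hle : RingHom.ker Φ.toRingHom ≤ RingHom.ker Φ'.toRingHom := fun a ha => hker a ha
  choose s hs using hsurj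
  have hwell : ∀ a a', Φ a = Φ a' → Φ' a = Φ' a' := fun a a' h =>
    sub_eq_zero.1 (by rw [← map_sub]; exact hker _ (by rw [map_sub, h, sub_self]))
  let ψ : Module.End k S →ₐ[k] Module.End k S' :=
    { toFun := fun T => Φ' (s T)
      map_one' := by rw [hwell (s 1) 1 (by rw [hs, map_one]), map_one]
      map_mul' := fun x y => by
        rw [hwell (s (x * y)) (s x * s y) (by rw [hs, map_mul, hs, hs]), map_mul]
      map_zero' := by rw [hwell (s 0) 0 (by rw [hs, map_zero]), map_zero]
      map_add' := fun x y => by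
        rw [hwell (s (x + y)) (s x + s y) (by rw [hs, map_add, hs, hs]), map_add]
      commutes' := fun r => by
        rw [hwell (s _) (algebraMap k A r) (by rw [hs, AlgHom.commutes]), AlgHom.commutes] }
  have hval : ∀ a, ψ (Φ a) = Φ' a := fun a => hwell _ _ (hs _)
  refine ⟨AlgEquiv.ofBijective ψ ⟨algHom_injective_of_end ψ, fun T => ?_⟩, hval⟩
  obtain ⟨a, ha⟩ := surjective_of_irred hΦ' T
  exact ⟨Φ a, (hval a).trans ha⟩

/-- The right multiples of an idempotent endomorphism. -/
theorem finrank_range_mulRight [FiniteDimensional k S] {h : Module.End k S} (hh : h * h = h) :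
    Module.finrank k (LinearMap.range (LinearMap.mulRight k h)) =
      Module.finrank k (LinearMap.range h) * Module.finrank k S := by
  rw [← Module.finrank_linearMap k k (LinearMap.range h) S]
  refine LinearEquiv.finrank_eq ?_
  refine LinearEquiv.ofBijective
    ((LinearMap.lcomp k S (LinearMap.range h).subtype).domRestrict _) ⟨?_, ?_⟩
  · rintro ⟨a, a', rfl⟩ ⟨c, c', rfl⟩ hac
    refine Subtype.ext (LinearMap.ext fun y => ?_)
    have hy := congrArg (fun F : LinearMap.range h →ₗ[k] S => F ⟨h y, ⟨y, rfl⟩⟩) hac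
    have hi : h (h y) = h y := congrArg (fun F : Module.End k S => F y) hh
    simpa [hi] using hy
  · intro φ
    refine ⟨⟨φ.comp h.rangeRestrict * h, ⟨φ.comp h.rangeRestrict, rfl⟩⟩,
      LinearMap.ext fun y => ?_⟩
    obtain ⟨z, hz⟩ := y.2
    have hi : h (y : S) = y := by
      rw [← hz]; exact congrArg (fun F : Module.End k S => F z) hh
    simp only [LinearMap.domRestrict_apply, LinearMap.lcomp_apply', LinearMap.comp_apply,
      Submodule.subtype_apply, Module.End.mul_apply, hi]
    congr 1
    exact Subtype.ext hi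

/-- A linear map on the kernel respecting the image filtration extends to a commuting map. -/
theorem exists_lift_of_filtered : ∀ (N : ℕ) {Y : Type w} [AddCommGroup Y] [Module k Y]
    (x : Module.End k Y), x ^ N = 0 → ∀ P : LinearMap.ker x →ₗ[k] LinearMap.ker x,
    (∀ m, ∀ v : LinearMap.ker x, (v : Y) ∈ LinearMap.range (x ^ m) →
      (P v : Y) ∈ LinearMap.range (x ^ m)) →
    ∃ h : Module.End k Y, h * x = x * h ∧ ∀ v : LinearMap.ker x, h v = P v := by
  intro N
  induction N with
  | zero =>
    intro Y _ _ x hx P _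
    refine ⟨0, by simp, fun v => ?_⟩
    have h := congrArg (fun F : Module.End k Y => F (P v : Y)) hx
    simp only [pow_zero, Module.End.one_apply, LinearMap.zero_apply] at h
    simp [h]
  | succ N ih =>
    intro Y _ _ x hx P hP
    set R := LinearMap.range x with hR
    have hxR : ∀ w ∈ R, x w ∈ R := fun w _ => ⟨w, rfl⟩
    let x' : Module.End k R := x.restrict hxR
    have hpowc : ∀ (m : ℕ) (w : R), ((x' ^ m) w : Y) = (x ^ m) (w : Y) := by
      intro m
      induction m with
      | zero => intro w; simp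
      | succ m ihm =>
        intro w
        rw [pow_succ', Module.End.mul_apply, pow_succ', Module.End.mul_apply, ← ihm w]
        rfl
    have hx' : x' ^ N = 0 := by
      refine LinearMap.ext fun w => Subtype.ext ?_
      obtain ⟨y, hy⟩ := w.2
      rw [hpowc, ← hy, ← Module.End.mul_apply, ← pow_succ, hx]
      simp
    have hker : ∀ v : LinearMap.ker x', x ((v : R) : Y) = 0 := fun v =>
      congrArg Subtype.val (LinearMap.mem_ker.1 v.2)
    have hPR : ∀ v : LinearMap.ker x', (P ⟨((v : R) : Y), LinearMap.mem_ker.2 (hker v)⟩ : Y) ∈ R := by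
      intro v
      have h := hP 1 ⟨((v : R) : Y), LinearMap.mem_ker.2 (hker v)⟩
        (by rw [pow_one]; exact (v : R).2)
      rwa [pow_one] at h
    let P' : LinearMap.ker x' →ₗ[k] LinearMap.ker x' :=
      { toFun := fun v => ⟨⟨_, hPR v⟩, LinearMap.mem_ker.2 (Subtype.ext
          (LinearMap.mem_ker.1 (P ⟨((v : R) : Y), LinearMap.mem_ker.2 (hker v)⟩).2))⟩
        map_add' := fun a b => Subtype.ext (Subtype.ext ((congrArg Subtype.val
          (map_add P ⟨((a : R) : Y), LinearMap.mem_ker.2 (hker a)⟩
            ⟨((b : R) : Y), LinearMap.mem_ker.2 (hker b)⟩)).trans rfl))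
        map_smul' := fun r a => Subtype.ext (Subtype.ext ((congrArg Subtype.val
          (map_smul P r ⟨((a : R) : Y), LinearMap.mem_ker.2 (hker a)⟩)).trans rfl)) }
    obtain ⟨g, hg, hgP⟩ := ih x' hx' P' (by
      intro m v hv
      obtain ⟨w, hw⟩ := hv
      obtain ⟨y, hy⟩ := w.2
      have h1 : ((v : R) : Y) ∈ LinearMap.range (x ^ (m + 1)) := ⟨y, by
        rw [pow_succ, Module.End.mul_apply, hy, ← hpowc, hw]⟩
      obtain ⟨y', hy'⟩ := hP (m + 1) ⟨_, LinearMap.mem_ker.2 (hker v)⟩ h1
      refine ⟨⟨x y', ⟨y', rfl⟩⟩, Subtype.ext ?_⟩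
      rw [hpowc]
      exact (Module.End.mul_apply _ _ _).symm.trans (by rw [← pow_succ]; exact hy'))
    -- sections
    obtain ⟨s₂, hs₂⟩ := x'.rangeRestrict.exists_rightInverse_of_surjective x'.range_rangeRestrict
    obtain ⟨s₁, hs₁⟩ := x.rangeRestrict.exists_rightInverse_of_surjective x.range_rangeRestrict
    obtain ⟨t, ht⟩ := LinearMap.exists_leftInverse_of_injective (LinearMap.range x').subtype
      (LinearMap.range x').ker_subtype
    have hs₂' : ∀ z : LinearMap.range x', x ((s₂ z : R) : Y) = ((z : R) : Y) := fun z =>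
      congrArg (fun q : LinearMap.range x' => ((q : R) : Y))
        (congrArg (fun F : LinearMap.range x' →ₗ[k] LinearMap.range x' => F z) hs₂)
    have hs₁' : ∀ z : R, x (s₁ z) = (z : Y) := fun z =>
      congrArg Subtype.val (congrArg (fun F : R →ₗ[k] R => F z) hs₁)
    have ht' : ∀ z : LinearMap.range x', t (z : R) = z := fun z =>
      congrArg (fun F : LinearMap.range x' →ₗ[k] LinearMap.range x' => F z) ht
    -- the section adapted to the image of the square
    let s : R →ₗ[k] Y :=
      s₁ ∘ₗ ((1 : Module.End k R) - (LinearMap.range x').subtype ∘ₗ t) + R.subtype ∘ₗ s₂ ∘ₗ t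
    have hs : ∀ z : R, x (s z) = (z : Y) := fun z => by
      simp only [s, LinearMap.add_apply, LinearMap.comp_apply, map_add, hs₁', hs₂',
        Submodule.subtype_apply, LinearMap.sub_apply, Module.End.one_apply]
      simp
    have hsR : ∀ z : LinearMap.range x', s (z : R) = ((s₂ z : R) : Y) := fun z => by
      simp [s, ht']
    let ψ : R →ₗ[k] Y :=
      R.subtype ∘ₗ g ∘ₗ s₂ ∘ₗ t + s₁ ∘ₗ g ∘ₗ ((1 : Module.End k R) - (LinearMap.range x').subtype ∘ₗ t)
    let P₁ : Y →ₗ[k] LinearMap.ker x := LinearMap.codRestrict _ (1 - s ∘ₗ x.rangeRestrict) fun y => by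
      rw [LinearMap.mem_ker, LinearMap.sub_apply, map_sub, LinearMap.comp_apply, hs]
      simp
    let h : Module.End k Y :=
      (LinearMap.ker x).subtype ∘ₗ P ∘ₗ P₁ + ψ ∘ₗ x.rangeRestrict
    have hgx : ∀ z : R, x' (g z) = g (x' z) := fun z =>
      (congrArg (fun F : Module.End k R => F z) hg).symm
    have hψ : ∀ z : R, x (ψ z) = (g z : Y) := fun z => by
      have h1 : x ((g (s₂ (t z)) : R) : Y) = ((g (t z : R) : R) : Y) := by
        rw [show x ((g (s₂ (t z)) : R) : Y) = ((x' (g (s₂ (t z))) : R) : Y) from rfl, hgx]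
        congr 2
        exact Subtype.ext (hs₂' (t z))
      simp only [ψ, LinearMap.add_apply, LinearMap.comp_apply, map_add, hs₁',
        Submodule.subtype_apply, LinearMap.sub_apply, Module.End.one_apply, h1, map_sub,
        AddSubgroupClass.coe_sub]
      abel
    have hψ' : ∀ z : LinearMap.range x', ψ (z : R) = ((g (s₂ z) : R) : Y) := fun z => by
      simp [ψ, ht']
    have hgw : ∀ w : R, h (w : Y) = (g w : Y) := by
      intro w
      set z : LinearMap.range x' := ⟨x' w, ⟨w, rfl⟩⟩ with hz
      have hxw : x.rangeRestrict (w : Y) = (z : R) := Subtype.ext rfl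
      have hk : w - s₂ z ∈ LinearMap.ker x' := by
        rw [LinearMap.mem_ker, map_sub, sub_eq_zero]
        exact Subtype.ext (hs₂' z).symm
      have hP1 : P₁ (w : Y) = ⟨_, LinearMap.mem_ker.2 (hker ⟨_, hk⟩)⟩ := by
        refine Subtype.ext ?_
        simp [P₁, hxw, hsR]
      have hg' := congrArg (fun q : R => (q : Y)) (hgP ⟨_, hk⟩)
      simp only [h, LinearMap.add_apply, LinearMap.comp_apply, hxw, hψ', hP1, Submodule.subtype_apply]
      change ((g (w - s₂ z) : R) : Y) = _ at hg'
      rw [← show ((g (w - s₂ z) : R) : Y) = (P ⟨_, LinearMap.mem_ker.2 (hker ⟨_, hk⟩)⟩ : Y) from hg',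
        map_sub, AddSubgroupClass.coe_sub, sub_add_cancel]
    refine ⟨h, LinearMap.ext fun y => ?_, fun v => ?_⟩
    · rw [Module.End.mul_apply, Module.End.mul_apply, show x y = (x.rangeRestrict y : Y) from rfl,
        hgw]
      simp only [h, LinearMap.add_apply, LinearMap.comp_apply, map_add, hψ, Submodule.subtype_apply,
        LinearMap.mem_ker.1 (P (P₁ y)).2, zero_add]
    · have hxv : x.rangeRestrict (v : Y) = 0 := Subtype.ext (LinearMap.mem_ker.1 v.2)
      have hP1 : P₁ (v : Y) = v := Subtype.ext (by simp [P₁, hxv])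
      simp [h, hxv, hP1]

end CfsgLib.Blocks.Cyclic
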