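import Cfsg.Agent.Blocks.Cyclic.Trace
import Cfsg.Agent.Blocks.Defect.Pairs
import Cfsg.Agent.Blocks.Defect.Translate
import Mathlib.RingTheory.Polynomial.Basic

/-!
# The central element attached to a generator of a cyclic defect group without inertia

If the defect group `P` is cyclic of order `q` and only `C(P)` stabilises the block `c` of `C(P)`,
the trace of `v * a` for a generator `v` gives a nilpotent central `x` of the block with
`x ^ (q - 1) ≠ 0`.
-/

set_option autoImplicit false
open scoped MonoidAlgebra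
open MonoidAlgebra (single)

namespace CfsgLib.Blocks.Cyclic

universe u w

variable {k : Type w} [Field k] {G : Type u} [Group G] [Finite G]
variable {p : ℕ} [Fact p.Prime] [CharP k p]

omit [Finite G] in
/-- The geometric sum in characteristic `p`. -/
theorem sub_one_pow_eq_sum (A : Type*) [Ring A] [Algebra k A] (y : A) (a : ℕ) :
    (y - 1) ^ (p ^ a - 1) = ∑ i ∈ Finset.range (p ^ a), y ^ i := by
  open Polynomial in
  have h : ((X : k[X]) - 1) ^ (p ^ a - 1) = ∑ i ∈ Finset.range (p ^ a), (X : k[X]) ^ i := by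
    refine mul_right_cancel₀ (X_sub_C_ne_zero (1 : k)) ?_
    rw [map_one, ← pow_succ, Nat.sub_add_cancel (Nat.one_le_pow _ _ (Fact.out : p.Prime).pos),
      geom_sum_mul, sub_pow_char_pow, one_pow]
  simpa [map_sum] using congrArg (Polynomial.aeval y) h

theorem cosetSum_of_le {N : Type*} [AddCommMonoid N] {T T' D : Subgroup G} (hT : T' ≤ T)
    {F : G → N} (h0 : ∀ g ∈ T, g ∉ T' → F g = 0) : cosetSum T D F = cosetSum T' D F :=
  (Finset.sum_subset (fun _ hω => mem_cosets.2 (hT (mem_cosets.1 hω)))
    fun _ hω hn => h0 _ (mem_cosets.1 hω) fun h => hn (mem_cosets.2 h)).symm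

omit [CharP k p] [Fact p.Prime] [Finite G] in
/-- Translates by a power of a generator. -/
theorem coeff_pow_mul {v : G} {c : k[G]} {q : ℕ} {g : G} (hreg : ∀ i, 0 < i → i < q →
    c.coeff ((v ^ i)⁻¹ * g) = 0) (hq : 0 < q) :
    ((∑ i ∈ Finset.range q, single v (1 : k) ^ i) * c).coeff g = c.coeff g := by
  classical
  rw [Finset.sum_mul, MonoidAlgebra.coeff_sum, Finsupp.finsetSum_apply,
    Finset.sum_eq_single 0]
  · simp
  · intro i hi hi0
    rw [MonoidAlgebra.single_pow, one_pow, MonoidAlgebra.coeff_single_mul_apply, one_mul]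
    exact hreg i (Nat.pos_of_ne_zero hi0) (Finset.mem_range.1 hi)
  · intro h
    exact absurd (Finset.mem_range.2 hq) h

/-- The central element of a block with cyclic defect group and trivial inertia. -/
theorem exists_central_element [IsAlgClosed k] {b c : k[G]} {P : Subgroup G} {a : ℕ}
    (hb : IsBlockIdem ⊤ b) (hP : IsPGroup p P) (hcyc : IsCyclic P) (hcard : Nat.card P = p ^ a)
    (hc : IsBlockIdem (Subgroup.centralizer (P : Set G)) c)
    (hcD : IsDefectGroupIdem p (Subgroup.centralizer (P : Set G)) c P)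
    (hover : brTrunc P b * c = c)
    (htriv : ∀ n ∈ Subgroup.normalizer (P : Set G), conjA n c = c →
      n ∈ Subgroup.centralizer (P : Set G))
    (hreg : ∃ g, c.coeff g ≠ 0 ∧ ∀ d ∈ P, d ≠ 1 → c.coeff (d⁻¹ * g) = 0) :
    ∃ x ∈ centerIn k (⊤ : Subgroup G), b * x = x ∧ IsNilpotent x ∧ x ^ (p ^ a - 1) ≠ 0 := by
  set C₀ := Subgroup.centralizer (P : Set G) with hC₀
  obtain ⟨a₀, has, haf, hca, hctr⟩ := exists_trace_preimage hc hcD
  obtain ⟨⟨v, hvP⟩, hv⟩ := IsCyclic.exists_generator (α := P)
  have hord : orderOf v = p ^ a := by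
    rw [← hcard, ← Subgroup.orderOf_mk v hvP]
    exact orderOf_eq_card_of_forall_mem_zpowers hv
  have hPC : P ≤ C₀ := hcD.1
  have hvC : v ∈ C₀ := hPC hvP
  set u : k[G] := single v (1 : k) with hu
  have hus : IsSupportedOn u C₀ := IsSupportedOn.single hvC _
  have huf : IsFixedBy u P := isFixedBy_iff_conjA.2 fun d hd => by
    rw [hu, conjA_single_one, Subgroup.mem_centralizer_iff.1 hvC d hd, mul_inv_cancel_right]
  have hcC₀ : ∀ {z : k[G]}, IsSupportedOn z C₀ → Commute z c := fun hz =>
    commute_of_isFixedBy hz hc.mem.2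
  set b₀ := u * a₀ with hb₀
  have hb₀s : IsSupportedOn b₀ C₀ := hus.mul has
  have hb₀f : IsFixedBy b₀ P := huf.mul haf
  set av := cosetSum (⊤ : Subgroup G) P (fun g => conjA g b₀) with hav
  have havC : av ∈ centerIn k (⊤ : Subgroup G) :=
    cosetSum_mem_centerIn le_top (isSupportedOn_top _) hb₀f
  -- the image of the trace
  have hbr : brTrunc P av * c = u * c := by
    rw [hav, brTrunc_cosetSum hP le_top hb₀f, top_inf_eq, brTrunc_eq_self hb₀s]
    have hmul := map_cosetSum (T := Subgroup.normalizer (P : Set G)) (D := P)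
      (AddMonoidHom.mulRight c) (fun g => conjA g b₀)
    simp only [AddMonoidHom.coe_mulRight] at hmul
    rw [hmul, cosetSum_of_le (T' := C₀) (Subgroup.centralizer_le_normalizer _) fun g hg hgC => ?_]
    · rw [cosetSum_congr (F' := fun g => (u * c) * conjA g a₀) fun g hg => ?_]
      · refine (map_cosetSum (AddMonoidHom.mulLeft (u * c)) _).symm.trans ?_
        show u * c * cosetSum C₀ P (fun g => conjA g a₀) = u * c
        rw [← hctr, mul_assoc, hc.idem]
      · have hgu : conjA g u = u := by
          rw [hu, conjA_single_one, ← Subgroup.mem_centralizer_iff.1 hg v hvP,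
            mul_inv_cancel_right]
        rw [hb₀, map_mul, hgu, mul_assoc, (hcC₀ (z := conjA g a₀) ?_).eq, ← mul_assoc]
        have := has.conjA g
        rwa [map_conj_eq_self_of_mem_normalizer (Subgroup.le_normalizer hg)] at this
    · have hgc : IsBlockIdem C₀ (conjA g c) := by
        have h := hc.conjA g
        rwa [hC₀, map_conj_centralizer, map_conj_eq_self_of_mem_normalizer hg] at h
      have horth : conjA g c * c = 0 := hgc.orthogonal hc fun h => hgC (htriv g hg h)
      have hbc : b₀ = b₀ * c := by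
        rw [hb₀, mul_assoc, (hcC₀ has).eq, hca]
      rw [hbc, map_mul, mul_assoc, horth, mul_zero]
  have hbC := hb.mem
  have hfix : ∀ {z : k[G]}, z ∈ centerIn k (⊤ : Subgroup G) → IsFixedBy z P :=
    fun hz => hz.2.mono le_top
  have hBrC : ∀ {z : k[G]}, z ∈ centerIn k (⊤ : Subgroup G) → Commute (brTrunc P z) c :=
    fun hz => hcC₀ (isSupportedOn_brTrunc P _)
  -- the map to the pair
  have hmul : ∀ z ∈ centerIn k (⊤ : Subgroup G), ∀ z' ∈ centerIn k (⊤ : Subgroup G),
      brTrunc P (z * z') * c = (brTrunc P z * c) * (brTrunc P z' * c) := by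
    intro z hz z' hz'
    rw [brTrunc_mul hP (hfix hz) (hfix hz'), mul_assoc (brTrunc P z) c, ← mul_assoc c,
      ← (hBrC hz').eq, mul_assoc, mul_assoc, hc.idem]
  have hpow : ∀ z ∈ centerIn k (⊤ : Subgroup G), ∀ n : ℕ,
      brTrunc P (z ^ n) * c = (brTrunc P z) ^ n * c := fun z hz n => by
    rw [brTrunc_pow hP (hfix hz)]
  have hnil_br : ∀ z ∈ centerIn k (⊤ : Subgroup G), IsNilpotent z →
      IsNilpotent (brTrunc P z * c) := by
    rintro z hz ⟨n, hn⟩
    refine ⟨n + 1, ?_⟩
    rw [(hBrC hz).mul_pow, IsIdempotentElem.pow_succ_eq n hc.idem, ← hpow z hz, pow_succ, hn,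
      zero_mul, map_zero, zero_mul]
  have huc : Commute u c := hcC₀ hus
  have hunil : IsNilpotent ((u - 1) * c) := by
    refine Commute.isNilpotent_mul_right ((huc.sub_left (Commute.one_left c))) ⟨p ^ a, ?_⟩
    have : CharP k[G] p := charP_of_injective_algebraMap (algebraMap k k[G]).injective p
    rw [sub_pow_char_pow_of_commute _ _ (Commute.one_right u), one_pow, hu, MonoidAlgebra.single_pow,
      one_pow, ← hord, pow_orderOf_eq_one, MonoidAlgebra.one_def, sub_self]
  obtain ⟨lam, hlam⟩ := hb.exists_scalar (mul_mem hbC havC)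
  have hlamC : b * av - lam • (1 : k[G]) ∈ centerIn k (⊤ : Subgroup G) :=
    sub_mem (mul_mem hbC havC) (Subalgebra.smul_mem _ (one_mem _) lam)
  have hn1 : IsNilpotent ((b * av - lam • (1 : k[G])) * b) := not_not.1 hlam
  have hval : brTrunc P (b * av) * c = u * c := by
    rw [hmul b hbC av havC, hover, hbr, ← mul_assoc, ← huc.eq, mul_assoc, hc.idem]
  have hlam1 : lam = 1 := by
    have h1 := hnil_br _ (mul_mem hlamC hbC) hn1
    rw [hmul _ hlamC b hbC, hover, map_sub, map_smul, brTrunc_one, sub_mul, hval, smul_mul_assoc,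
      one_mul, sub_mul, mul_assoc, hc.idem, smul_mul_assoc, hc.idem] at h1
    have h2 := (Commute.isNilpotent_sub (x := (u - 1) * c) (y := u * c - lam • c) ?_ hunil h1)
    · rw [sub_mul, one_mul, sub_sub_sub_cancel_left] at h2
      have h3 : IsNilpotent ((lam - 1) • c) := by rwa [sub_smul, one_smul]
      by_contra hne
      have h4 := IsNilpotent.smul h3 (lam - 1)⁻¹
      rw [inv_smul_smul₀ (sub_ne_zero.2 hne)] at h4
      exact hc.ne_zero (idempotent_eq_zero_of_isNilpotent hc.idem h4)
    · rw [sub_mul, one_mul]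
      have h5 : Commute (u * c - c) (u * c) :=
        (Commute.refl _).sub_left ((huc.symm.mul_right (Commute.refl c)))
      have h6 : Commute (u * c - c) c := ((huc.mul_left (Commute.refl c)).sub_left (Commute.refl c))
      exact h5.sub_right (h6.smul_right lam)
  set x := b * av - b with hx
  have hxC : x ∈ centerIn k (⊤ : Subgroup G) := sub_mem (mul_mem hbC havC) hbC
  have hxb : b * x = x := by rw [hx, mul_sub, ← mul_assoc, hb.idem]
  refine ⟨x, hxC, hxb, ?_, fun h0 => ?_⟩
  · have : x = (b * av - lam • (1 : k[G])) * b := by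
      rw [hlam1, one_smul, sub_mul, one_mul, (commute_centerIn (mul_mem hbC havC) hbC).eq,
        ← mul_assoc, hb.idem]
    rwa [this]
  · obtain ⟨g, hg0, hg⟩ := hreg
    have hxv : brTrunc P x * c = (u - 1) * c := by
      rw [hx, map_sub, sub_mul, hval, hover, sub_mul, one_mul]
    have hkey : ∀ n : ℕ, brTrunc P (x ^ n) * c = (u - 1) ^ n * c := by
      intro n
      induction n with
      | zero => simp [brTrunc_one]
      | succ n ih =>
        rw [pow_succ, hmul _ (pow_mem hxC n) x hxC, ih, hxv, mul_assoc, ← mul_assoc c,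
          ← (huc.sub_left (Commute.one_left c)).eq, mul_assoc, hc.idem, ← mul_assoc, ← pow_succ]
    have h := congrArg (fun z : k[G] => z.coeff g) (hkey (p ^ a - 1))
    rw [h0, map_zero, zero_mul, sub_one_pow_eq_sum (k := k) (p := p), coeff_pow_mul (fun i hi hiq => hg _
      (P.pow_mem hvP i) fun h1 => Nat.not_dvd_of_pos_of_lt hi hiq
        (hord ▸ orderOf_dvd_of_pow_eq_one h1)) (Nat.pos_of_ne_zero (pow_ne_zero _ (Fact.out : p.Prime).ne_zero))] at h
    exact hg0 (by simpa using h.symm)

end CfsgLib.Blocks.Cyclic
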