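import Cfsg.Agent.Blocks.Cyclic.Algebra

/-!
# Invariant subspaces, composition and ranks of idempotents

If all irreducible actions in which a central idempotent `b` is one have the same kernel as a
given `n`-dimensional `V`, the rank of an idempotent on a module over `b` is proportional to its
rank on `V`.
-/

set_option autoImplicit false

namespace CfsgLib.Blocks.Cyclic

universe u v w

variable {k : Type u} [Field k] {A : Type v} [Ring A] [Algebra k A]

section restrict

variable {S : Type w} [AddCommGroup S] [Module k S] (Φ : A →ₐ[k] Module.End k S)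
  (W : Submodule k S) (hW : ∀ a, ∀ v ∈ W, Φ a v ∈ W)

/-- The action on an invariant subspace. -/
def actRestrict : A →ₐ[k] Module.End k W where
  toFun a := (Φ a).restrict (hW a)
  map_one' := LinearMap.ext fun v => Subtype.ext (by simp)
  map_mul' a b := LinearMap.ext fun v => Subtype.ext (by simp)
  map_zero' := LinearMap.ext fun v => Subtype.ext (by simp)
  map_add' a b := LinearMap.ext fun v => Subtype.ext (by simp)
  commutes' r := LinearMap.ext fun v => Subtype.ext (by simp [Module.algebraMap_end_apply])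

theorem coe_actRestrict_apply (a : A) (v : W) : (actRestrict Φ W hW a v : S) = Φ a v := rfl

/-- The action on the quotient by an invariant subspace. -/
def actQuot : A →ₐ[k] Module.End k (S ⧸ W) where
  toFun a := W.mapQ W (Φ a) (hW a)
  map_one' := Submodule.linearMap_qext _ (LinearMap.ext fun v => by simp)
  map_mul' a b := Submodule.linearMap_qext _ (LinearMap.ext fun v => by simp)
  map_zero' := Submodule.linearMap_qext _ (LinearMap.ext fun v => by simp)
  map_add' a b := Submodule.linearMap_qext _ (LinearMap.ext fun v => by simp)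
  commutes' r := Submodule.linearMap_qext _ (LinearMap.ext fun v => by
    simp [Module.algebraMap_end_apply])

theorem actQuot_mk (a : A) (v : S) :
    actQuot Φ W hW a (Submodule.Quotient.mk v) = Submodule.Quotient.mk (Φ a v) := rfl

/-- Additivity of the ranks of an idempotent. -/
theorem finrank_range_actQuot [FiniteDimensional k S] {a : A} (ha : a * a = a) :
    Module.finrank k (LinearMap.range (Φ a)) =
      Module.finrank k (LinearMap.range (actRestrict Φ W hW a)) +
        Module.finrank k (LinearMap.range (actQuot Φ W hW a)) := by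
  let R := LinearMap.range (Φ a)
  let f : R →ₗ[k] S ⧸ W := W.mkQ.comp R.subtype
  have h := f.finrank_range_add_finrank_ker
  have hrange : LinearMap.range f = LinearMap.range (actQuot Φ W hW a) := by
    ext z
    constructor
    · rintro ⟨⟨_, v, rfl⟩, rfl⟩
      exact ⟨Submodule.Quotient.mk v, rfl⟩
    · rintro ⟨z', rfl⟩
      obtain ⟨v, rfl⟩ := Submodule.Quotient.mk_surjective W z'
      exact ⟨⟨Φ a v, v, rfl⟩, rfl⟩
  have hker : Module.finrank k (LinearMap.ker f) =
      Module.finrank k (LinearMap.range (actRestrict Φ W hW a)) := by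
    rw [(Submodule.equivMapOfInjective R.subtype R.injective_subtype (LinearMap.ker f)).finrank_eq,
      (Submodule.equivMapOfInjective W.subtype W.injective_subtype
        (LinearMap.range (actRestrict Φ W hW a))).finrank_eq]
    refine congrArg (fun U : Submodule k S => Module.finrank k U) ?_
    ext v
    simp only [Submodule.mem_map, LinearMap.mem_ker]
    constructor
    · rintro ⟨⟨_, w, rfl⟩, hw, rfl⟩
      have hwW : Φ a w ∈ W := (Submodule.Quotient.mk_eq_zero W).1 hw
      refine ⟨⟨Φ a w, hwW⟩, ⟨⟨Φ a w, hwW⟩, Subtype.ext ?_⟩, rfl⟩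
      rw [coe_actRestrict_apply, ← Module.End.mul_apply, ← map_mul, ha]
    · rintro ⟨_, ⟨w, rfl⟩, rfl⟩
      exact ⟨⟨Φ a w, w, rfl⟩, (Submodule.Quotient.mk_eq_zero W).2 (hW a w w.2), rfl⟩
  rw [hrange, hker] at h
  have hR : Module.finrank k R = Module.finrank k (LinearMap.range (Φ a)) := rfl
  omega

end restrict

/-- A nonzero invariant subspace contains an irreducible one. -/
theorem exists_irred_le {S : Type w} [AddCommGroup S] [Module k S] [FiniteDimensional k S]
    (Φ : A →ₐ[k] Module.End k S) (W : Submodule k S) (hW : ∀ a, ∀ v ∈ W, Φ a v ∈ W) (hW0 : W ≠ ⊥) :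
    ∃ W₀ : Submodule k S, ∃ h : ∀ a, ∀ v ∈ W₀, Φ a v ∈ W₀,
      W₀ ≤ W ∧ IsIrredAct (actRestrict Φ W₀ h) := by
  obtain ⟨W₀, ⟨hle, hne, hinv⟩, hmin⟩ := wellFounded_lt.has_min
    {U : Submodule k S | U ≤ W ∧ U ≠ ⊥ ∧ ∀ a, ∀ v ∈ U, Φ a v ∈ U} ⟨W, le_rfl, hW0, hW⟩
  refine ⟨W₀, hinv, hle, Submodule.nontrivial_iff_ne_bot.2 hne, fun U hU => ?_⟩
  by_cases hU0 : U = ⊥
  · exact Or.inl hU0
  refine Or.inr ?_
  have hmem : U.map W₀.subtype ≤ W ∧ U.map W₀.subtype ≠ ⊥ ∧
      ∀ a, ∀ v ∈ U.map W₀.subtype, Φ a v ∈ U.map W₀.subtype := by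
    refine ⟨(Submodule.map_subtype_le W₀ U).trans hle, fun h => hU0 ?_, ?_⟩
    · rw [← Submodule.map_bot W₀.subtype] at h
      exact Submodule.map_injective_of_injective W₀.injective_subtype h
    · rintro a _ ⟨v, hv, rfl⟩
      exact ⟨_, hU a v hv, rfl⟩
  have heq : U.map W₀.subtype = W₀ :=
    eq_of_le_of_not_lt (Submodule.map_subtype_le W₀ U) fun h => hmin _ hmem h
  apply Submodule.map_injective_of_injective W₀.injective_subtype
  rwa [Submodule.map_subtype_top]

variable [IsAlgClosed k] {V : Type w} [AddCommGroup V] [Module k V] [FiniteDimensional k V]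

/-- The rank of an idempotent on an irreducible action with the kernel of `V`. -/
theorem finrank_of_ker_le {S : Type w} [AddCommGroup S] [Module k S] [FiniteDimensional k S]
    {ΦV : A →ₐ[k] Module.End k V} {Φ : A →ₐ[k] Module.End k S} (hV : IsIrredAct ΦV)
    (hΦ : IsIrredAct Φ) (hker : ∀ a, ΦV a = 0 → Φ a = 0) {e : A} (he : e * e = e) :
    Module.finrank k S = Module.finrank k V ∧
      Module.finrank k (LinearMap.range (Φ e)) = Module.finrank k (LinearMap.range (ΦV e)) := by
  obtain ⟨ψ, hψ⟩ := exists_transfer hV hΦ hker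
  have hdim : Module.finrank k S = Module.finrank k V := by
    have h := ψ.toLinearEquiv.finrank_eq
    rw [Module.finrank_linearMap, Module.finrank_linearMap] at h
    exact (Nat.mul_self_inj.1 h).symm
  refine ⟨hdim, ?_⟩
  have hidem : ∀ {U : Type w} [AddCommGroup U] [Module k U] (Ψ : A →ₐ[k] Module.End k U),
      Ψ e * Ψ e = Ψ e := fun Ψ => by rw [← map_mul, he]
  have h1 := finrank_range_mulRight (hidem Φ)
  rw [← hψ e] at h1 ⊢
  have hr : LinearMap.range (LinearMap.mulRight k (ψ (ΦV e))) =
      (LinearMap.range (LinearMap.mulRight k (ΦV e))).map ψ.toLinearEquiv.toLinearMap := by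
    rw [← LinearMap.range_comp]
    refine le_antisymm ?_ ?_
    · rintro _ ⟨T, rfl⟩
      exact ⟨ψ.symm T, by simp⟩
    · rintro _ ⟨T, rfl⟩
      exact ⟨ψ T, by simp⟩
  rw [hr, LinearEquiv.finrank_map_eq, finrank_range_mulRight (hidem ΦV), hdim] at h1
  have := hV.1
  exact (Nat.eq_of_mul_eq_mul_right Module.finrank_pos h1).symm

/-- Ranks of idempotents are proportional to those on `V`. -/
theorem finrank_range_mul_eq {ΦV : A →ₐ[k] Module.End k V} (hV : IsIrredAct ΦV) {b : A}
    (huniq : ∀ (S : Type w) [AddCommGroup S] [Module k S] [FiniteDimensional k S]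
      (Φ : A →ₐ[k] Module.End k S), IsIrredAct Φ → Φ b = 1 → ∀ a, ΦV a = 0 → Φ a = 0)
    {e : A} (he : e * e = e) :
    ∀ (d : ℕ) (S : Type w) [AddCommGroup S] [Module k S] [FiniteDimensional k S]
      (Φ : A →ₐ[k] Module.End k S), Module.finrank k S = d → Φ b = 1 →
      Module.finrank k V * Module.finrank k (LinearMap.range (Φ e)) =
        Module.finrank k S * Module.finrank k (LinearMap.range (ΦV e)) := by
  intro d
  induction d using Nat.strong_induction_on with
  | _ d ih =>
    intro S _ _ _ Φ hd hb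
    rcases Nat.eq_zero_or_pos d with rfl | hpos
    · have h0 : Module.finrank k (LinearMap.range (Φ e)) = 0 :=
        Nat.le_zero.1 (hd ▸ Submodule.finrank_le _)
      rw [h0, hd, mul_zero, zero_mul]
    have : Nontrivial S := Module.nontrivial_of_finrank_pos (R := k) (hd ▸ hpos)
    obtain ⟨W, hW, -, hirr⟩ := exists_irred_le Φ ⊤ (fun _ _ _ => trivial) top_ne_bot
    have hbW : actRestrict Φ W hW b = 1 := LinearMap.ext fun v => Subtype.ext (by
      rw [coe_actRestrict_apply, hb]; rfl)
    have hbQ : actQuot Φ W hW b = 1 := Submodule.linearMap_qext _ (LinearMap.ext fun v => by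
      simp [actQuot_mk, hb])
    obtain ⟨hdim, hrank⟩ := finrank_of_ker_le hV hirr (huniq W _ hirr hbW) he
    have hW0 : 0 < Module.finrank k W := by
      have := hirr.1
      exact Module.finrank_pos
    have hsum := W.finrank_quotient_add_finrank
    have hq := ih _ (by omega) (S ⧸ W) (actQuot Φ W hW) rfl hbQ
    rw [finrank_range_actQuot Φ W hW he, mul_add, hrank, hq, ← hdim, ← add_mul, add_comm, hsum]

end CfsgLib.Blocks.Cyclic
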