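import Cfsg.Agent.Blocks.Cyclic.Algebra
import Cfsg.Agent.Blocks.Orth.SecondMain
import Cfsg.Agent.Blocks.Orth.Schur
import Cfsg.Agent.Blocks.Defect.Lifts
import Cfsg.Agent.Blocks.Defect.Translate
import Cfsg.Agent.Blocks.HeightZero.RegularPair
import Cfsg.Agent.Eq.Def_BlockRank

/-!
# A block has at most `blockRank` irreducible modules

The traces of pairwise different irreducible actions are linearly independent on the regular
elements and are combinations of reductions of the ordinary characters of the block.
-/

set_option autoImplicit false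
open scoped MonoidAlgebra ComplexConjugate
open MonoidAlgebra (single)
open Cfsg CfsgLib

namespace CfsgLib.Blocks.Cyclic

universe u v w

variable {G : Type u} [Group G] [Fintype G] {p : ℕ} {M : Ideal AlgInt} [M.IsMaximal]

omit [M.IsMaximal] [Fintype G] in
/-- A `p`-regular element is not conjugate to its product with a nontrivial `p`-element. -/
theorem eq_one_of_isConj_mul (hp : p.Prime) {g k u : G} (hk : ¬ p ∣ orderOf k)
    (hg : ¬ p ∣ orderOf g) (hcomm : Commute g u) {j : ℕ} (hu : orderOf u = p ^ j)
    (h : IsConj k (g * u)) : u = 1 := by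
  obtain ⟨c, hc⟩ := isConj_iff.1 h
  have hord : orderOf k = orderOf g * p ^ j := by
    rw [← hu, ← hcomm.orderOf_mul_eq_mul_orderOf_of_coprime, ← hc]
    · exact (SemiconjBy.orderOf_eq c (show SemiconjBy c k (c * k * c⁻¹) by
        simp [SemiconjBy, mul_assoc]))
    · rw [hu]
      exact ((hp.coprime_iff_not_dvd.2 hg).pow_left j).symm
  rcases Nat.eq_zero_or_pos j with rfl | hj
  · rwa [pow_zero, orderOf_eq_one_iff] at hu
  · exact absurd (hord ▸ Dvd.dvd.mul_left (dvd_pow_self p hj.ne') _) hk

theorem redC_add {z w : ℂ} (hz : MemLocalRing M z) (hw : MemLocalRing M w) :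
    redC M (z + w) = redC M z + redC M w := by
  rw [redC_of_mem hz, redC_of_mem hw, redC_of_mem ((localRing M).add_mem hz hw), ← map_add]
  rfl

theorem redC_mul {z w : ℂ} (hz : MemLocalRing M z) (hw : MemLocalRing M w) :
    redC M (z * w) = redC M z * redC M w := by
  rw [redC_of_mem hz, redC_of_mem hw, redC_of_mem ((localRing M).mul_mem hz hw), ← map_mul]
  rfl

/-- Every function on the regular classes is a combination of reductions of characters. -/
theorem exists_combination (hM : IsPModular p M) {F : G → kres M}
    (hF : ∀ g h, F (h * g * h⁻¹) = F g) :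
    ∃ c : IrrCharacter G → kres M, ∀ g, ¬ p ∣ orderOf g →
      F g = ∑ χ, c χ * redC M ((χ : G → ℂ) g) := by
  classical
  have hp : Fact p.Prime := ⟨hM.1⟩
  have := charP_kres hM
  have key : ∀ g : G, ¬ p ∣ orderOf g → ∃ c : IrrCharacter G → kres M, ∀ k, ¬ p ∣ orderOf k →
      ∑ χ, c χ * redC M ((χ : G → ℂ) k) = if IsConj k g then 1 else 0 := by
    intro g hg
    set C := Subgroup.centralizer ({g} : Set G) with hC
    obtain ⟨S⟩ : Nonempty (Sylow p C) := inferInstance
    let P : Subgroup G := (S : Subgroup C).map C.subtype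
    have hPcard : Nat.card P = Nat.card (S : Subgroup C) :=
      Subgroup.card_map_of_injective C.subtype_injective
    have hPC : ∀ u ∈ P, g * u = u * g := by
      rintro u ⟨v, -, rfl⟩
      exact (Subgroup.mem_centralizer_singleton_iff.1 v.2).symm
    have hPp : ∀ u ∈ P, ∃ j, orderOf u = p ^ j := by
      intro u hu
      have hP : IsPGroup p P := S.isPGroup'.map C.subtype
      obtain ⟨j, hj⟩ := IsPGroup.iff_orderOf.1 hP ⟨u, hu⟩
      exact ⟨j, by rw [← hj, Subgroup.orderOf_mk]⟩
    let c : IrrCharacter G → ℂ := fun χ =>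
      conj ((Nat.card P : ℂ)⁻¹ * ∑ u : P, (χ : G → ℂ) (g * u))
    have hc : ∀ χ, MemLocalRing M (c χ) := fun χ => memLocalRing_of_isIntegral
      ((isIntegral_average (Chars.isCharacter_coe χ) P g hPC).map
        ((starRingEnd ℂ).toIntAlgHom))
    have hsum : ∀ k : G, ¬ p ∣ orderOf k → ∑ χ : IrrCharacter G, c χ * (χ : G → ℂ) k =
        if IsConj k g then ((S : Subgroup C).index : ℂ) else 0 := by
      intro k hk
      have h1 : ∑ χ : IrrCharacter G, c χ * (χ : G → ℂ) k =
          (Nat.card P : ℂ)⁻¹ * if IsConj k g then
            (Nat.card (Subgroup.centralizer ({k} : Set G)) : ℂ) else 0 := by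
        simp only [c, map_mul, map_sum, map_inv₀, map_natCast, mul_assoc, Finset.sum_mul,
          ← Finset.mul_sum]
        congr 1
        rw [Finset.sum_comm, Finset.sum_eq_single (1 : P)]
        · rw [OneMemClass.coe_one, mul_one, Finset.sum_congr rfl fun χ _ => mul_comm _ _]
          convert Chars.sum_irr_mul_conj k g using 1
          congr
        · intro u _ hu
          rw [Finset.sum_congr rfl fun χ _ => mul_comm _ _, Chars.sum_irr_mul_conj, if_neg]
          intro hconj
          obtain ⟨j, hj⟩ := hPp u u.2
          exact hu (Subtype.ext (eq_one_of_isConj_mul hM.1 hk hg (hPC u u.2) hj hconj))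
        · simp
      rw [h1]
      split_ifs with hconj
      · obtain ⟨a, rfl⟩ := isConj_iff.1 hconj
        have hcardk : Nat.card (Subgroup.centralizer ({k} : Set G)) = Nat.card C := by
          have h' := centralizer_conj (⊤ : Subgroup G) (Subgroup.mem_top a) k
          rw [top_inf_eq, top_inf_eq] at h'
          rw [hC, h', card_map_conj]
        rw [hcardk, hPcard, ← (S : Subgroup C).card_mul_index, Nat.cast_mul,
          inv_mul_cancel_left₀ (Nat.cast_ne_zero.2 Nat.card_pos.ne')]
      · rw [mul_zero]
    have hidx : ((S : Subgroup C).index : kres M) ≠ 0 := by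
      rw [Ne, CharP.cast_eq_zero_iff (kres M) p]
      exact S.not_dvd_index
    refine ⟨fun χ => ((S : Subgroup C).index : kres M)⁻¹ * redC M (c χ), fun k hk => ?_⟩
    have hred : redC M (∑ χ : IrrCharacter G, c χ * (χ : G → ℂ) k) =
        ∑ χ : IrrCharacter G, redC M (c χ) * redC M ((χ : G → ℂ) k) := by
      rw [redC_sum _ _ fun χ _ => (localRing M).mul_mem (hc χ)
        (HeightZero.memLocalRing_apply (Chars.isCharacter_coe χ) k)]
      exact Finset.sum_congr rfl fun χ _ =>
        redC_mul (hc χ) (HeightZero.memLocalRing_apply (Chars.isCharacter_coe χ) k)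
    simp only [mul_assoc, ← Finset.mul_sum]
    rw [← hred, hsum k hk]
    split_ifs
    · rw [redC_of_mem (natCast_mem (localRing M) _)]
      have : res M ⟨((S : Subgroup C).index : ℂ), natCast_mem (localRing M) _⟩
          = ((S : Subgroup C).index : kres M) := by
        rw [← map_natCast (res M)]
        rfl
      rw [this, inv_mul_cancel₀ hidx]
    · rw [redC_zero, mul_zero]
  choose! c hc using key
  have : Fintype (ConjClasses G) := Fintype.ofFinite _
  refine ⟨fun χ => ∑ C : ConjClasses G, if p ∣ orderOf C.out then 0 else F C.out * c C.out χ,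
    fun g hg => ?_⟩
  simp only [Finset.sum_mul]
  rw [Finset.sum_comm]
  have hout : IsConj g (ConjClasses.mk g).out :=
    ConjClasses.mk_eq_mk_iff_isConj.1 (Quotient.out_eq _).symm
  have hout' : ¬ p ∣ orderOf (ConjClasses.mk g).out := by
    obtain ⟨a, ha⟩ := isConj_iff.1 hout
    rw [← ha]
    intro h
    apply hg
    rwa [show a * g * a⁻¹ = MulAut.conj a g from rfl, MulEquiv.orderOf_eq] at h
  rw [Finset.sum_eq_single (ConjClasses.mk g)]
  · simp only [if_neg hout', mul_assoc, ← Finset.mul_sum]
    rw [hc _ hout' g hg, if_pos hout, mul_one]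
    obtain ⟨a, ha⟩ := isConj_iff.1 hout
    rw [← ha, hF]
  · intro C _ hC
    by_cases h : p ∣ orderOf C.out
    · simp [h]
    · simp only [if_neg h, mul_assoc, ← Finset.mul_sum]
      rw [hc _ h g hg, if_neg, mul_zero]
      intro hconj
      exact hC ((Quotient.out_eq C).symm.trans (ConjClasses.mk_eq_mk_iff_isConj.2 hconj).symm)
  · exact fun h => absurd (Finset.mem_univ _) h

variable {S : Type w} [AddCommGroup S] [Module (kres M) S] [FiniteDimensional (kres M) S]

/-- The trace of a group element is the trace of its regular part. -/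
theorem trace_pPart (hM : IsPModular p M)
    (Φ : (kres M)[G] →ₐ[kres M] Module.End (kres M) S) {x y : G} (hc : Commute x y) {j : ℕ}
    (hx : orderOf x = p ^ j) :
    LinearMap.trace (kres M) S (Φ (single (x * y) 1)) =
      LinearMap.trace (kres M) S (Φ (single y 1)) := by
  have : Fact p.Prime := ⟨hM.1⟩
  have := charP_kres hM
  cases subsingleton_or_nontrivial S with
  | inl h => congr 1; exact Subsingleton.elim _ _
  | inr h =>
    have : CharP (Module.End (kres M) S) p :=
      charP_of_injective_algebraMap (algebraMap (kres M) (Module.End (kres M) S)).injective p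
    have hsplit : single (x * y) (1 : kres M) = single y 1 + single y 1 * (single x 1 - 1) := by
      rw [mul_sub, mul_one, MonoidAlgebra.single_mul_single, mul_one, hc.eq, add_sub_cancel]
    have hnil : IsNilpotent (Φ (single y 1 * (single x 1 - 1))) := by
      rw [map_mul]
      refine Commute.isNilpotent_mul_left ?_ ?_
      · rw [map_sub, map_one]
        refine Commute.sub_right ?_ (Commute.one_right _)
        show Φ _ * Φ _ = Φ _ * Φ _
        rw [← map_mul, ← map_mul, MonoidAlgebra.single_mul_single, MonoidAlgebra.single_mul_single,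
          hc.eq]
      · refine ⟨p ^ j, ?_⟩
        rw [map_sub, map_one, sub_pow_char_pow_of_commute p j (Commute.one_right _), one_pow, ← map_pow,
          MonoidAlgebra.single_pow, ← hx, pow_orderOf_eq_one, one_pow, ← MonoidAlgebra.one_def,
          map_one, sub_self]
    rw [hsplit, map_add, map_add,
      isNilpotent_iff_eq_zero.1 (LinearMap.isNilpotent_trace_of_isNilpotent hnil), add_zero]

/-- **Irreducible modules of a block number at most its regular rank.** -/
theorem card_le_blockRank (hM : IsPModular p M) {B : Set (IrrCharacter G)} (hB : IsPBlock M B)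
    {ι : Type v} [Fintype ι] {S : ι → Type w} [∀ i, AddCommGroup (S i)]
    [∀ i, Module (kres M) (S i)] [∀ i, FiniteDimensional (kres M) (S i)]
    (Φ : ∀ i, (kres M)[G] →ₐ[kres M] Module.End (kres M) (S i))
    (hirr : ∀ i, IsIrredAct (Φ i)) (hb : ∀ i, Φ i (topEl M B) = 1)
    (hdist : ∀ i j, i ≠ j → ∃ a, Φ i a ≠ 0 ∧ Φ j a = 0) :
    Fintype.card ι ≤ blockRank p B := by
  classical
  set k := kres M
  set t : ι → G → k := fun i g => LinearMap.trace k (S i) (Φ i (single g 1)) with ht
  -- separating elements
  have hsep : ∀ i, ∃ a, LinearMap.trace k (S i) (Φ i a) ≠ 0 ∧ ∀ j, j ≠ i → Φ j a = 0 := by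
    intro i
    have hone : ∀ j, j ≠ i → ∃ a, Φ i a = 1 ∧ Φ j a = 0 := by
      intro j hj
      obtain ⟨a, ha, ha0⟩ := hdist i j (Ne.symm hj)
      obtain ⟨v, hv⟩ : ∃ v, Φ i a v ≠ 0 := by
        by_contra hcon
        simp only [not_exists, not_not] at hcon
        exact ha (LinearMap.ext hcon)
      obtain ⟨φ, hφ⟩ := Module.Projective.exists_dual_ne_zero k hv
      let b := Module.finBasis k (S i)
      choose l hl using fun m => surjective_of_irred (hirr i)
        (LinearMap.smulRight ((φ (Φ i a v))⁻¹ • φ) (b m))
      choose r hr using fun m => surjective_of_irred (hirr i) (LinearMap.smulRight (b.coord m) v)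
      refine ⟨∑ m, l m * a * r m, ?_, ?_⟩
      · refine LinearMap.ext fun y => ?_
        simp only [map_sum, map_mul, hl, hr, LinearMap.sum_apply, Module.End.mul_apply,
          LinearMap.smulRight_apply, map_smul, LinearMap.smul_apply, smul_eq_mul,
          inv_mul_cancel₀ hφ, one_smul, Module.End.one_apply, Module.Basis.coord_apply]
        exact b.sum_repr y
      · simp [ha0]
    choose! a ha using hone
    have := (hirr i).1
    obtain ⟨w, hw⟩ := exists_ne (0 : S i) (α := S i)
    obtain ⟨φ, hφ⟩ := Module.Projective.exists_dual_ne_zero k hw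
    obtain ⟨e, he⟩ := surjective_of_irred (hirr i) (LinearMap.smulRight φ w)
    have hfold : ∀ l : List ι, i ∉ l → ∃ x, Φ i x = 1 ∧ ∀ j ∈ l, Φ j x = 0 := by
      intro l
      induction l with
      | nil => exact fun _ => ⟨1, map_one _, by simp⟩
      | cons j l ih =>
        intro hil
        obtain ⟨x, hx, hx'⟩ := ih fun h => hil (List.mem_cons_of_mem _ h)
        have hji : j ≠ i := fun h => hil (h ▸ List.mem_cons_self)
        refine ⟨a j * x, by rw [map_mul, (ha j hji).1, hx, mul_one], fun j' hj' => ?_⟩
        rcases List.mem_cons.1 hj' with rfl | h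
        · rw [map_mul, (ha j' hji).2, zero_mul]
        · rw [map_mul, hx' j' h, mul_zero]
    obtain ⟨x, hx, hx'⟩ := hfold (Finset.univ.erase i).toList (by simp)
    refine ⟨x * e, ?_, fun j hj => by rw [map_mul, hx' j (by simp [hj]), zero_mul]⟩
    rw [map_mul, hx, one_mul, he, LinearMap.trace_smulRight]
    exact hφ
  -- independence on the regular elements
  have hindep : LinearIndependent k (fun i => fun g : {g : G // ¬ p ∣ orderOf g} => t i g) := by
    rw [Fintype.linearIndependent_iff]
    intro c hc i
    have hall : ∀ g : G, ∑ j, c j * t j g = 0 := by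
      intro g
      obtain ⟨u, y, huy, hcomm, ⟨e, hue⟩, hyreg⟩ := exists_isPPart (G := G) hM.1 g
      have h := congrFun hc ⟨y, hyreg⟩
      simp only [Finset.sum_apply, Pi.smul_apply, smul_eq_mul, Pi.zero_apply] at h
      rw [← h]
      refine Finset.sum_congr rfl fun j _ => ?_
      simp only [ht]
      rw [← huy, trace_pPart hM (Φ j) hcomm hue]
    have hlin : ∀ a : k[G], ∑ j, c j * LinearMap.trace k (S j) (Φ j a) = 0 := by
      intro a
      induction a using MonoidAlgebra.induction_linear with
      | zero => simp
      | add f g hf hg => simp [mul_add, Finset.sum_add_distrib, hf, hg]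
      | single g r =>
        have e : single g r = r • single g (1 : k) := by simp [MonoidAlgebra.smul_single]
        simp only [e, map_smul, smul_eq_mul]
        rw [Finset.sum_congr rfl fun j _ => mul_left_comm _ _ _, ← Finset.mul_sum]
        exact mul_eq_zero_of_right _ (hall g)
    obtain ⟨a, hai, ha⟩ := hsep i
    have h := hlin a
    rw [Finset.sum_eq_single i (fun j _ hj => by simp [ha j hj]) (by simp)] at h
    exact (mul_eq_zero.1 h).resolve_right hai
  -- the evaluations span
  obtain ⟨sel, hsel⟩ : ∃ sel : ι → {g : G // ¬ p ∣ orderOf g},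
      (Matrix.of fun i j => t i (sel j)).det ≠ 0 := by
    let A : Matrix ι {g : G // ¬ p ∣ orderOf g} k := Matrix.of fun i g => t i g
    have hli : LinearIndependent k A.row := hindep
    have hspan : Submodule.span k (Set.range A.col) = ⊤ := by
      apply Submodule.eq_top_of_finrank_eq
      rw [Module.finrank_fintype_fun_eq_card, ← Matrix.rank_eq_finrank_span_cols, hli.rank_matrix]
    obtain ⟨κ, emb', -, hspan', hli'⟩ := exists_linearIndependent' k A.col
    rw [hspan] at hspan'
    have : Finite κ := hli'.finite
    have : Fintype κ := Fintype.ofFinite κ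
    have hcard : Fintype.card κ = Fintype.card ι := by
      rw [← Module.finrank_fintype_fun_eq_card k (η := ι), ← finrank_top k (ι → k), ← hspan',
        finrank_span_eq_card hli']
    let e : ι ≃ κ := (Fintype.equivOfCardEq hcard).symm
    refine ⟨emb' ∘ e, ?_⟩
    have hu : LinearIndependent k (Matrix.of fun i j => t i ((emb' ∘ e) j)).col := hli'.comp e e.injective
    exact ((Matrix.isUnit_iff_isUnit_det _).1 (Matrix.linearIndependent_cols_iff_isUnit.1 hu)).ne_zero
  -- traces are combinations of reductions of the block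
  have hcomb : ∀ i, ∃ c : IrrCharacter G → kres M, (∀ χ, χ ∉ B → c χ = 0) ∧
      ∀ g : G, ¬ p ∣ orderOf g → t i g = ∑ χ, c χ * redC M ((χ : G → ℂ) g) := by
    intro i
    obtain ⟨c, hc⟩ := exists_combination hM (F := t i) fun g h => by
      simp only [ht]
      rw [show single (h * g * h⁻¹) (1 : k) = single h 1 * single g 1 * single h⁻¹ 1 by
        simp [MonoidAlgebra.single_mul_single], map_mul (Φ i), map_mul (Φ i),
        LinearMap.trace_mul_cycle,
        ← map_mul, MonoidAlgebra.single_mul_single, inv_mul_cancel, mul_one,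
        ← MonoidAlgebra.one_def, map_one, one_mul]
    refine ⟨fun χ => if χ ∈ B then c χ else 0, fun χ hχ => if_neg hχ, fun g hg => ?_⟩
    -- extend to all elements
    have hall : ∀ g : G, t i g = ∑ χ, c χ * redC M ((χ : G → ℂ) g) := by
      intro g
      obtain ⟨u, y, huy, hcomm, ⟨e, hue⟩, hyreg⟩ := exists_isPPart (G := G) hM.1 g
      simp only [ht]
      rw [← huy, trace_pPart hM (Φ i) hcomm hue]
      refine (hc y hyreg).trans (Finset.sum_congr rfl fun χ _ => ?_)
      rw [(redC_eq_redC_iff (HeightZero.memLocalRing_apply (Chars.isCharacter_coe χ) _)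
        (HeightZero.memLocalRing_apply (Chars.isCharacter_coe χ) _)).2
        (HeightZero.congr_apply_mul hM (Chars.isCharacter_coe χ) hcomm hue hyreg)]
    have hg1 : t i g = LinearMap.trace k (S i) (Φ i (single g 1 * topEl M B)) := by
      rw [map_mul, hb, mul_one]
    have htop : topEl M B = ∑ h : G, single h (redC M (blockCoeff B h)) := by
      refine MonoidAlgebra.ext (Finsupp.ext fun x => ?_)
      rw [MonoidAlgebra.coeff_sum, Finsupp.finsetSum_apply, Finset.sum_eq_single x]
      · rw [MonoidAlgebra.coeff_single, Finsupp.single_eq_same, topEl,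
          ← coeff_blockEl_apply (f := MonoidHom.id G) (fun _ _ h => h) B x]
        rfl
      · intro b _ hb'
        rw [MonoidAlgebra.coeff_single]
        exact Finsupp.single_eq_of_ne hb'.symm
      · simp
    have hloc : ∀ h : G, MemLocalRing M (blockCoeff B h) := fun h => memLocalRing_blockCoeff hB h
    have hconv : ∀ χ : IrrCharacter G, ∑ h : G, blockCoeff B h * (χ : G → ℂ) (g * h) =
        if χ ∈ B then (χ : G → ℂ) g else 0 := by
      intro χ
      have hG : (Nat.card G : ℂ) ≠ 0 := Nat.cast_ne_zero.2 Nat.card_pos.ne'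
      simp only [blockCoeff_eq_sum, mul_assoc, Finset.sum_mul, ← Finset.mul_sum]
      rw [Finset.sum_comm, Finset.sum_eq_single χ]
      · split_ifs with hχ
        · have h := sum_irrCharacter_convolution χ χ g
          rw [if_pos rfl] at h
          simp only [mul_assoc, ← Finset.mul_sum]
          rw [← Equiv.sum_comp (Equiv.inv G)]
          simp only [Equiv.inv_apply, inv_inv]
          rw [Finset.sum_congr rfl fun z _ => by rw [irrCharacter_mul_comm χ g z⁻¹], h]
          field_simp [irrCharacter_one_ne_zero χ]
        · simp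
      · intro ψ _ hψ
        split_ifs with hχ
        · have h := sum_irrCharacter_convolution ψ χ g
          rw [if_neg hψ] at h
          simp only [mul_assoc, ← Finset.mul_sum]
          rw [← Equiv.sum_comp (Equiv.inv G)]
          simp only [Equiv.inv_apply, inv_inv]
          rw [Finset.sum_congr rfl fun z _ => by rw [irrCharacter_mul_comm χ g z⁻¹], h, mul_zero]
        · simp
      · simp
    rw [hg1, htop, Finset.mul_sum, map_sum, map_sum]
    have hterm : ∀ h : G, LinearMap.trace k (S i) (Φ i (single g 1 * single h (redC M (blockCoeff B h)))) =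
        ∑ χ, c χ * redC M (blockCoeff B h * (χ : G → ℂ) (g * h)) := by
      intro h
      rw [MonoidAlgebra.single_mul_single, one_mul,
        show single (g * h) (redC M (blockCoeff B h)) = redC M (blockCoeff B h) • single (g * h) (1 : k)
          by simp [MonoidAlgebra.smul_single], map_smul, map_smul, smul_eq_mul]
      show redC M (blockCoeff B h) * t i (g * h) = _
      rw [hall, Finset.mul_sum]
      exact Finset.sum_congr rfl fun χ _ => by
        rw [redC_mul (hloc h) (HeightZero.memLocalRing_apply (Chars.isCharacter_coe χ) _)]; ring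
    rw [Finset.sum_congr rfl fun h _ => hterm h, Finset.sum_comm]
    refine Finset.sum_congr rfl fun χ _ => ?_
    rw [← Finset.mul_sum, ← redC_sum _ _ fun h _ => (localRing M).mul_mem (hloc h)
      (HeightZero.memLocalRing_apply (Chars.isCharacter_coe χ) _), hconv]
    split_ifs <;> simp_all [redC_zero]
  -- lift
  choose c hcB hc using hcomb
  choose cc hcc using fun i χ => res_surjective (M := M) (c i χ)
  let cL : ι → IrrCharacter G → ℂ := fun i χ => if χ ∈ B then (cc i χ : ℂ) else 0
  let v : ι → G → ℂ := fun i => ∑ χ, cL i χ • pRegularPart p (χ : G → ℂ)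
  have hcLred : ∀ i χ, ∃ hz : MemLocalRing M (cL i χ), res M ⟨cL i χ, hz⟩ = c i χ := by
    intro i χ
    by_cases hχ : χ ∈ B
    · refine ⟨by simp only [cL, if_pos hχ]; exact (cc i χ).2, ?_⟩
      simp only [cL, if_pos hχ]
      exact hcc i χ
    · refine ⟨by simp only [cL, if_neg hχ]; exact (localRing M).zero_mem, ?_⟩
      simp only [cL, if_neg hχ, hcB i χ hχ]
      exact map_zero (res M)
  choose hcL hcL' using hcLred
  have hdet : (Matrix.of fun i j => v i (sel j)).det ≠ 0 := by
    let Mloc : Matrix ι ι (localRing M) := Matrix.of fun i j =>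
      ∑ χ, ⟨cL i χ, hcL i χ⟩ * ⟨(χ : G → ℂ) (sel j), HeightZero.memLocalRing_apply (Chars.isCharacter_coe χ) _⟩
    have h1 : (Matrix.of fun i j => v i (sel j)) = Mloc.map (localRing M).subtype := by
      ext i j
      simp only [Matrix.of_apply, Matrix.map_apply, Mloc, map_sum, map_mul, v, Finset.sum_apply,
        Pi.smul_apply, smul_eq_mul]
      refine Finset.sum_congr rfl fun χ _ => ?_
      simp [pRegularPart, IsPRegular, (sel j).2]
    have h2 : (Matrix.of fun i j => t i (sel j)) = Mloc.map (res M) := by
      ext i j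
      simp only [Matrix.of_apply, Matrix.map_apply, Mloc, map_sum, map_mul]
      rw [hc i _ (sel j).2]
      refine Finset.sum_congr rfl fun χ _ => ?_
      rw [hcL', redC_of_mem]
    have h3 : res M Mloc.det ≠ 0 := by
      rw [RingHom.map_det]
      show (Mloc.map (res M)).det ≠ 0
      rw [← h2]
      exact hsel
    rw [h1]
    show ((localRing M).subtype.mapMatrix Mloc).det ≠ 0
    rw [← RingHom.map_det]
    intro h0
    apply h3
    rw [(Subtype.ext (by simpa using h0) : Mloc.det = 0), map_zero]
  have hv : LinearIndependent ℂ v := by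
    have hrow : LinearIndependent ℂ (Matrix.of fun i j => v i (sel j)).row :=
      Matrix.linearIndependent_rows_iff_isUnit.2
        ((Matrix.isUnit_iff_isUnit_det _).2 (isUnit_iff_ne_zero.2 hdet))
    exact LinearIndependent.of_comp
      (LinearMap.funLeft ℂ ℂ (fun j => (sel j : G))) hrow
  have hmem : ∀ i, v i ∈ Submodule.span ℂ
      ((fun χ : IrrCharacter G => pRegularPart p (χ : G → ℂ)) '' B) := by
    intro i
    refine Submodule.sum_mem _ fun χ _ => ?_
    by_cases hχ : χ ∈ B
    · exact Submodule.smul_mem _ _ (Submodule.subset_span ⟨χ, hχ, rfl⟩)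
    · simp [cL, hχ]
  show Fintype.card ι ≤ Module.finrank ℂ _
  rw [← finrank_span_eq_card hv]
  exact Submodule.finrank_mono (Submodule.span_le.2 (Set.range_subset_iff.2 hmem))

end CfsgLib.Blocks.Cyclic
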