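import Cfsg.Agent.Blocks.Defect.BrauerMap
import Cfsg.Agent.Blocks.Defect.DefectGroups
import Mathlib.GroupTheory.Index

/-!
# Sums over cosets, free traces and truncations in group algebras

Relative traces are sums over the cosets of a subgroup.
-/

set_option autoImplicit false
open scoped MonoidAlgebra
open MonoidAlgebra (single)

namespace CfsgLib.Blocks.Cyclic

universe u v w

variable {k : Type w} [Field k] {G : Type u} [Group G]

open scoped Classical in
/-- The sum of `F` over representatives of the cosets of `D` in `T`. -/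
noncomputable def cosetSum [Finite G] {N : Type v} [AddCommMonoid N] (T D : Subgroup G)
    (F : G → N) : N :=
  ∑ ω ∈ (Set.toFinite {ω : G ⧸ D | ω.out ∈ T}).toFinset, F ω.out

section cosets

variable [Finite G] {N : Type v} [AddCommMonoid N] {T C D : Subgroup G}

omit [Finite G] in
theorem out_mem_iff (hDT : D ≤ T) (g : G) : (g : G ⧸ D).out ∈ T ↔ g ∈ T := by
  have h : (g : G ⧸ D).out⁻¹ * g ∈ D := QuotientGroup.eq.1 (QuotientGroup.out_eq' _)
  refine ⟨fun h' => ?_, fun h' => ?_⟩
  · simpa using T.mul_mem h' (hDT h)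
  · simpa using T.mul_mem h' (T.inv_mem (hDT h))

omit [Finite G] in
omit [AddCommMonoid N] in
theorem apply_out {F : G → N} (hF : ∀ g, ∀ d ∈ D, F (g * d) = F g) (g : G) :
    F (g : G ⧸ D).out = F g := by
  have h : (g : G ⧸ D).out⁻¹ * g ∈ D := QuotientGroup.eq.1 (QuotientGroup.out_eq' _)
  conv_rhs => rw [← mul_inv_cancel_left (g : G ⧸ D).out g, hF _ _ h]

theorem mem_cosets {ω : G ⧸ D} :
    ω ∈ (Set.toFinite {ω : G ⧸ D | ω.out ∈ T}).toFinset ↔ ω.out ∈ T :=
  Set.Finite.mem_toFinset _

theorem cosetSum_congr {F F' : G → N} (h : ∀ g ∈ T, F g = F' g) :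
    cosetSum T D F = cosetSum T D F' :=
  Finset.sum_congr rfl fun _ hω => h _ (mem_cosets.1 hω)

theorem map_cosetSum {N' : Type*} [AddCommMonoid N'] {φ : Type*} [FunLike φ N N']
    [AddMonoidHomClass φ N N'] (f : φ) (F : G → N) :
    f (cosetSum T D F) = cosetSum T D (fun g => f (F g)) := map_sum f _ _

theorem cosetSum_mul_left (hDT : D ≤ T) {F : G → N} (hF : ∀ g, ∀ d ∈ D, F (g * d) = F g) {t : G}
    (ht : t ∈ T) : cosetSum T D (fun g => F (t * g)) = cosetSum T D F := by
  refine Finset.sum_bij' (fun ω _ => t • ω) (fun ω _ => t⁻¹ • ω) (fun ω hω => ?_) (fun ω hω => ?_)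
    (fun ω _ => inv_smul_smul t ω) (fun ω _ => smul_inv_smul t ω) (fun ω _ => ?_)
  · rw [Set.Finite.mem_toFinset] at hω ⊢
    induction ω using QuotientGroup.induction_on with
    | _ g => exact (out_mem_iff hDT _).2 (T.mul_mem ht ((out_mem_iff hDT g).1 hω))
  · rw [Set.Finite.mem_toFinset] at hω ⊢
    induction ω using QuotientGroup.induction_on with
    | _ g => exact (out_mem_iff hDT _).2 (T.mul_mem (T.inv_mem ht) ((out_mem_iff hDT g).1 hω))
  · induction ω using QuotientGroup.induction_on with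
    | _ g =>
      show F (t * _) = F ((t * g : G) : G ⧸ D).out
      rw [apply_out hF]
      exact apply_out (F := fun x => F (t * x))
        (fun x d hd => by rw [← mul_assoc, hF _ _ hd]) g

theorem cosetSum_comp [Fintype D] [Fintype T] (hDT : D ≤ T) (F : G → N) :
    cosetSum T D (fun g => ∑ d : D, F (g * d)) = ∑ t : T, F t := by
  rw [cosetSum, ← Finset.sum_product']
  refine Finset.sum_bij' (fun x hx => ⟨x.1.out * x.2, T.mul_mem
      (mem_cosets.1 (Finset.mem_product.1 hx).1) (hDT x.2.2)⟩)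
    (fun t _ => (((t : G) : G ⧸ D), ⟨((t : G) : G ⧸ D).out⁻¹ * t,
      QuotientGroup.eq.1 (QuotientGroup.out_eq' _)⟩))
    (fun x _ => Finset.mem_univ _) (fun t _ => ?_) (fun x _ => ?_) (fun t _ => ?_)
    (fun x _ => rfl)
  · exact Finset.mem_product.2 ⟨(Set.Finite.mem_toFinset _).2 ((out_mem_iff hDT _).2 t.2),
      Finset.mem_univ _⟩
  · have h : ((x.1.out * x.2 : G) : G ⧸ D) = x.1 := by
      rw [QuotientGroup.mk_mul_of_mem _ x.2.2, QuotientGroup.out_eq']
    refine Prod.ext h (Subtype.ext ?_)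
    show ((x.1.out * x.2 : G) : G ⧸ D).out⁻¹ * (x.1.out * x.2) = x.2
    rw [h, inv_mul_cancel_left]
  · exact Subtype.ext (mul_inv_cancel_left _ _)

theorem cosetSum_trans (hDC : D ≤ C) (hCT : C ≤ T) {F : G → N}
    (hF : ∀ g, ∀ d ∈ D, F (g * d) = F g) :
    cosetSum T D F = cosetSum T C (fun g => cosetSum C D (fun c => F (g * c))) := by
  rw [cosetSum, cosetSum]
  simp only [cosetSum]
  rw [← Finset.sum_product']
  symm
  refine Finset.sum_bij' (fun x _ => ((x.1.out * x.2.out : G) : G ⧸ D))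
    (fun ω _ => (((ω.out : G) : G ⧸ C),
      ((((ω.out : G) : G ⧸ C).out⁻¹ * ω.out : G) : G ⧸ D)))
    (fun x hx => ?_) (fun ω hω => ?_) (fun x hx => ?_) (fun ω _ => ?_) (fun x _ => ?_)
  · obtain ⟨h1, h2⟩ := Finset.mem_product.1 hx
    rw [Set.Finite.mem_toFinset] at h1 h2 ⊢
    exact (out_mem_iff (hDC.trans hCT) _).2 (T.mul_mem h1 (hCT h2))
  · rw [Set.Finite.mem_toFinset] at hω
    exact Finset.mem_product.2 ⟨(Set.Finite.mem_toFinset _).2 ((out_mem_iff hCT _).2 hω),
      (Set.Finite.mem_toFinset _).2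
        ((out_mem_iff hDC _).2 (QuotientGroup.eq.1 (QuotientGroup.out_eq' _)))⟩
  · obtain ⟨-, h2⟩ := Finset.mem_product.1 hx
    rw [Set.Finite.mem_toFinset] at h2
    have hD : x.2.out⁻¹ * x.1.out⁻¹ * ((x.1.out * x.2.out : G) : G ⧸ D).out ∈ D := by
      have := D.inv_mem (QuotientGroup.eq.1
        (QuotientGroup.out_eq' ((x.1.out * x.2.out : G) : G ⧸ D)))
      simpa [mul_assoc] using this
    have h : ((((x.1.out * x.2.out : G) : G ⧸ D).out : G) : G ⧸ C) = x.1 := by
      conv_rhs => rw [← QuotientGroup.out_eq' x.1]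
      refine (QuotientGroup.eq.2 ?_).symm
      have := C.mul_mem h2 (hDC hD)
      simpa [mul_assoc] using this
    refine Prod.ext h ?_
    show ((((((x.1.out * x.2.out : G) : G ⧸ D).out : G) : G ⧸ C).out⁻¹ *
      ((x.1.out * x.2.out : G) : G ⧸ D).out : G) : G ⧸ D) = x.2
    rw [h]
    conv_rhs => rw [← QuotientGroup.out_eq' x.2]
    refine (QuotientGroup.eq.2 ?_).symm
    simpa [mul_assoc] using hD
  · show ((((ω.out : G) : G ⧸ C).out *
      ((((ω.out : G) : G ⧸ C).out⁻¹ * ω.out : G) : G ⧸ D).out : G) : G ⧸ D) = ω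
    conv_rhs => rw [← QuotientGroup.out_eq' ω]
    refine QuotientGroup.eq.2 ?_
    have h := QuotientGroup.eq.1 (QuotientGroup.out_eq'
      ((((ω.out : G) : G ⧸ C).out⁻¹ * ω.out : G) : G ⧸ D))
    simpa [mul_assoc] using h
  · exact (apply_out hF _).symm

theorem cosetSum_const (hDT : D ≤ T) (x : N) :
    cosetSum T D (fun _ => x) = D.relIndex T • x := by
  rw [cosetSum, Finset.sum_const]
  congr 1
  rw [Subgroup.relIndex, Subgroup.index, ← Nat.card_eq_finsetCard]
  refine Nat.card_eq_of_bijective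
    (fun ω => ((⟨ω.1.out, mem_cosets.1 ω.2⟩ : T) : T ⧸ D.subgroupOf T)) ⟨?_, ?_⟩
  · rintro ⟨a, ha⟩ ⟨b, hb⟩ hab
    refine Subtype.ext ?_
    show a = b
    rw [← QuotientGroup.out_eq' a, ← QuotientGroup.out_eq' b]
    have h : (⟨a.out, mem_cosets.1 ha⟩ : T)⁻¹ * ⟨b.out, mem_cosets.1 hb⟩ ∈ D.subgroupOf T :=
      QuotientGroup.eq.1 hab
    exact QuotientGroup.eq.2 (Subgroup.mem_subgroupOf.1 h)
  · intro z
    induction z using QuotientGroup.induction_on with
    | _ t =>
      refine ⟨⟨((t : G) : G ⧸ D), (Set.Finite.mem_toFinset _).2 ((out_mem_iff hDT _).2 t.2)⟩, ?_⟩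
      refine QuotientGroup.eq.2 (Subgroup.mem_subgroupOf.2 ?_)
      exact QuotientGroup.eq.1 (QuotientGroup.out_eq' ((t : G) : G ⧸ D))

end cosets

open scoped Classical in
/-- An equivariant family whose members are traces from their stabilisers sums to a trace. -/
theorem exists_trace_of_orbits {N : Type v} [AddCommMonoid N] {T : Subgroup G} [Fintype T]
    {Ω : Type*} (sm : G → Ω → Ω) (hone : ∀ ω, sm 1 ω = ω)
    (hmul : ∀ a b ω, sm (a * b) ω = sm a (sm b ω))
    (act : G → N →+ N) (hact : ∀ a b x, act (a * b) x = act a (act b x))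
    (β : Ω → N) (s : Finset Ω) (hs : ∀ t ∈ T, ∀ ω ∈ s, sm t ω ∈ s)
    (hequiv : ∀ t ∈ T, ∀ ω ∈ s, β (sm t ω) = act t (β ω))
    (hstab : ∀ ω ∈ s, ∃ y, β ω =
      ∑ t ∈ Finset.univ.filter (fun t : T => sm (t : G) ω = ω), act (t : G) y) :
    ∃ y, ∑ ω ∈ s, β ω = ∑ t : T, act (t : G) y := by
  induction s using Finset.strongInduction with
  | _ s ih =>
  rcases s.eq_empty_or_nonempty with rfl | ⟨ω, hω⟩
  · exact ⟨0, by simp⟩
  have hinv : ∀ (t : G) ω, sm t⁻¹ (sm t ω) = ω := fun t ω => by rw [← hmul, inv_mul_cancel, hone]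
  let O : Finset Ω := Finset.univ.image (fun t : T => sm (t : G) ω)
  have hOs : O ⊆ s := by
    intro x hx
    obtain ⟨t, -, rfl⟩ := Finset.mem_image.1 hx
    exact hs t t.2 ω hω
  have hωO : ω ∈ O := Finset.mem_image.2 ⟨1, Finset.mem_univ _, by simp [hone]⟩
  have hlt : s \ O ⊂ s := by
    refine Finset.ssubset_iff_of_subset Finset.sdiff_subset |>.2 ⟨ω, hω, fun h => ?_⟩
    exact (Finset.mem_sdiff.1 h).2 hωO
  have hstO : ∀ t ∈ T, ∀ x, sm t x ∈ O → x ∈ O := by
    intro t ht x hx
    obtain ⟨u, -, hu⟩ := Finset.mem_image.1 hx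
    exact Finset.mem_image.2 ⟨⟨t⁻¹ * u, T.mul_mem (T.inv_mem ht) u.2⟩, Finset.mem_univ _, by
      show sm (t⁻¹ * (u : G)) ω = x
      rw [hmul, hu, hinv]⟩
  obtain ⟨y₁, hy₁⟩ := ih _ hlt
    (fun t ht x hx => Finset.mem_sdiff.2 ⟨hs t ht x (Finset.mem_sdiff.1 hx).1,
      fun h => (Finset.mem_sdiff.1 hx).2 (hstO t ht x h)⟩)
    (fun t ht x hx => hequiv t ht x (Finset.mem_sdiff.1 hx).1)
    (fun x hx => hstab x (Finset.mem_sdiff.1 hx).1)
  obtain ⟨y, hy⟩ := hstab ω hω
  have hO : ∑ x ∈ O, β x = ∑ t : T, act (t : G) y := by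
    rw [← Finset.sum_fiberwise_of_maps_to (g := fun t : T => sm (t : G) ω) (t := O)
      (fun t _ => Finset.mem_image_of_mem _ (Finset.mem_univ t))]
    refine Finset.sum_congr rfl fun x hx => ?_
    obtain ⟨t₀, -, rfl⟩ := Finset.mem_image.1 hx
    rw [hequiv t₀ t₀.2 ω hω, hy, map_sum]
    refine Finset.sum_bij' (fun u _ => t₀ * u) (fun u _ => t₀⁻¹ * u) (fun u hu => ?_) (fun u hu => ?_)
      (fun u _ => inv_mul_cancel_left _ _) (fun u _ => mul_inv_cancel_left _ _) (fun u _ => ?_)
    · simp only [Finset.mem_filter, Finset.mem_univ, true_and] at hu ⊢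
      rw [Subgroup.coe_mul, hmul, hu]
    · simp only [Finset.mem_filter, Finset.mem_univ, true_and] at hu ⊢
      rw [Subgroup.coe_mul, hmul, hu, Subgroup.coe_inv, hinv]
    · rw [Subgroup.coe_mul, hact]
  refine ⟨y + y₁, ?_⟩
  rw [← Finset.sum_sdiff hOs, hy₁, hO, ← Finset.sum_add_distrib]
  exact Finset.sum_congr rfl fun t _ => by rw [map_add, add_comm]

/-- An element fixed by a group acting freely on its support is a trace. -/
theorem exists_trace_of_free [Finite G] {a : k[G]} {K : Subgroup G} [Fintype K]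
    (ha : IsFixedBy a K)
    (hfree : ∀ g, a.coeff g ≠ 0 → ∀ d ∈ K, d * g * d⁻¹ = g → d = 1) :
    ∃ y, a = ∑ d : K, conjA (d : G) y := by
  classical
  obtain ⟨y, hy⟩ := exists_trace_of_orbits (T := K) (fun t g : G => t * g * t⁻¹)
    (fun g => by simp) (fun s t g => by group)
    (fun t => ((conjA (k := k) t).toAlgHom.toLinearMap.toAddMonoidHom))
    (fun s t x => (conjA_conjA s t x).symm) (fun g => single g (a.coeff g)) a.coeff.support
    (fun t ht g hg => by
      rw [Finsupp.mem_support_iff] at hg ⊢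
      rwa [ha t ht])
    (fun t ht g _ => by
      show single (t * g * t⁻¹) (a.coeff (t * g * t⁻¹)) = conjA t (single g (a.coeff g))
      rw [ha t ht]
      simp [conjA])
    (fun g hg => by
      refine ⟨single g (a.coeff g), ?_⟩
      have : Finset.univ.filter (fun d : K => (d : G) * g * (d : G)⁻¹ = g) = {1} := by
        ext d
        simp only [Finset.mem_filter, Finset.mem_univ, true_and, Finset.mem_singleton]
        refine ⟨fun h => Subtype.ext (hfree g (Finsupp.mem_support_iff.1 hg) d d.2 h), ?_⟩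
        rintro rfl
        simp
      rw [this, Finset.sum_singleton]
      exact (conjA_one_left _).symm)
  refine ⟨y, Eq.trans ?_ hy⟩
  refine MonoidAlgebra.ext (Finsupp.ext fun g => ?_)
  rw [MonoidAlgebra.coeff_sum, Finsupp.finsetSum_apply]
  simp only [MonoidAlgebra.coeff_single]
  by_cases hg : g ∈ a.coeff.support
  · rw [Finset.sum_eq_single g (fun b _ hb => Finsupp.single_eq_of_ne hb.symm) (fun h => absurd hg h),
      Finsupp.single_eq_same]
  · rw [Finset.sum_eq_zero (fun b hb => Finsupp.single_eq_of_ne (fun h => hg (by rw [h]; exact hb)))]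
    simpa using hg

open scoped Classical in
/-- The truncation to a subgroup. -/
noncomputable def truncTo (H : Subgroup G) : k[G] →ₗ[k] k[G] where
  toFun a := MonoidAlgebra.ofCoeff (a.coeff.filter fun g => g ∈ H)
  map_add' a b := by
    refine MonoidAlgebra.ext (Finsupp.ext fun g => ?_)
    simp only [MonoidAlgebra.coeff_add, Finsupp.coe_add, Pi.add_apply,
      Finsupp.filter_apply]
    split_ifs <;> simp
  map_smul' r a := by
    refine MonoidAlgebra.ext (Finsupp.ext fun g => ?_)
    simp [Finsupp.filter_apply]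

open scoped Classical in
theorem coeff_truncTo (H : Subgroup G) (a : k[G]) (g : G) :
    (truncTo H a).coeff g = if g ∈ H then a.coeff g else 0 := Finsupp.filter_apply _ _ _

theorem isSupportedOn_truncTo (H : Subgroup G) (a : k[G]) : IsSupportedOn (truncTo H a) H :=
  fun g hg => by rw [coeff_truncTo, if_neg hg]

theorem truncTo_of_supported {H : Subgroup G} {a : k[G]} (ha : IsSupportedOn a H) :
    truncTo H a = a :=
  MonoidAlgebra.ext (Finsupp.ext fun g => by
    rw [coeff_truncTo]; split_ifs with h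
    · rfl
    · exact (ha g h).symm)

theorem truncTo_mul_right [Finite G] {H : Subgroup G} (r : k[G]) {z : k[G]}
    (hz : IsSupportedOn z H) : truncTo H (r * z) = truncTo H r * z := by
  have : Fintype G := Fintype.ofFinite G
  refine MonoidAlgebra.ext (Finsupp.ext fun g => ?_)
  rw [coeff_truncTo, MonoidAlgebra.coeff_mul_apply_left, MonoidAlgebra.coeff_mul_apply_left,
    Finsupp.sum_fintype _ _ (fun _ => zero_mul _), Finsupp.sum_fintype _ _ (fun _ => zero_mul _)]
  split_ifs with hg
  · refine Finset.sum_congr rfl fun x _ => ?_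
    rw [coeff_truncTo]
    split_ifs with hx
    · rfl
    · rw [hz _ fun h => hx (by simpa using H.mul_mem hg (H.inv_mem h))]; simp
  · refine (Finset.sum_eq_zero fun x _ => ?_).symm
    rw [coeff_truncTo]
    split_ifs with hx
    · rw [hz _ fun h => hg (by simpa using H.mul_mem hx h)]; simp
    · simp

theorem truncTo_mul_left [Finite G] {H : Subgroup G} {z : k[G]} (hz : IsSupportedOn z H)
    (r : k[G]) : truncTo H (z * r) = z * truncTo H r := by
  have : Fintype G := Fintype.ofFinite G
  refine MonoidAlgebra.ext (Finsupp.ext fun g => ?_)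
  rw [coeff_truncTo, MonoidAlgebra.coeff_mul_apply_left, MonoidAlgebra.coeff_mul_apply_left,
    Finsupp.sum_fintype _ _ (fun _ => zero_mul _), Finsupp.sum_fintype _ _ (fun _ => zero_mul _)]
  split_ifs with hg
  · refine Finset.sum_congr rfl fun x _ => ?_
    rw [coeff_truncTo]
    split_ifs with hx
    · rfl
    · rw [hz _ fun h => hx (H.mul_mem (H.inv_mem h) hg)]; simp
  · refine (Finset.sum_eq_zero fun x _ => ?_).symm
    rw [coeff_truncTo]
    split_ifs with hx
    · rw [hz _ fun h => hg (by simpa using H.mul_mem h hx)]; simp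
    · simp

/-- The Brauer map of a relative trace. -/
theorem brTrunc_cosetSum [Finite G] {p : ℕ} [Fact p.Prime] [CharP k p] {C D : Subgroup G}
    (hD : IsPGroup p D) (hDC : D ≤ C) {b : k[G]} (hb : IsFixedBy b D) :
    brTrunc D (cosetSum C D fun g => conjA g b) =
      cosetSum (C ⊓ Subgroup.normalizer (D : Set G)) D fun g => conjA g (brTrunc D b) := by
  classical
  have : Fintype (G ⧸ D) := Fintype.ofFinite _
  refine MonoidAlgebra.ext (Finsupp.ext fun s => ?_)
  have hmem : ∀ {T : Subgroup G} {F : G → k[G]}, (cosetSum T D F).coeff s =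
      ∑ ω : G ⧸ D, if ω.out ∈ T then (F ω.out).coeff s else 0 := by
    intro T F
    rw [cosetSum, MonoidAlgebra.coeff_sum, Finsupp.finsetSum_apply, ← Finset.sum_filter]
    refine Finset.sum_congr ?_ fun _ _ => rfl
    ext ω; simp
  rw [hmem]
  by_cases hs : s ∈ Subgroup.centralizer (D : Set G)
  · rw [coeff_brTrunc_of_mem _ hs, hmem]
    have hF : ∀ g, ∀ d ∈ D, conjA (k := k) (g * d) b = conjA g b := fun g d hd => by
      rw [← conjA_conjA, isFixedBy_iff_conjA.1 hb d hd]
    rw [sum_eq_sum_filter_of_invariant hD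
      (fun ω : G ⧸ D => if ω.out ∈ C then (conjA ω.out b).coeff s else 0) ?_
      (fun ω : G ⧸ D => ω.out ∈ Subgroup.normalizer (D : Set G)) ?_ ?_, Finset.sum_filter]
    · refine Finset.sum_congr rfl fun ω _ => ?_
      by_cases hn : ω.out ∈ Subgroup.normalizer (D : Set G)
      · rw [if_pos hn]
        by_cases hc : ω.out ∈ C
        · rw [if_pos hc, if_pos (Subgroup.mem_inf.2 ⟨hc, hn⟩), coeff_conjA, coeff_conjA,
            coeff_brTrunc_of_mem]
          rw [Subgroup.mem_centralizer_iff] at hs ⊢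
          intro d hd
          have hd' : ω.out * d * ω.out⁻¹ ∈ D := (Subgroup.mem_normalizer_iff.1 hn d).1 hd
          have := hs _ hd'
          calc d * (ω.out⁻¹ * s * ω.out) = ω.out⁻¹ * (ω.out * d * ω.out⁻¹ * s) * ω.out := by group
            _ = _ := by rw [this]; group
        · rw [if_neg hc, if_neg (fun h => hc (Subgroup.mem_inf.1 h).1)]
      · rw [if_neg hn, if_neg (fun h => hn (Subgroup.mem_inf.1 h).2)]
    · intro d ω
      induction ω using QuotientGroup.induction_on with
      | _ g =>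
        show (if ((((d : G) * g : G)) : G ⧸ D).out ∈ C then _ else _) = _
        have h2 : ((d : G) * g : G) ∈ C ↔ g ∈ C :=
          ⟨fun h => by simpa using C.mul_mem (C.inv_mem (hDC d.2)) h, C.mul_mem (hDC d.2)⟩
        have e1 : conjA ((((d : G) * g : G)) : G ⧸ D).out b = conjA ((d : G) * g) b :=
          apply_out (N := k[G]) (F := fun g => conjA g b) hF _
        have e2 : conjA ((g : G) : G ⧸ D).out b = conjA g b :=
          apply_out (N := k[G]) (F := fun g => conjA g b) hF _
        show (if _ then (conjA ((((d : G) * g : G)) : G ⧸ D).out b).coeff s else 0) = _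
        rw [e1, e2]
        simp only [out_mem_iff hDC, h2, coeff_conjA]
        congr 2
        have hds := Subgroup.mem_centralizer_iff.1 hs d d.2
        calc ((d : G) * g)⁻¹ * s * ((d : G) * g) = g⁻¹ * ((d : G)⁻¹ * (s * d)) * g := by group
          _ = _ := by rw [← hds]; group
    · intro d ω
      induction ω using QuotientGroup.induction_on with
      | _ g =>
        show ((((d : G) * g : G)) : G ⧸ D).out ∈ _ ↔ _
        rw [out_mem_iff Subgroup.le_normalizer, out_mem_iff Subgroup.le_normalizer]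
        exact Subgroup.mul_mem_cancel_left _ (Subgroup.le_normalizer d.2)
    · intro ω hω
      refine mem_normalizer_of_map_conj_le' (D := D) ?_
      intro d hd
      have h : ((d : G) * ω.out : G) = ((ω.out : G) : G ⧸ D) := by
        conv_rhs => rw [QuotientGroup.out_eq', ← hω ⟨d, hd⟩]
        induction ω using QuotientGroup.induction_on with
        | _ g => exact congrArg (fun x : G ⧸ D => (d : G) • x) (QuotientGroup.out_eq' _)
      have := D.inv_mem (QuotientGroup.eq.1 h)
      simpa [mul_assoc] using this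
  · rw [coeff_brTrunc_of_not_mem _ hs]
    refine (Finset.sum_eq_zero fun ω _ => ?_).symm
    split_ifs with hn
    · rw [coeff_conjA, coeff_brTrunc_of_not_mem]
      intro h
      apply hs
      rw [Subgroup.mem_centralizer_iff] at h ⊢
      intro d hd
      have hd' : ω.out⁻¹ * d * ω.out ∈ D := by
        have h' := (Subgroup.mem_normalizer_iff.1 (Subgroup.inv_mem _ (Subgroup.mem_inf.1 hn).2) d).1 hd
        simpa using h'
      have := h _ hd'
      calc d * s = ω.out * (ω.out⁻¹ * d * ω.out * (ω.out⁻¹ * s * ω.out)) * ω.out⁻¹ := by group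
        _ = _ := by rw [this]; group
    · rfl
where
  mem_normalizer_of_map_conj_le' {D : Subgroup G} {g : G} [Finite G]
      (h : ∀ d ∈ D, g⁻¹ * d * g ∈ D) : g ∈ Subgroup.normalizer (D : Set G) := by
    have hle : D.map (MulAut.conj g⁻¹).toMonoidHom ≤ D := by
      rintro _ ⟨d, hd, rfl⟩
      simpa using h d hd
    have heq := Subgroup.eq_of_le_of_card_ge hle (card_map_conj D g⁻¹).ge
    have hgi : g⁻¹ ∈ Subgroup.normalizer (D : Set G) := Subgroup.mem_normalizer_iff.2 fun x => by
      conv_rhs => rw [← heq]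
      exact ⟨fun hx => ⟨x, hx, rfl⟩, fun ⟨y, hy, hyx⟩ => by
        rwa [(MulAut.conj g⁻¹).injective hyx] at hy⟩
    simpa using Subgroup.inv_mem _ hgi

end CfsgLib.Blocks.Cyclic
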