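import Cfsg.Agent.S4645
import Cfsg.Agent.Blocks.Cyclic.Sums

/-!
# Subsections of a block with cyclic defect group

Every subsection at a nontrivial element has regular rank one, and there are `(|P| - 1) / e`
classes of them.
-/

set_option autoImplicit false
open scoped MonoidAlgebra
open Cfsg

namespace CfsgLib.Blocks.Cyclic

universe u

variable {G : Type u} [Group G] [Fintype G] {p : ℕ} [Fact p.Prime] {M : Ideal AlgInt}
  [M.IsMaximal] [CharP (kres M) p] {B : Set (IrrCharacter G)}

omit [Fintype G] in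
theorem centralizer_zpowers (x : G) :
    Subgroup.centralizer ((Subgroup.zpowers x : Subgroup G) : Set G) =
      Subgroup.centralizer ({x} : Set G) := by
  rw [Subgroup.zpowers_eq_closure, Subgroup.centralizer_closure]

omit [Fintype G] in
theorem commute_of_isCyclic {P : Subgroup G} (hcyc : IsCyclic P) {a b : G} (ha : a ∈ P)
    (hb : b ∈ P) : a * b = b * a := by
  let := IsCyclic.commGroup (α := P)
  exact congrArg Subtype.val (mul_comm (⟨a, ha⟩ : P) ⟨b, hb⟩)

omit [Fintype G] in
theorem le_normalizer_of_le [Finite G] {P R : Subgroup G} (hcyc : IsCyclic P) (hR : R ≤ P) :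
    P ≤ Subgroup.normalizer (R : Set G) := by
  intro u hu
  refine mem_normalizer_of_map_conj_le ?_
  rintro _ ⟨q, hq, rfl⟩
  show u * q * u⁻¹ ∈ R
  rwa [commute_of_isCyclic hcyc hu (hR hq), mul_inv_cancel_right]

omit [Fintype G] in
theorem le_centralizer_of_le {P R : Subgroup G} (hcyc : IsCyclic P) (hR : R ≤ P) :
    P ≤ Subgroup.centralizer (R : Set G) := fun u hu =>
  Subgroup.mem_centralizer_iff.mpr fun q hq => commute_of_isCyclic hcyc (hR hq) hu

/-- The defect group and its block form a maximal pair. -/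
theorem isMax_of_cyclic (hM : IsPModular p M) (hB : IsPBlock M B) {P : Subgroup G}
    (hPD : IsDefectGroup p M B P) (hcyc : IsCyclic P)
    {c : Set (IrrCharacter (Subgroup.centralizer (P : Set G)))}
    (hc : IsInducedBlock M (Subgroup.centralizer (P : Set G)) c B) :
    IsMaxPairIdem p ⊤ (topEl M B) P (subEl M (Subgroup.centralizer (P : Set G)) c) := by
  have hD := (isDefectGroup_topEl_iff (M := M) hB P).1 hPD
  have hover := (isInducedBlock_iff_brOver hM hD.2.1 (le_centralizer_of_le hcyc le_rfl) le_rfl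
    (Subgroup.centralizer_le_normalizer _) hc.1 hB).1 hc
  have hpair : IsPairIdem p ⊤ P (subEl M _ c) := (isBrauerPair_iff hc.1).mp ⟨hD.2.1, hc.1⟩
  refine ⟨⟨hpair, hover⟩, fun R r hR hle => ?_⟩
  refine (Subgroup.eq_of_le_of_card_ge hle.le (hD.card_le le_top hR.1.1 fun h0 => ?_)).symm
  have h1 : brTrunc R (topEl M B) * r = r := hR.2
  rw [h0, zero_mul] at h1
  exact hR.1.2.2.ne_zero h1.symm

/-- A pair at a nontrivial subgroup of a block with cyclic defect group has rank one. -/
theorem blockRank_eq_one_of_pair (hM : IsPModular p M) (hB : IsPBlock M B) {P : Subgroup G}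
    (hPD : IsDefectGroup p M B P) (hP1 : P ≠ ⊥) (hcyc : IsCyclic P) {Q K : Subgroup G}
    (hK : K = Subgroup.centralizer (Q : Set G)) (hQp : IsPGroup p Q) (hQ1 : Q ≠ ⊥)
    {β : Set (IrrCharacter K)} (hβ : IsPBlock M β)
    (hover : BrOver Q (subEl M K β) (topEl M B)) : blockRank p β = 1 := by
  subst hK
  have hE := isBlockIdem_topEl (M := M) hB
  have hpair : IsPairIdem p ⊤ Q (subEl M _ β) := (isBrauerPair_iff hβ).mp ⟨hQp, hβ⟩
  have hof : IsPairOfIdem p ⊤ (topEl M B) Q (subEl M _ β) := ⟨hpair, hover⟩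
  obtain ⟨P₁, r, hmax, hle⟩ := hof.exists_max
  have hD := (isDefectGroup_topEl_iff (M := M) hB P).1 hPD
  have hD₁ := hmax.isDefectGroupIdem hE
  obtain ⟨x, -, hx⟩ := hD.exists_conj_eq hD₁
  have hcyc₁ : IsCyclic P₁ := by
    rw [← hx]
    exact isCyclic_of_surjective (P.equivMapOfInjective _ (MulAut.conj x).injective).toMonoidHom
      (P.equivMapOfInjective _ (MulAut.conj x).injective).surjective
  have hP₁ : P₁ ≠ ⊥ := by
    intro h
    rw [h, Subgroup.map_eq_bot_iff_of_injective _ (MulAut.conj x).injective] at hx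
    exact hP1 hx
  have hr := hmax.1.1.2.2
  rw [top_inf_eq] at hr
  obtain ⟨c₁, hc₁, rfl⟩ := exists_subEl_eq (M := M) hr
  have hPC := le_centralizer_of_le hcyc₁ (le_refl P₁)
  have hind : IsInducedBlock M (Subgroup.centralizer (P₁ : Set G)) c₁ B :=
    (isInducedBlock_iff_brOver hM hD₁.2.1 hPC le_rfl (Subgroup.centralizer_le_normalizer _)
      hc₁ hB).2 hmax.1.2
  have hn := hle.isNormal hmax.1.1 (le_normalizer_of_le hcyc₁ hle.le)
  have hin : IsInducedBlockIn M (Subgroup.centralizer (Q : Set G))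
      (Subgroup.centralizer (P₁ : Set G)) c₁ β :=
    (isInducedBlockIn_iff_brOver hM hD₁.2.1 hPC (Subgroup.centralizer_le hle.le) inf_le_right
      (Subgroup.centralizer_le_normalizer _) hc₁ hβ).2 hn.2.2.2.2.2
  refine (Cfsg.Agent.S4645.result p M hM B hB P₁ ((isDefectGroup_topEl_iff hB P₁).2 hD₁) hP₁
    hcyc₁ c₁ hind (pairStab ⊤ P₁ (subEl M _ c₁)) (fun g => ?_) Q hle.le hQ1 β hin
    (pairStab ⊤ Q (subEl M _ β)) (fun g => ?_)).2.2.1
  · rw [mem_pairStab, stabilizesBlock_iff hc₁]
    exact ⟨fun h => ⟨h.1.2, normalizer_le_normalizer_centralizer _ h.1.2, h.2⟩,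
      fun h => ⟨⟨trivial, h.1⟩, h.2.2⟩⟩
  · rw [mem_pairStab, stabilizesBlock_iff hβ]
    exact ⟨fun h => ⟨h.1.2, normalizer_le_normalizer_centralizer _ h.1.2, h.2⟩,
      fun h => ⟨⟨trivial, h.1⟩, h.2.2⟩⟩

open scoped Classical in
/-- **The number of classes of nontrivial subsections.** -/
theorem relIndex_mul_sub_blockRank (hM : IsPModular p M) (hB : IsPBlock M B) {P : Subgroup G}
    (hPD : IsDefectGroup p M B P) (hP1 : P ≠ ⊥) (hcyc : IsCyclic P)
    {c : Set (IrrCharacter (Subgroup.centralizer (P : Set G)))}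
    (hc : IsInducedBlock M (Subgroup.centralizer (P : Set G)) c B) :
    ((Subgroup.centralizer (P : Set G)).relIndex
        (pairStab ⊤ P (subEl M (Subgroup.centralizer (P : Set G)) c)) : ℤ) *
      ((Nat.card B : ℤ) - blockRank p B) = (Nat.card P : ℤ) - 1 := by
  have hp : p.Prime := Fact.out
  have hE := isBlockIdem_topEl (M := M) hB
  have hD := (isDefectGroup_topEl_iff (M := M) hB P).1 hPD
  have hPp := hD.2.1
  set cE := subEl M (Subgroup.centralizer (P : Set G)) c with hcE
  set T := pairStab ⊤ P cE with hT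
  have hmax := isMax_of_cyclic hM hB hPD hcyc hc
  have hpair : IsPairIdem p ⊤ P cE := hmax.1.1
  have hCT : (Subgroup.centralizer (P : Set G)) ≤ T := centralizer_le_pairStab hpair
  have hTN : T ≤ Subgroup.normalizer (P : Set G) := pairStab_le_normalizer _ _ _
  have : ((Subgroup.centralizer (P : Set G)).subgroupOf T).Normal := (Subgroup.normal_subgroupOf_iff_le_normalizer hCT).mpr
    (hTN.trans (normalizer_le_normalizer_centralizer P))
  have hfree := (Cfsg.Agent.S4633.result p M hM B hB P hPD hP1 hcyc c hc T (fun g => by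
    rw [hT, mem_pairStab, stabilizesBlock_iff hc.1]
    exact ⟨fun h => ⟨h.1.2, normalizer_le_normalizer_centralizer _ h.1.2, h.2⟩,
      fun h => ⟨⟨trivial, h.1⟩, h.2.2⟩⟩)).2.2
  have hCZ := centralizer_zpowers (G := G)
  have hconjz : ∀ (g x : G), (Subgroup.zpowers x).map (MulAut.conj g).toMonoidHom =
      Subgroup.zpowers (g * x * g⁻¹) := fun g x => by
    rw [MonoidHom.map_zpowers]
    rfl
  have hexists : ∀ x : P, ∃ e, PairLE p ⊤ (Subgroup.zpowers (x : G)) e P cE := fun x => by
    obtain ⟨e, he, -⟩ := hpair.existsUnique_le (Subgroup.zpowers_le.mpr x.2)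
    exact ⟨e, he⟩
  choose e he using hexists
  have hTconj : ∀ t ∈ T, ∀ x : P, t * (x : G) * t⁻¹ ∈ P := fun t ht x =>
    (Subgroup.mem_normalizer_iff.1 (hTN ht) x).1 x.2
  have heT : ∀ t (ht : t ∈ T) (x : P), e ⟨_, hTconj t ht x⟩ = conjA t (e x) := by
    intro t ht x
    have h := (he x).conjA (x := t) trivial
    rw [hconjz, map_conj_eq_self_of_mem_normalizer (hTN ht), (mem_pairStab.1 ht).2] at h
    exact (he ⟨_, hTconj t ht x⟩).unique hpair h
  let U : Finset (P × G) := (Finset.univ.filter fun x : P => (x : G) ≠ 1) ×ˢ Finset.univ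
  let img : P × G → G × MonoidAlgebra (kres M) G := fun a =>
    (a.2 * (a.1 : G) * a.2⁻¹, conjA a.2 (e a.1))
  -- equal images come from the inertia group and the centralizer
  have hfib : ∀ a ∈ U, ∀ b ∈ U, img a = img b → ∃ t ∈ T, (b.1 : G) = t * a.1 * t⁻¹ ∧
      a.2⁻¹ * b.2 * t ∈ Subgroup.centralizer ({(a.1 : G)} : Set G) := by
    rintro ⟨x, g⟩ - ⟨y, g'⟩ - hab
    simp only [img, Prod.mk.injEq] at hab
    obtain ⟨h1, h2⟩ := hab
    set h := g'⁻¹ * g with hh
    have hy' : h * (x : G) * h⁻¹ = (y : G) := by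
      calc h * (x : G) * h⁻¹ = g'⁻¹ * (g * (x : G) * g⁻¹) * g' := by rw [hh]; group
        _ = (y : G) := by rw [h1]; group
    have he' : conjA h (e x) = e y := by
      rw [hh, ← conjA_conjA, h2, conjA_conjA, inv_mul_cancel, conjA_one_left]
    set R := Subgroup.zpowers (x : G) with hR
    have hRP : R ≤ P := Subgroup.zpowers_le.mpr x.2
    have hR'P : R.map (MulAut.conj h).toMonoidHom ≤ P := by
      rw [hR, hconjz, hy']
      exact Subgroup.zpowers_le.mpr y.2
    have hhR : PairLE p ⊤ (R.map (MulAut.conj h).toMonoidHom) (conjA h (e x)) P cE := by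
      rw [hR, hconjz, hy', he']
      exact he y
    have hcar : Carries p P cE R h := ⟨e x, he x, hhR⟩
    have hfn : IsDefectGroupIdem p
        (pairStab ⊤ (R.map (MulAut.conj h).toMonoidHom) (conjA h (e x))) (conjA h (e x))
        (P ⊓ Subgroup.normalizer ((R.map (MulAut.conj h).toMonoidHom : Subgroup G) : Set G)) := by
      refine (isDefectGroupIdem_pairStab_iff hE hmax hhR).mp fun z _ => ?_
      rw [inf_eq_left.mpr (le_normalizer_of_le hcyc hR'P)]
      exact Subgroup.card_le_of_le inf_le_left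
    obtain ⟨c', hc', hcar'⟩ := Carries.extend hE hmax (he x) hcar hfn hRP
      (le_inf le_rfl (le_normalizer_of_le hcyc hRP))
      ((Subgroup.map_mono (le_centralizer_of_le hcyc hRP)).trans
        (le_of_eq_of_le (map_conj_centralizer R h) le_sup_left))
    set t := c' * h with ht
    have htP : P.map (MulAut.conj t).toMonoidHom = P :=
      Subgroup.eq_of_le_of_card_ge hcar'.le.2 (card_map_conj P t).ge
    have htc : conjA t cE = cE := by
      have hh' := hcar'.pairLE hpair (PairLE.refl ⊤ P cE)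
      rw [htP] at hh'
      exact hh'.unique hpair (PairLE.refl ⊤ P cE)
    have htT : t ∈ T := mem_pairStab.2 ⟨⟨trivial, mem_normalizer_of_map_conj_le htP.le⟩, htc⟩
    have hmem : h * (x : G) * h⁻¹ ∈ R.map (MulAut.conj h).toMonoidHom :=
      ⟨x, Subgroup.mem_zpowers _, rfl⟩
    have hcy : c' * (y : G) * c'⁻¹ = y := by
      rw [← hy', ← Subgroup.mem_centralizer_iff.mp hc' _ hmem, mul_inv_cancel_right]
    have hty : t * (x : G) * t⁻¹ = y := by
      calc t * (x : G) * t⁻¹ = c' * (h * x * h⁻¹) * c'⁻¹ := by rw [ht]; group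
        _ = y := by rw [hy', hcy]
    refine ⟨t, htT, hty.symm, Subgroup.mem_centralizer_singleton_iff.2 ?_⟩
    calc g⁻¹ * g' * t * x = g⁻¹ * g' * (t * x * t⁻¹) * t := by group
      _ = h⁻¹ * (h * x * h⁻¹) * t := by rw [hty, hy', hh]; group
      _ = _ := by rw [hh]; group
  -- the fibres
  have hfibcard : ∀ w ∈ U.image img,
      (U.filter fun a => img a = w).card =
        (Subgroup.centralizer (P : Set G)).relIndex T * Nat.card (Subgroup.centralizer ({w.1} : Set G)) := by
    intro w hw
    obtain ⟨⟨x, g⟩, hxg, rfl⟩ := Finset.mem_image.mp hw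
    have hcard : Nat.card (Subgroup.centralizer ({(img (x, g)).1} : Set G)) =
        Nat.card (Subgroup.centralizer ({(x : G)} : Set G)) := by
      show Nat.card (Subgroup.centralizer ({g * (x : G) * g⁻¹} : Set G)) = _
      rw [← hCZ, ← hCZ, ← hconjz, ← map_conj_centralizer, card_map_conj]
    have hx1 : (x : G) ≠ 1 := by simpa [U] using hxg
    have hCx : (Subgroup.centralizer (P : Set G)) ≤ Subgroup.centralizer ({(x : G)} : Set G) :=
      Subgroup.centralizer_le (Set.singleton_subset_iff.2 x.2)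
    set cos := (Set.toFinite {ω : G ⧸ (Subgroup.centralizer (P : Set G)) | ω.out ∈ T}).toFinset with hcos
    have hcoscard : cos.card = (Subgroup.centralizer (P : Set G)).relIndex T := by
      have h := cosetSum_const (G := G) (N := ℕ) hCT 1
      rw [cosetSum, Finset.sum_const, smul_eq_mul, mul_one, smul_eq_mul, mul_one] at h
      exact h
    rw [hcard, ← hcoscard, Nat.card_eq_fintype_card, ← Finset.card_univ, ← Finset.card_product]
    symm
    refine Finset.card_bij (fun a ha => (⟨a.1.out * x * a.1.out⁻¹,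
        hTconj _ (mem_cosets.1 (Finset.mem_product.1 ha).1) x⟩,
        g * (a.2 : G) * a.1.out⁻¹)) (fun a ha => ?_) (fun a ha b hb hab => ?_) fun b hb => ?_
    · have ht := mem_cosets.1 (Finset.mem_product.1 ha).1
      simp only [Finset.mem_filter]
      refine ⟨?_, ?_⟩
      · simp only [U, Finset.mem_product, Finset.mem_univ, and_true, Finset.mem_filter, true_and]
        intro h
        exact hx1 ((MulAut.conj a.1.out).injective (h.trans (map_one _).symm))
      · simp only [img, Prod.mk.injEq]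
        have hz : (a.2 : G) * (x : G) = x * a.2 := Subgroup.mem_centralizer_singleton_iff.mp a.2.2
        refine ⟨?_, ?_⟩
        · calc g * (a.2 : G) * a.1.out⁻¹ * (a.1.out * x * a.1.out⁻¹) *
              (g * (a.2 : G) * a.1.out⁻¹)⁻¹ = g * ((a.2 : G) * x) * (a.2 : G)⁻¹ * g⁻¹ := by group
            _ = _ := by rw [hz]; group
        · rw [heT _ ht, conjA_conjA, inv_mul_cancel_right, ← conjA_conjA,
            ((he x).isPair_left hpair).conjA_eq_of_mem_centralizer (by rw [hCZ]; exact a.2.2)]
    · simp only [Prod.mk.injEq, Subtype.mk.injEq] at hab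
      obtain ⟨h1, h2⟩ := hab
      have hta := mem_cosets.1 (Finset.mem_product.1 ha).1
      have htb := mem_cosets.1 (Finset.mem_product.1 hb).1
      have hmem : a.1.out⁻¹ * b.1.out ∈ (Subgroup.centralizer (P : Set G)) := by
        refine hfree _ (T.mul_mem (T.inv_mem hta) htb) x x.2 hx1 ?_
        calc a.1.out⁻¹ * b.1.out * x * (a.1.out⁻¹ * b.1.out)⁻¹ =
            a.1.out⁻¹ * (b.1.out * x * b.1.out⁻¹) * a.1.out := by group
          _ = _ := by rw [← h1]; group
      have h0 : a.1 = b.1 := by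
        rw [← QuotientGroup.out_eq' a.1, ← QuotientGroup.out_eq' b.1]
        exact QuotientGroup.eq.2 hmem
      refine Prod.ext h0 (Subtype.ext ?_)
      rw [h0] at h2
      exact mul_left_cancel (mul_right_cancel h2)
    · simp only [Finset.mem_filter] at hb
      obtain ⟨t, ht, hy, hz⟩ := hfib (x, g) hxg b hb.1 hb.2.symm
      set ω : G ⧸ (Subgroup.centralizer (P : Set G)) := (t : G ⧸ (Subgroup.centralizer (P : Set G))) with hω
      have hωT : ω.out ∈ T := (out_mem_iff hCT t).2 ht
      have hd : ω.out⁻¹ * t ∈ (Subgroup.centralizer (P : Set G)) := QuotientGroup.eq.1 (QuotientGroup.out_eq' _)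
      have hdx : ω.out⁻¹ * t * x = x * (ω.out⁻¹ * t) :=
        Subgroup.mem_centralizer_singleton_iff.1 (hCx hd)
      refine ⟨(ω, ⟨g⁻¹ * b.2 * ω.out, ?_⟩),
        Finset.mem_product.2 ⟨mem_cosets.2 hωT, Finset.mem_univ _⟩, ?_⟩
      · have := Subgroup.mul_mem _ hz (Subgroup.inv_mem _ (hCx hd))
        rwa [show g⁻¹ * b.2 * t * (ω.out⁻¹ * t)⁻¹ = g⁻¹ * b.2 * ω.out by group] at this
      · refine Prod.ext (Subtype.ext ?_) ?_
        · show ω.out * x * ω.out⁻¹ = (b.1 : G)
          rw [hy]
          calc ω.out * x * ω.out⁻¹ = ω.out * (x * (ω.out⁻¹ * t)) * t⁻¹ := by group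
            _ = _ := by rw [← hdx]; group
        · show g * (g⁻¹ * b.2 * ω.out) * ω.out⁻¹ = b.2
          group
  have hUcard : U.card = (Nat.card P - 1) * Nat.card G := by
    rw [Finset.card_product, Finset.card_univ, Nat.card_eq_fintype_card (α := G)]
    congr 1
    rw [Finset.filter_congr (q := fun x : P => x ≠ 1) fun x _ => by simp,
      Finset.filter_ne', Finset.card_erase_of_mem (Finset.mem_univ _), Finset.card_univ,
      Nat.card_eq_fintype_card]
  set X := Finset.univ.filter fun x : G => (∃ i : ℕ, orderOf x = p ^ i) ∧ x ≠ 1 with hX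
  have hS : ∀ w ∈ U.image img, w.1 ∈ X ∧ ∃ β : Set (IrrCharacter (Subgroup.centralizer ({w.1} : Set G))),
      IsInducedBlock M (Subgroup.centralizer ({w.1} : Set G)) β B ∧
        subEl M (Subgroup.centralizer ({w.1} : Set G)) β = w.2 := by
    intro w hw
    obtain ⟨⟨x, g⟩, hxg, rfl⟩ := Finset.mem_image.mp hw
    simp only [U, Finset.mem_product, Finset.mem_filter, Finset.mem_univ, true_and, and_true] at hxg
    have hof := (((he x).pairOf_iff hE hpair).mpr hmax.1).conjA hE.1 (x := g) trivial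
    rw [hconjz] at hof
    obtain ⟨j, hj⟩ := IsPGroup.iff_orderOf.1 hPp x
    refine ⟨?_, ?_⟩
    · simp only [X, Finset.mem_filter, Finset.mem_univ, true_and, img]
      refine ⟨⟨j, ?_⟩, fun h => hxg ?_⟩
      · rw [show g * (x : G) * g⁻¹ = MulAut.conj g (x : G) from rfl, MulEquiv.orderOf_eq,
          Subgroup.orderOf_coe, hj]
      · exact (MulAut.conj g).injective (h.trans (map_one _).symm)
    · show ∃ β : Set (IrrCharacter (Subgroup.centralizer ({g * (x : G) * g⁻¹} : Set G))),
        IsInducedBlock M (Subgroup.centralizer ({g * (x : G) * g⁻¹} : Set G)) β B ∧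
          subEl M _ β = conjA g (e x)
      have hb := hof.1.2.2
      rw [top_inf_eq, hCZ] at hb
      obtain ⟨β, hβ, hβe⟩ := exists_subEl_eq (M := M) hb
      refine ⟨β, (isInducedBlock_iff_brOver hM hof.1.1 ?_ (hCZ _).le ?_ hβ hB).mpr ?_, hβe⟩
      · exact Subgroup.zpowers_le.mpr (Subgroup.mem_centralizer_singleton_iff.mpr rfl)
      · rw [← hCZ]; exact Subgroup.centralizer_le_normalizer _
      · rw [hβe]; exact hof.2
  -- every subsection comes from the defect group and has rank one
  have hsurj : ∀ y ∈ X, ∀ β : Set (IrrCharacter (Subgroup.centralizer ({y} : Set G))),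
      IsInducedBlock M (Subgroup.centralizer ({y} : Set G)) β B →
        blockRank p β = 1 ∧ (y, subEl M (Subgroup.centralizer ({y} : Set G)) β) ∈ U.image img := by
    intro y hy β hβ
    obtain ⟨⟨i, hi⟩, hy1⟩ := (Finset.mem_filter.1 hy).2
    have hQp : IsPGroup p (Subgroup.zpowers y) :=
      IsPGroup.of_card (n := i) (by rw [Nat.card_zpowers, hi])
    have hQC : Subgroup.zpowers y ≤ Subgroup.centralizer ({y} : Set G) :=
      Subgroup.zpowers_le.mpr (Subgroup.mem_centralizer_singleton_iff.mpr rfl)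
    have hbr : BrOver (Subgroup.zpowers y) (subEl M (Subgroup.centralizer ({y} : Set G)) β) (topEl M B) :=
      (isInducedBlock_iff_brOver hM hQp hQC (hCZ y).le
        (by rw [← hCZ]; exact Subgroup.centralizer_le_normalizer _) hβ.1 hB).1 hβ
    refine ⟨blockRank_eq_one_of_pair hM hB hPD hP1 hcyc (hCZ y).symm hQp
      (fun h => hy1 (Subgroup.zpowers_eq_bot.1 h)) hβ.1 hbr, ?_⟩
    have hof : IsPairOfIdem p ⊤ (topEl M B) (Subgroup.zpowers y)
        (subEl M (Subgroup.centralizer ({y} : Set G)) β) :=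
      ⟨⟨hQp, le_top, by rw [top_inf_eq, hCZ]; exact isBlockIdem_subEl hβ.1⟩, hbr⟩
    obtain ⟨g, -, hle⟩ := hof.exists_conj_le hE hmax
    rw [hconjz] at hle
    have hxP : g * y * g⁻¹ ∈ P := hle.le (Subgroup.mem_zpowers _)
    refine Finset.mem_image.2 ⟨(⟨_, hxP⟩, g⁻¹), ?_, ?_⟩
    · simp only [U, Finset.mem_product, Finset.mem_univ, and_true, Finset.mem_filter, true_and]
      exact fun h => hy1 ((MulAut.conj g).injective (h.trans (map_one _).symm))
    · simp only [img, Prod.mk.injEq]
      refine ⟨by group, ?_⟩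
      rw [(he ⟨_, hxP⟩).unique hpair hle, conjA_conjA, inv_mul_cancel, conjA_one_left]
  have hweight : ∀ y ∈ X, ∑ _w ∈ (U.image img).filter (fun w => w.1 = y),
      Nat.card (Subgroup.centralizer ({y} : Set G)) =
        KLSum.localWeight p M B (Subgroup.centralizer ({y} : Set G)) := by
    intro y hy
    rw [Finset.sum_const, smul_eq_mul, mul_comm, KLSum.localWeight]
    congr 1
    have := Fintype.ofFinite (IrrCharacter (Subgroup.centralizer ({y} : Set G)))
    rw [finsum_mem_eq_toFinset_sum]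
    set S := {β : Set (IrrCharacter (Subgroup.centralizer ({y} : Set G))) |
      IsInducedBlock M (Subgroup.centralizer ({y} : Set G)) β B}.toFinset with hSdef
    have hS' : ∀ β, β ∈ S → IsInducedBlock M (Subgroup.centralizer ({y} : Set G)) β B :=
      fun β hβ => show β ∈ {β : Set (IrrCharacter (Subgroup.centralizer ({y} : Set G))) |
          IsInducedBlock M (Subgroup.centralizer ({y} : Set G)) β B} from by simpa [hSdef] using hβ
    rw [Finset.sum_congr rfl fun β hβ => (hsurj y hy β (hS' β hβ)).1,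
      ← Finset.card_eq_sum_ones]
    symm
    refine Finset.card_bij (fun β _ => (y, subEl M (Subgroup.centralizer ({y} : Set G)) β))
      (fun β hβ => Finset.mem_filter.2 ⟨(hsurj y hy β (hS' β hβ)).2, rfl⟩)
      (fun β hβ β' hβ' h => subEl_injective (hS' β hβ).1 (hS' β' hβ').1
        (congrArg Prod.snd h)) (fun w hw => ?_)
    obtain ⟨hwU, rfl⟩ := Finset.mem_filter.mp hw
    obtain ⟨-, β, hβ, hβe⟩ := hS w hwU
    exact ⟨β, Set.mem_toFinset.mpr hβ, Prod.ext rfl hβe⟩
  have heq : (Nat.card P - 1) * Nat.card G =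
      (Subgroup.centralizer (P : Set G)).relIndex T * ∑ x ∈ X, KLSum.localWeight p M B (Subgroup.centralizer ({x} : Set G)) := by
    rw [← hUcard, Finset.card_eq_sum_card_image img U, Finset.sum_congr rfl hfibcard,
      ← Finset.mul_sum,
      ← Finset.sum_fiberwise_of_maps_to (g := Prod.fst) (t := X) (fun w hw => (hS w hw).1)]
    congr 1
    refine Finset.sum_congr rfl fun y hy => ?_
    rw [← hweight y hy]
    exact Finset.sum_congr rfl fun w hw => by rw [(Finset.mem_filter.mp hw).2]
  have hsub := KLSum.card_mul_sub_block hM hB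
  rw [← Nat.cast_sum] at hsub
  have hGpos : (0 : ℤ) < Nat.card G := by exact_mod_cast Nat.card_pos
  refine mul_left_cancel₀ hGpos.ne' ?_
  rw [mul_left_comm, hsub, ← Nat.cast_mul, ← heq, Nat.cast_mul, Nat.cast_sub Nat.card_pos]
  push_cast
  ring

end CfsgLib.Blocks.Cyclic
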