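import Cfsg.Agent.Blocks.Cyclic.Rank
import Cfsg.Agent.Blocks.Cyclic.Modules
import Cfsg.Agent.Blocks.Cyclic.SimpleCount
import Cfsg.Agent.Blocks.Cyclic.SubsectionCount
import Cfsg.Agent.Blocks.HeightZero.Scaled
import Cfsg.Agent.Blocks.Orth.BrauerFeit
import Cfsg.Agent.Blocks.CyclicInertia
import Cfsg.Agent.Blocks.Subsection.Major
import Cfsg.Agent.Chars.Brauer.PiPart
import Cfsg.Agent.Chars.Brauer.Defect
import Mathlib.Algebra.Category.ModuleCat.Basic

/-!
# Blocks with cyclic defect group and trivial inertia: the dimension of the algebra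

All characters have the same degree and the same regular part, and the degree is at most the
dimension of the irreducible module, since its Brauer character is an integral multiple.
-/

set_option autoImplicit false
open scoped MonoidAlgebra ComplexConjugate
open MonoidAlgebra (single)
open Cfsg CfsgLib

namespace CfsgLib.Blocks.Cyclic

universe u

variable {K : Type u} [Group K] [Fintype K] {p : ℕ} [Fact p.Prime] {M : Ideal AlgInt}
  [M.IsMaximal] [CharP (kres M) p] {B : Set (IrrCharacter K)}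

/-- Number of characters and their common regular part. -/
theorem card_and_regular_of_trivial_inertia (hM : IsPModular p M) (hB : IsPBlock M B)
    {P : Subgroup K} (hPD : IsDefectGroup p M B P) (hP1 : P ≠ ⊥) (hcyc : IsCyclic P)
    {c : Set (IrrCharacter (Subgroup.centralizer (P : Set K)))}
    (hc : IsInducedBlock M (Subgroup.centralizer (P : Set K)) c B)
    (htriv : ∀ t ∈ Subgroup.normalizer (P : Set K),
      conjA t (subEl M (Subgroup.centralizer (P : Set K)) c) =
        subEl M (Subgroup.centralizer (P : Set K)) c → t ∈ Subgroup.centralizer (P : Set K)) :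
    blockRank p B = 1 ∧ Nat.card B = Nat.card P ∧
      ∀ χ ∈ B, ∀ ψ ∈ B, ∀ x : K, ¬ p ∣ orderOf x → (χ : K → ℂ) x = (ψ : K → ℂ) x := by
  classical
  have hl := CyclicInertia.blockRank_eq_one hM hB hPD hcyc rfl hc htriv
  have hcount := relIndex_mul_sub_blockRank hM hB hPD hP1 hcyc hc
  have hT : (Subgroup.centralizer (P : Set K)).relIndex
      (pairStab ⊤ P (subEl M (Subgroup.centralizer (P : Set K)) c)) = 1 := by
    rw [Subgroup.relIndex_eq_one]
    intro t ht
    exact htriv t (pairStab_le_normalizer _ _ _ ht) (mem_pairStab.1 ht).2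
  rw [hT, hl, Nat.cast_one, one_mul] at hcount
  have hcard : Nat.card B = Nat.card P := by omega
  refine ⟨hl, hcard, ?_⟩
  obtain ⟨R, hR⟩ := BrauerFeit.exists_regMatrix hM hB
  obtain ⟨χ₀, hχ₀⟩ := nonempty_of_isPBlock hB
  set r₀ := HeightZero.regPair p (χ₀ : K → ℂ) (χ₀ : K → ℂ) with hr₀
  have hdeg : ∀ χ : IrrCharacter K, (charDegree (χ : K → ℂ) : ℂ) ≠ 0 := fun χ =>
    Nat.cast_ne_zero.2 (Chars.charDegree_pos χ).ne'
  have h1reg : ¬ p ∣ orderOf (1 : K) := by simp [hM.1.ne_one]
  have hprop : ∀ χ ∈ B, ∀ x : K, ¬ p ∣ orderOf x → (χ : K → ℂ) x =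
      (charDegree (χ : K → ℂ) : ℂ) / (charDegree (χ₀ : K → ℂ) : ℂ) * (χ₀ : K → ℂ) x := by
    intro χ hχ x hx
    have hv : (⟨pRegularPart p (χ₀ : K → ℂ), Submodule.subset_span ⟨χ₀, hχ₀, rfl⟩⟩ :
        Submodule.span ℂ ((fun χ : IrrCharacter K => pRegularPart p (χ : K → ℂ)) '' B)) ≠ 0 := by
      intro h
      have h1 := congrFun (congrArg Subtype.val h) 1
      exact hdeg χ₀ (by simpa [pRegularPart, IsPRegular, h1reg, hM.1.ne_one, Chars.coe_charDegree] using h1)
    obtain ⟨t, ht⟩ := (finrank_eq_one_iff_of_nonzero' _ hv).1 hl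
      ⟨pRegularPart p (χ : K → ℂ), Submodule.subset_span ⟨χ, hχ, rfl⟩⟩
    have ht' : ∀ y, ¬ p ∣ orderOf y → t * (χ₀ : K → ℂ) y = (χ : K → ℂ) y := fun y hy => by
      simpa [pRegularPart, IsPRegular, hy] using congrFun (congrArg Subtype.val ht) y
    have h1 := ht' 1 h1reg
    rw [← Chars.coe_charDegree, ← Chars.coe_charDegree] at h1
    rw [← ht' x hx, ← h1, mul_div_assoc, div_self (hdeg χ₀), mul_one]
  set t : IrrCharacter K → ℂ := fun χ =>
    (charDegree (χ : K → ℂ) : ℂ) / (charDegree (χ₀ : K → ℂ) : ℂ) with ht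
  set fac : ℂ := (p : ℂ) ^ blockDefect p B / (Nat.card K : ℂ) * r₀ with hfac
  have hval : ∀ χ ∈ B, ∀ ψ ∈ B, (R χ ψ : ℂ) = t χ * t ψ * fac := by
    intro χ hχ ψ hψ
    have h : HeightZero.regPair p (χ : K → ℂ) (ψ : K → ℂ) = t χ * t ψ * r₀ := by
      simp only [hr₀, HeightZero.regPair_eq_sum, Finset.mul_sum]
      refine Finset.sum_congr rfl fun x _ => ?_
      by_cases hx : p ∣ orderOf x
      · simp [hx]
      · rw [if_neg hx, if_neg hx, hprop χ hχ x hx, hprop ψ hψ x⁻¹ (by rwa [orderOf_inv]), ht]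
        ring
    rw [hR χ hχ ψ, h, hfac]
    ring
  have hr₀0 : r₀ ≠ 0 := by
    intro h0
    have h := congrArg Complex.re h0
    rw [hr₀, HeightZero.regPair_eq_sum, Complex.re_sum, Complex.zero_re] at h
    have hle : ∀ x : K, 0 ≤ (if p ∣ orderOf x then (0 : ℂ)
        else (χ₀ : K → ℂ) x * (χ₀ : K → ℂ) x⁻¹).re := by
      intro x
      split_ifs
      · simp
      · rw [Chars.map_inv_eq_conj (Chars.isCharacter_coe χ₀), Complex.mul_conj, Complex.ofReal_re]
        exact Complex.normSq_nonneg _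
    have h1 := (Finset.sum_eq_zero_iff_of_nonneg fun x _ => hle x).1 h 1 (Finset.mem_univ _)
    rw [if_neg h1reg, Chars.map_inv_eq_conj (Chars.isCharacter_coe χ₀), Complex.mul_conj,
      Complex.ofReal_re, Complex.normSq_eq_zero] at h1
    exact hdeg χ₀ (by rw [Chars.coe_charDegree]; exact h1)
  have ht0 : ∀ χ, t χ ≠ 0 := fun χ => div_ne_zero (hdeg χ) (hdeg χ₀)
  have hfac0 : fac ≠ 0 := mul_ne_zero (div_ne_zero (pow_ne_zero _ (Nat.cast_ne_zero.2 hM.1.ne_zero))
    Chars.natCard_ne_zero) hr₀0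
  have hqpos : (0 : ℤ) < (p : ℤ) ^ blockDefect p B := pow_pos (by exact_mod_cast hM.1.pos) _
  have hone : ∀ χ ∈ B.toFinite.toFinset, 1 ≤ R χ χ := by
    intro χ hχ'
    have hχ := (Set.Finite.mem_toFinset _).1 hχ'
    have hnn : 0 ≤ R χ χ := nonneg_of_mul_nonneg_right
      (BrauerFeit.sum_sq_regMatrix hR hM hB hχ ▸ Finset.sum_nonneg fun η _ => sq_nonneg _) hqpos
    have hne : R χ χ ≠ 0 := fun h0 => by
      have h' := hval χ hχ χ hχ
      rw [h0, Int.cast_zero, eq_comm, mul_eq_zero, mul_eq_zero] at h'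
      simp [ht0, hfac0] at h'
    omega
  -- the trace is `q`
  have htr : ∑ χ ∈ B.toFinite.toFinset, R χ χ = (p : ℤ) ^ blockDefect p B := by
    apply Int.cast_injective (α := ℂ)
    refine mul_right_cancel₀ (mul_ne_zero (mul_ne_zero (ht0 χ₀) (ht0 χ₀)) hfac0) ?_
    have h := congrArg (fun z : ℤ => (z : ℂ)) (BrauerFeit.sum_sq_regMatrix hR hM hB hχ₀)
    simp only [Int.cast_sum, Int.cast_pow, Int.cast_mul] at h
    rw [Finset.sum_congr rfl fun ψ hψ => by
      rw [hval χ₀ hχ₀ ψ ((Set.Finite.mem_toFinset _).1 hψ)]] at h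
    rw [hval χ₀ hχ₀ χ₀ hχ₀] at h
    rw [Int.cast_sum, Int.cast_pow, Finset.sum_mul, ← h]
    refine Finset.sum_congr rfl fun ψ hψ => ?_
    have hψ' := (Set.Finite.mem_toFinset _).1 hψ
    rw [hval ψ hψ' ψ hψ']
    ring
  have hdiag : ∀ χ ∈ B, R χ χ = 1 := by
    have hs : ∑ χ ∈ B.toFinite.toFinset, (R χ χ - 1) = 0 := by
      rw [Finset.sum_sub_distrib, htr, Finset.sum_const, nsmul_one,
        ← Set.ncard_eq_toFinset_card B, ← Nat.card_coe_set_eq, hcard, Contrib.natCard_defectGroup hM hB hPD, Nat.cast_pow,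
        sub_self]
    intro χ hχ
    have := (Finset.sum_eq_zero_iff_of_nonneg fun η hη => by linarith [hone η hη]).1 hs χ
      ((Set.Finite.mem_toFinset _).2 hχ)
    linarith
  have hdeq : ∀ χ ∈ B, charDegree (χ : K → ℂ) = charDegree (χ₀ : K → ℂ) := by
    intro χ hχ
    have e1 := hval χ hχ χ hχ
    have e2 := hval χ₀ hχ₀ χ₀ hχ₀
    rw [hdiag χ hχ, Int.cast_one] at e1
    rw [hdiag χ₀ hχ₀, Int.cast_one] at e2
    have h4 := mul_right_cancel₀ hfac0 (e1.symm.trans e2)
    simp only [ht, div_self (hdeg χ₀), ← sq, one_pow] at h4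
    rw [div_pow, div_eq_one_iff_eq (pow_ne_zero _ (hdeg χ₀))] at h4
    exact Nat.pow_left_injective two_ne_zero (by exact_mod_cast h4)
  intro χ hχ ψ hψ x hx
  rw [hprop χ hχ x hx, hprop ψ hψ x hx, hdeq χ hχ, hdeq ψ hψ]

omit [Fact p.Prime] [CharP (kres M) p] in
/-- In a block of rank one all irreducible modules have the same kernel. -/
theorem apply_eq_zero_of_rank_one (hM : IsPModular p M) (hB : IsPBlock M B)
    (hl : blockRank p B = 1) {V S : Type u} [AddCommGroup V] [Module (kres M) V]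
    [FiniteDimensional (kres M) V] [AddCommGroup S] [Module (kres M) S]
    [FiniteDimensional (kres M) S] {ΦV : (kres M)[K] →ₐ[kres M] Module.End (kres M) V}
    {Φ : (kres M)[K] →ₐ[kres M] Module.End (kres M) S} (hV : IsIrredAct ΦV) (hΦ : IsIrredAct Φ)
    (hbV : ΦV (topEl M B) = 1) (hb : Φ (topEl M B) = 1) :
    ∀ a, ΦV a = 0 → Φ a = 0 := by
  classical
  intro a₀ ha₀
  by_contra hne
  have hother : ∃ a, Φ a = 0 ∧ ΦV a ≠ 0 := by
    by_contra hcon
    simp only [not_exists, not_and, not_not] at hcon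
    obtain ⟨ψ, hψ⟩ := exists_transfer hΦ hV hcon
    exact hne (ψ.injective (by rw [hψ, ha₀, map_zero]))
  obtain ⟨a₁, ha₁, ha₁'⟩ := hother
  let X : Bool → ModuleCat.{u} (kres M) := fun i =>
    cond i (ModuleCat.of (kres M) V) (ModuleCat.of (kres M) S)
  let F : (i : Bool) → (kres M)[K] →ₐ[kres M] Module.End (kres M) (X i) := fun i =>
    match i with | true => ΦV | false => Φ
  have iF : ∀ i, FiniteDimensional (kres M) (X i) := fun i =>
    match i with
    | true => ‹FiniteDimensional (kres M) V›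
    | false => ‹FiniteDimensional (kres M) S›
  have h := card_le_blockRank hM hB (S := fun i => X i) F
    (fun i => match i with | true => hV | false => hΦ)
    (fun i => match i with | true => hbV | false => hb)
    (fun i j hij => match i, j with
      | true, true => absurd rfl hij
      | false, false => absurd rfl hij
      | true, false => ⟨a₁, ha₁', ha₁⟩
      | false, true => ⟨a₀, hne, ha₀⟩)
  rw [Fintype.card_bool, hl] at h
  omega

variable {n₀ q : ℕ} {χ₀ : IrrCharacter K}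

omit [Fact p.Prime] [CharP (kres M) p] in
/-- The coefficients of the block idempotent on regular elements. -/
theorem blockCoeff_regular (hcard : Nat.card B = q)
    (hdeg : ∀ χ ∈ B, (χ : K → ℂ) 1 = n₀)
    (hreg : ∀ χ ∈ B, ∀ x : K, ¬ p ∣ orderOf x → (χ : K → ℂ) x = (χ₀ : K → ℂ) x) {g : K}
    (hg : ¬ p ∣ orderOf g) :
    blockCoeff B g = (Nat.card K : ℂ)⁻¹ * (q * n₀ * (χ₀ : K → ℂ) g⁻¹) := by
  classical
  have := finite_irrCharacter (G := K)
  have := Fintype.ofFinite (IrrCharacter K)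
  rw [blockCoeff_eq_sum, ← Finset.sum_filter]
  congr 1
  rw [Finset.sum_congr rfl fun χ hχ => by
      rw [hdeg χ (Finset.mem_filter.1 hχ).2,
        hreg χ (Finset.mem_filter.1 hχ).2 g⁻¹ (by rwa [orderOf_inv])],
    Finset.sum_const, nsmul_eq_mul]
  have : (Finset.univ.filter fun χ => χ ∈ B).card = q := by
    rw [← hcard, Nat.card_eq_card_toFinset]
    congr 1
    ext; simp
  rw [this, mul_assoc]

omit [CharP (kres M) p] [Fact p.Prime] in
/-- The rank on `V` of a linear-character idempotent of a `p'`-group. -/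
theorem exists_nat_rank (hM : IsPModular p M) (hB : IsPBlock M B) (hcard : Nat.card B = q)
    (hq : q ≠ 0) (hn₀ : n₀ ≠ 0) (hdeg : ∀ χ ∈ B, (χ : K → ℂ) 1 = n₀)
    (hreg : ∀ χ ∈ B, ∀ x : K, ¬ p ∣ orderOf x → (χ : K → ℂ) x = (χ₀ : K → ℂ) x)
    (hχ₀ : χ₀ ∈ B)
    {V : Type u} [AddCommGroup V] [Module (kres M) V] [FiniteDimensional (kres M) V]
    {ΦV : (kres M)[K] →ₐ[kres M] Module.End (kres M) V} (hV : IsIrredAct ΦV)
    (huniq : ∀ (S : Type u) [AddCommGroup S] [Module (kres M) S] [FiniteDimensional (kres M) S]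
      (Φ : (kres M)[K] →ₐ[kres M] Module.End (kres M) S), IsIrredAct Φ → Φ (topEl M B) = 1 →
        ∀ a, ΦV a = 0 → Φ a = 0)
    {R : Type u} [Group R] [Fintype R] (hR : ¬ p ∣ Nat.card R) (j : R →* K) (μ : R →* ℂˣ) :
    ∃ r : ℕ, (Module.finrank (kres M) V : ℂ) *
      ((Nat.card R : ℂ)⁻¹ * ∑ x : R, (χ₀ : K → ℂ) (j x) * (μ x⁻¹ : ℂˣ)) = (n₀ : ℂ) * r := by
  classical
  set b := topEl M B with hb
  have hregR : ∀ x : R, ¬ p ∣ orderOf (j x) := fun x h =>
    hR (h.trans ((orderOf_map_dvd j x).trans (orderOf_dvd_natCard x)))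
  have hR0 : (Nat.card R : ℂ) ≠ 0 := Nat.cast_ne_zero.2 Nat.card_pos.ne'
  have hinv : MemLocalRing M (Nat.card R : ℂ)⁻¹ := by
    refine memLocalRing_inv (natCast_mem (localRing M) _) ?_
    have h := HeightZero.not_memLocalIdeal_natCast_div hM (m := Nat.card R) (n := 1)
      Nat.card_pos.ne' one_ne_zero (by
        rw [Nat.factorization_eq_zero_of_not_dvd hR, Nat.factorization_one, Finsupp.zero_apply])
    simpa using h
  have hμ : ∀ x : R, MemLocalRing M ((μ x : ℂˣ) : ℂ) := fun x => by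
    refine memLocalRing_of_isIntegral
      (IsIntegral.of_pow Nat.card_pos (x := ((μ x : ℂˣ) : ℂ)) (n := Nat.card R) ?_)
    rw [← Units.val_pow_eq_pow_val, ← map_pow, pow_card_eq_one', map_one, Units.val_one]
    exact isIntegral_one
  let ê : GA K := ∑ x : R, single (j x) ((Nat.card R : ℂ)⁻¹ * (μ x⁻¹ : ℂˣ))
  have hêloc : IsLocalElt M ê := fun g => by
    rw [MonoidAlgebra.coeff_sum, Finsupp.finsetSum_apply]
    refine (localRing M).sum_mem fun x _ => ?_
    rw [MonoidAlgebra.coeff_single, Finsupp.single_apply]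
    split_ifs
    · exact (localRing M).mul_mem hinv (hμ _)
    · exact (localRing M).zero_mem
  have hêidem : ê * ê = ê := by
    simp only [ê, Finset.sum_mul, Finset.mul_sum, MonoidAlgebra.single_mul_single, ← map_mul]
    rw [Finset.sum_comm]
    calc ∑ x : R, ∑ y : R, single (j (x * y))
          ((Nat.card R : ℂ)⁻¹ * (μ x⁻¹ : ℂˣ) * ((Nat.card R : ℂ)⁻¹ * (μ y⁻¹ : ℂˣ)))
        = ∑ x : R, ∑ z : R, single (j z)
          ((Nat.card R : ℂ)⁻¹ * ((Nat.card R : ℂ)⁻¹ * (μ z⁻¹ : ℂˣ))) := by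
          refine Finset.sum_congr rfl fun x _ => Fintype.sum_equiv (Equiv.mulLeft x) _ _ fun y => ?_
          simp only [Equiv.coe_mulLeft, mul_inv_rev, map_mul, Units.val_mul]
          congr 1
          ring
      _ = _ := by
          rw [Finset.sum_const, Finset.smul_sum]
          refine Finset.sum_congr rfl fun z _ => ?_
          rw [MonoidAlgebra.smul_single, nsmul_eq_mul, ← mul_assoc, Finset.card_univ,
            ← Nat.card_eq_fintype_card, mul_inv_cancel₀ hR0, one_mul]
  have hbloc : IsLocalElt M (setIdem B) := fun g => memLocalRing_blockCoeff hB g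
  have hcomm : Commute ê (setIdem B) :=
    ((isCentralElt_setIdem B).comm ê).symm
  let zE : localElts M K := ⟨ê, hêloc⟩
  let zB : localElts M K := ⟨setIdem B, hbloc⟩
  have hzE : zE * zE = zE := Subtype.ext hêidem
  have hzB : zB * zB = zB := Subtype.ext (setIdem_mul_self B)
  have hz : zE * zB * (zE * zB) = zE * zB := Subtype.ext (by
    show ê * setIdem B * (ê * setIdem B) = ê * setIdem B
    rw [mul_assoc, ← mul_assoc (setIdem B), ← hcomm.eq, mul_assoc, setIdem_mul_self,
      ← mul_assoc, hêidem])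
  have hredB : reduceHom M K zB = b :=
    MonoidAlgebra.ext (Finsupp.ext fun g => by
      rw [coeff_reduceHom, hb, coeff_topEl, redC_of_mem (memLocalRing_blockCoeff hB g)]
      rfl)
  set e := reduceHom M K zE with he
  have hee : e * e = e := by rw [he, ← map_mul, hzE]
  have hbidem : IsBlockIdem ⊤ b := isBlockIdem_topEl hB
  have heb : Commute e b := commute_of_isFixedBy (isSupportedOn_top e) hbidem.mem.2
  have hd1 := finrank_range_mulLeft_reduce hzB
  have hd2 := finrank_range_mulLeft_reduce hz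
  rw [hredB] at hd1
  rw [map_mul, hredB, ← he] at hd2
  have hc1 : (setIdem B).coeff 1 = (Nat.card K : ℂ)⁻¹ * (q * n₀ * n₀) := by
    simp only [setIdem, coeff_ofFun]
    rw [blockCoeff_regular hcard hdeg hreg (g := 1) (by simp [hM.1.ne_one]), inv_one, hdeg χ₀ hχ₀]
  have hc2 : (ê * setIdem B).coeff 1 = (Nat.card K : ℂ)⁻¹ *
      (q * n₀ * ((Nat.card R : ℂ)⁻¹ * ∑ x : R, (χ₀ : K → ℂ) (j x) * (μ x⁻¹ : ℂˣ))) := by
    simp only [ê, Finset.sum_mul, MonoidAlgebra.coeff_sum, Finsupp.finsetSum_apply,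
      MonoidAlgebra.coeff_single_mul_apply, mul_one, setIdem, coeff_ofFun, Finset.mul_sum]
    refine Finset.sum_congr rfl fun x _ => ?_
    rw [blockCoeff_regular hcard hdeg hreg (g := (j x)⁻¹) (by rw [orderOf_inv]; exact hregR x),
      inv_inv]
    ring
  have hK0 : (Nat.card K : ℂ) ≠ 0 := Chars.natCard_ne_zero
  rw [show ((zB : GA K)).coeff 1 = (setIdem B).coeff 1 from rfl, hc1,
    mul_inv_cancel_left₀ hK0] at hd1
  rw [show ((zE * zB : localElts M K) : GA K).coeff 1 = (ê * setIdem B).coeff 1 from rfl, hc2,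
    mul_inv_cancel_left₀ hK0] at hd2
  let W := LinearMap.range (LinearMap.mulLeft (kres M) b)
  have hW : ∀ a, ∀ v ∈ W, Algebra.lmul (kres M) (kres M)[K] a v ∈ W := by
    rintro a _ ⟨y, rfl⟩
    refine ⟨a * y, ?_⟩
    show b * (a * y) = a * (b * y)
    rw [← mul_assoc, ← (commute_of_isFixedBy (isSupportedOn_top a) hbidem.mem.2).eq, mul_assoc]
  set ΦW := actRestrict (Algebra.lmul (kres M) (kres M)[K]) W hW
  have hbW : ΦW b = 1 := LinearMap.ext fun v => Subtype.ext (by
    obtain ⟨_, y, rfl⟩ := v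
    show b * (b * y) = b * y
    rw [← mul_assoc, hbidem.idem])
  have hrange : (LinearMap.range (ΦW e)).map W.subtype =
      LinearMap.range (LinearMap.mulLeft (kres M) (e * b)) := by
    ext v
    constructor
    · rintro ⟨_, ⟨⟨_, y, rfl⟩, rfl⟩, rfl⟩
      exact ⟨y, show e * b * y = e * (b * y) from mul_assoc _ _ _⟩
    · rintro ⟨y, rfl⟩
      exact ⟨_, ⟨⟨b * y, y, rfl⟩, rfl⟩, show e * (b * y) = e * b * y from (mul_assoc _ _ _).symm⟩
  have hprop := finrank_range_mul_eq hV huniq hee _ W ΦW rfl hbW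
  have hfin : Module.finrank (kres M) (LinearMap.range (ΦW e)) =
      Module.finrank (kres M) (LinearMap.range (LinearMap.mulLeft (kres M) (e * b))) := by
    rw [← hrange]
    exact (Submodule.equivMapOfInjective W.subtype W.injective_subtype _).finrank_eq
  rw [hfin] at hprop
  refine ⟨Module.finrank (kres M) (LinearMap.range (ΦV e)), ?_⟩
  have h := congrArg (fun m : ℕ => (m : ℂ)) hprop
  simp only [Nat.cast_mul] at h
  rw [hd2, show (Module.finrank (kres M) W : ℂ) = _ from hd1] at h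
  have hqn : (q : ℂ) * n₀ ≠ 0 := mul_ne_zero (Nat.cast_ne_zero.2 hq) (Nat.cast_ne_zero.2 hn₀)
  refine mul_left_cancel₀ hqn ?_
  linear_combination h

omit [CharP (kres M) p] [Fact p.Prime] in
/-- The degree of a character is at most the dimension of the irreducible module. -/
theorem le_finrank_of_rank_one (hM : IsPModular p M) (hB : IsPBlock M B) (hcard : Nat.card B = q)
    (hq : q ≠ 0) (hn₀ : n₀ ≠ 0) (hdeg : ∀ χ ∈ B, (χ : K → ℂ) 1 = n₀)
    (hreg : ∀ χ ∈ B, ∀ x : K, ¬ p ∣ orderOf x → (χ : K → ℂ) x = (χ₀ : K → ℂ) x)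
    (hχ₀ : χ₀ ∈ B)
    {V : Type u} [AddCommGroup V] [Module (kres M) V] [FiniteDimensional (kres M) V]
    {ΦV : (kres M)[K] →ₐ[kres M] Module.End (kres M) V} (hV : IsIrredAct ΦV)
    (huniq : ∀ (S : Type u) [AddCommGroup S] [Module (kres M) S] [FiniteDimensional (kres M) S]
      (Φ : (kres M)[K] →ₐ[kres M] Module.End (kres M) S), IsIrredAct Φ → Φ (topEl M B) = 1 →
        ∀ a, ΦV a = 0 → Φ a = 0) :
    n₀ ≤ Module.finrank (kres M) V := by
  classical
  open CfsgLib.Chars CfsgLib.Chars.Brauer CfsgLib.Chars.Exceptional in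
  set n := Module.finrank (kres M) V with hn
  have hnpos : 0 < n := by have := hV.1; exact Module.finrank_pos
  set m := Nat.card K / p ^ (Nat.card K).factorization p with hm
  have hpm : ¬ p ∣ m := Nat.not_dvd_ordCompl hM.1 Nat.card_pos.ne'
  have hKeq : p ^ (Nat.card K).factorization p * m = Nat.card K :=
    Nat.ordProj_mul_ordCompl_eq_self _ _
  have hcop : Nat.Coprime (p ^ (Nat.card K).factorization p) m :=
    Nat.Coprime.pow_left _ (hM.1.coprime_iff_not_dvd.2 hpm)
  set kk := Chars.Brauer.piExp hcop with hkk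
  set cst : ℂ := (n : ℂ) / n₀ with hcst
  let θ : K → ℂ := fun g => cst * (χ₀ : K → ℂ) (g ^ kk)
  have hθcl : IsClassFunction K θ := fun g h => by
    show cst * _ = cst * _
    rw [conj_pow]
    exact congrArg (cst * ·) (Chars.isClassFunction_coe χ₀ _ _)
  -- inner products with linear characters of nilpotent groups
  have hlin : ∀ (E : Type u) [Group E] [Fintype E] [Group.IsNilpotent E] (j : E →* K)
      (μ : E →* ℂˣ), Function.Injective j →
      ∃ z : ℤ, classInner (fun e : E => θ (j e)) (Chars.Brauer.linFun μ) = z := by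
    intro E _ _ _ j μ hj
    have hE : Nat.card E ∣ p ^ (Nat.card K).factorization p * m := by
      rw [hKeq]; exact Subgroup.card_dvd_of_injective j hj
    set π := Chars.Brauer.piHom hcop hE with hπ
    have hππ : ∀ x, π (π x) = π x := fun x => by
      rw [hπ, Chars.Brauer.piHom_apply, Chars.Brauer.piHom_apply]
      exact Chars.Brauer.pow_piExp_of_pow_right hcop (Chars.Brauer.pow_piExp_pow hcop hE x)
    have hθj : ∀ x, θ (j x) = cst * (χ₀ : K → ℂ) (j (π x)) := fun x => by
      show cst * _ = _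
      rw [hπ, Chars.Brauer.piHom_apply, map_pow, hkk]
    have hconj : ∀ x, conj (Chars.Brauer.linFun μ x) = ((μ x⁻¹ : ℂˣ) : ℂ) := fun x =>
      (Chars.map_inv_eq_conj (Chars.Brauer.isCharacter_linFun μ) x).symm
    by_cases hker : ∀ u, π u = 1 → μ u = 1
    · have hμπ : ∀ x, μ (π x) = μ x := fun x => by
        have h1 : π ((π x)⁻¹ * x) = 1 := by rw [map_mul, map_inv, hππ, inv_mul_cancel]
        have h2 := hker _ h1
        rwa [map_mul, map_inv, inv_mul_eq_one] at h2
      have hR : ¬ p ∣ Nat.card π.range := fun h =>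
        hpm (h.trans (Chars.Brauer.card_range_piHom hcop hE))
      obtain ⟨r, hr⟩ := exists_nat_rank hM hB hcard hq hn₀ hdeg hreg hχ₀ hV huniq hR
        (j.comp π.range.subtype) (μ.comp π.range.subtype)
      refine ⟨r, ?_⟩
      let F : π.range → ℂ := fun y => cst * (χ₀ : K → ℂ) (j y) * ((μ (y : E)⁻¹ : ℂˣ) : ℂ)
      have hsum : ∑ x : E, F (π.rangeRestrict x) = (Nat.card π.ker : ℂ) * ∑ y : π.range, F y := by
        rw [← Finset.sum_fiberwise Finset.univ π.rangeRestrict, Finset.mul_sum]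
        refine Finset.sum_congr rfl fun y _ => ?_
        rw [Finset.sum_congr rfl fun x hx => by rw [(Finset.mem_filter.1 hx).2], Finset.sum_const,
          nsmul_eq_mul]
        congr 2
        obtain ⟨_, x₀, rfl⟩ := y
        rw [Nat.card_eq_fintype_card, ← Finset.card_univ]
        symm
        refine Finset.card_bij (fun u _ => x₀ * (u : E)) (fun u _ => ?_)
          (fun u _ v _ h => Subtype.ext (mul_left_cancel h)) fun x hx => ?_
        · simp only [Finset.mem_filter, Finset.mem_univ, true_and]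
          exact Subtype.ext (by
            show π (x₀ * u) = π x₀
            rw [map_mul, MonoidHom.mem_ker.1 u.2, mul_one])
        · simp only [Finset.mem_filter, Finset.mem_univ, true_and] at hx
          refine ⟨⟨x₀⁻¹ * x, ?_⟩, Finset.mem_univ _, mul_inv_cancel_left _ _⟩
          rw [MonoidHom.mem_ker, map_mul, map_inv, inv_mul_eq_one]
          exact (congrArg Subtype.val hx).symm
      have hE0 : (Nat.card E : ℂ) = (Nat.card π.ker : ℂ) * (Nat.card π.range : ℂ) := by
        rw [← Nat.cast_mul, ← Subgroup.index_ker, π.ker.card_mul_index]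
      simp only [classInner, hθj, hconj]
      rw [Finset.sum_congr rfl fun x _ => show cst * (χ₀ : K → ℂ) (j (π x)) *
          ((μ x⁻¹ : ℂˣ) : ℂ) = F (π.rangeRestrict x) by
        show _ = cst * (χ₀ : K → ℂ) (j (π x)) * ((μ (π x)⁻¹ : ℂˣ) : ℂ)
        rw [map_inv μ x, map_inv μ (π x), hμπ], hsum, hE0]
      have hk0 : (Nat.card π.ker : ℂ) ≠ 0 := Nat.cast_ne_zero.2 Nat.card_pos.ne'
      have hn0' : (n₀ : ℂ) ≠ 0 := Nat.cast_ne_zero.2 hn₀
      rw [mul_inv, mul_comm (Nat.card π.ker : ℂ)⁻¹, mul_assoc, inv_mul_cancel_left₀ hk0]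
      refine mul_left_cancel₀ hn0' ?_
      rw [Int.cast_natCast, ← hr]
      simp only [F, hcst, MonoidHom.comp_apply, Subgroup.subtype_apply, Subgroup.coe_inv,
        Finset.mul_sum]
      refine Finset.sum_congr rfl fun y _ => ?_
      field_simp
      rw [hn]
      ring
    · obtain ⟨u, hu, hu'⟩ : ∃ u, π u = 1 ∧ μ u ≠ 1 := by
        simpa [not_forall] using hker
      refine ⟨0, ?_⟩
      simp only [classInner, hconj, Int.cast_zero]
      refine mul_eq_zero_of_right _ ?_
      set s := ∑ x : E, θ (j x) * ((μ x⁻¹ : ℂˣ) : ℂ) with hs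
      have h : s = s * ((μ u⁻¹ : ℂˣ) : ℂ) := by
        conv_lhs => rw [hs]
        rw [← Equiv.sum_comp (Equiv.mulRight u), hs, Finset.sum_mul]
        refine Finset.sum_congr rfl fun x _ => ?_
        rw [Equiv.coe_mulRight, hθj, hθj, map_mul π, hu, mul_one, mul_inv_rev, map_mul,
          Units.val_mul]
        ring
      by_contra hs0
      apply hu'
      have h1 : ((μ u⁻¹ : ℂˣ) : ℂ) = 1 := mul_left_cancel₀ hs0 (by rw [← h, mul_one])
      simpa using h1
  have hgen : IsGeneralizedCharacter K θ := by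
    refine Chars.Brauer.isGeneralizedCharacter_of_elementary hθcl fun E ℓ hℓ hE => ?_
    have := Chars.Brauer.isNilpotent_of_isElementary hℓ hE
    have := Fintype.ofFinite E
    refine Chars.Brauer.gen_of_int_coeff (fun g h => by
      simpa using hθcl (g : K) (h : K)) fun χ => ?_
    have hmem := Chars.Brauer.char_mem_linMono_of_isNilpotent (Chars.isCharacter_coe χ)
    have hcl : IsClassFunction E (fun e : E => θ e) := fun g h => by simpa using hθcl (g : K) (h : K)
    suffices H : ∀ f ∈ Chars.Brauer.linMono (Chars.Brauer.allSub E),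
        ∃ z : ℤ, classInner (fun e : E => θ e) f = z from H _ hmem
    intro f hf
    induction hf using AddSubgroup.closure_induction with
    | mem f hf =>
      obtain ⟨F, -, μ, rfl⟩ := hf
      have := Fintype.ofFinite F
      rw [Chars.Induced.classInner_indFun_right F _ hcl]
      exact hlin F ((E.subtype).comp F.subtype) μ (E.subtype_injective.comp F.subtype_injective)
    | zero => exact ⟨0, by simp [classInner]⟩
    | add a b _ _ ha hb =>
      obtain ⟨z, hz⟩ := ha
      obtain ⟨w, hw⟩ := hb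
      refine ⟨z + w, ?_⟩
      push_cast
      rw [← hz, ← hw]
      simp [classInner, mul_add, Finset.sum_add_distrib]
    | neg a _ ha =>
      obtain ⟨z, hz⟩ := ha
      refine ⟨-z, ?_⟩
      push_cast
      rw [← hz]
      simp [classInner]
  choose z hz using fun ψ : IrrCharacter K =>
    Chars.Exceptional.gen_inner_int hgen (Chars.Exceptional.gen_of_char (Chars.isCharacter_coe ψ))
  have hexp := Chars.eq_sum_classInner_smul hθcl
  have h1 : HeightZero.regPair p θ (χ₀ : K → ℂ) =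
      cst * HeightZero.regPair p (χ₀ : K → ℂ) (χ₀ : K → ℂ) := by
    simp only [HeightZero.regPair_eq_sum, Finset.mul_sum]
    refine Finset.sum_congr rfl fun x _ => ?_
    by_cases hx : p ∣ orderOf x
    · simp [hx]
    · have hk : x ^ kk = x := by
        refine Chars.Brauer.pow_piExp_of_pow_right hcop (orderOf_dvd_iff_pow_eq_one.1 ?_)
        exact ((Nat.Coprime.pow_left _ (hM.1.coprime_iff_not_dvd.2 hx)).symm).dvd_of_dvd_mul_left
          (hKeq.symm ▸ orderOf_dvd_natCard x)
      simp only [hx, if_false, θ, hk]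
      ring
  have h2 : HeightZero.regPair p θ (χ₀ : K → ℂ) =
      ((∑ ψ ∈ Finset.univ.filter (fun ψ => ψ ∈ B), z ψ : ℤ) : ℂ) *
        HeightZero.regPair p (χ₀ : K → ℂ) (χ₀ : K → ℂ) := by
    have he : θ = fun x => ∑ ψ : IrrCharacter K, (z ψ : ℂ) * (ψ : K → ℂ) x := by
      funext x
      conv_lhs => rw [hexp]
      simp only [Finset.sum_apply, Pi.smul_apply, smul_eq_mul, hz]
    rw [he, HeightZero.regPair_sum_left, Int.cast_sum, Finset.sum_mul, Finset.sum_filter]
    refine Finset.sum_congr rfl fun ψ _ => ?_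
    split_ifs with hψ
    · congr 1
      simp only [HeightZero.regPair_eq_sum]
      refine Finset.sum_congr rfl fun x _ => ?_
      by_cases hx : p ∣ orderOf x
      · simp [hx]
      · rw [if_neg hx, if_neg hx, hreg ψ hψ x hx]
    · rw [HeightZero.regPair_eq_zero_of_ne_block hM hB hχ₀ hψ, mul_zero]
  have hr0 : HeightZero.regPair p (χ₀ : K → ℂ) (χ₀ : K → ℂ) ≠ 0 := by
    intro h0
    obtain ⟨R, hR⟩ := BrauerFeit.exists_regMatrix hM hB
    obtain ⟨χ, hχ, h⟩ := HeightZero.exists_height_zero (p := p) hB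
    refine BrauerFeit.regMatrix_ne_zero hR hM hB hχ h hχ ?_
    apply Int.cast_injective (α := ℂ)
    rw [hR χ hχ χ, Int.cast_zero]
    refine mul_eq_zero_of_right _ (Eq.trans ?_ h0)
    simp only [HeightZero.regPair_eq_sum]
    refine Finset.sum_congr rfl fun x _ => ?_
    by_cases hx : p ∣ orderOf x
    · simp [hx]
    · rw [if_neg hx, if_neg hx, hreg χ hχ x hx, hreg χ hχ x⁻¹ (by rwa [orderOf_inv])]
  have hZ := mul_right_cancel₀ hr0 (h1.symm.trans h2)
  set Z : ℤ := ∑ ψ ∈ Finset.univ.filter (fun ψ => ψ ∈ B), z ψ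
  have hZn : (n : ℤ) = Z * n₀ := by
    rw [hcst, div_eq_iff (Nat.cast_ne_zero.2 hn₀)] at hZ
    exact_mod_cast hZ
  have hZpos : 0 < Z := by
    by_contra hle
    have : Z * (n₀ : ℤ) ≤ 0 := mul_nonpos_of_nonpos_of_nonneg (not_lt.1 hle) (Int.natCast_nonneg _)
    omega
  have : (n₀ : ℤ) ≤ n := hZn ▸ le_mul_of_one_le_left (Int.natCast_nonneg _) hZpos
  exact_mod_cast this

/-- The irreducible module of a block with cyclic defect group and trivial inertia. -/
theorem exists_local_data (hM : IsPModular p M) (hB : IsPBlock M B)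
    {P : Subgroup K} (hPD : IsDefectGroup p M B P) (hP1 : P ≠ ⊥) (hcyc : IsCyclic P)
    {c : Set (IrrCharacter (Subgroup.centralizer (P : Set K)))}
    (hc : IsInducedBlock M (Subgroup.centralizer (P : Set K)) c B)
    (htriv : ∀ t ∈ Subgroup.normalizer (P : Set K),
      conjA t (subEl M (Subgroup.centralizer (P : Set K)) c) =
        subEl M (Subgroup.centralizer (P : Set K)) c → t ∈ Subgroup.centralizer (P : Set K)) :
    ∃ (V : Submodule (kres M) (kres M)[K])
      (ΦV : (kres M)[K] →ₐ[kres M] Module.End (kres M) V),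
      IsIrredAct ΦV ∧ ΦV (topEl M B) = 1 ∧
      (∀ (S : Type u) [AddCommGroup S] [Module (kres M) S] [FiniteDimensional (kres M) S]
        (Φ : (kres M)[K] →ₐ[kres M] Module.End (kres M) S), IsIrredAct Φ → Φ (topEl M B) = 1 →
          ∀ a, ΦV a = 0 → Φ a = 0) ∧
      Module.finrank (kres M) (LinearMap.range (LinearMap.mulLeft (kres M) (topEl M B))) ≤
        Nat.card P * (Module.finrank (kres M) V) ^ 2 := by
  classical
  obtain ⟨hl, hcard, hreg⟩ := card_and_regular_of_trivial_inertia hM hB hPD hP1 hcyc hc htriv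
  obtain ⟨χ₀, hχ₀⟩ := nonempty_of_isPBlock hB
  set b := topEl M B with hb
  have hbidem : IsBlockIdem ⊤ b := isBlockIdem_topEl hB
  set W := LinearMap.range (LinearMap.mulLeft (kres M) b) with hWdef
  have hW : ∀ a, ∀ v ∈ W, Algebra.lmul (kres M) (kres M)[K] a v ∈ W := by
    rintro a _ ⟨y, rfl⟩
    refine ⟨a * y, ?_⟩
    show b * (a * y) = a * (b * y)
    rw [← mul_assoc, ← (commute_of_isFixedBy (isSupportedOn_top a) hbidem.mem.2).eq, mul_assoc]
  have hW0 : W ≠ ⊥ := fun h => hbidem.ne_zero <| by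
    have : b ∈ W := ⟨1, mul_one b⟩
    rwa [h, Submodule.mem_bot] at this
  obtain ⟨V, hV, hle, hirr⟩ := exists_irred_le (Algebra.lmul (kres M) (kres M)[K]) W hW hW0
  have hbV : actRestrict (Algebra.lmul (kres M) (kres M)[K]) V hV b = 1 :=
    LinearMap.ext fun v => Subtype.ext (by
      obtain ⟨y, hy⟩ := hle v.2
      show b * (v : (kres M)[K]) = v
      rw [← hy]
      show b * (b * y) = b * y
      rw [← mul_assoc, hbidem.idem])
  refine ⟨V, _, hirr, hbV, fun S _ _ _ Φ hΦ hbΦ => apply_eq_zero_of_rank_one hM hB hl hirr hΦ hbV hbΦ, ?_⟩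
  set n₀ := charDegree (χ₀ : K → ℂ) with hn₀
  have hdeg : ∀ χ ∈ B, (χ : K → ℂ) 1 = n₀ := fun χ hχ => by
    rw [hn₀, Chars.coe_charDegree]
    exact hreg χ hχ χ₀ hχ₀ 1 (by simp [hM.1.ne_one])
  have hge := le_finrank_of_rank_one (q := Nat.card P) hM hB hcard Nat.card_pos.ne'
    (Chars.charDegree_pos χ₀).ne' hdeg (fun χ hχ => hreg χ hχ χ₀ hχ₀) hχ₀ hirr
    (fun S _ _ _ Φ hΦ hbΦ => apply_eq_zero_of_rank_one hM hB hl hirr hΦ hbV hbΦ)
  let zB : localElts M K := ⟨setIdem B, fun g => memLocalRing_blockCoeff hB g⟩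
  have hredB : reduceHom M K zB = b :=
    MonoidAlgebra.ext (Finsupp.ext fun g => by
      rw [coeff_reduceHom, hb, coeff_topEl, redC_of_mem (memLocalRing_blockCoeff hB g)]
      rfl)
  have hd := finrank_range_mulLeft_reduce (z := zB) (Subtype.ext (setIdem_mul_self B))
  rw [hredB, show ((zB : GA K)).coeff 1 = blockCoeff B 1 from rfl,
    blockCoeff_regular hcard hdeg (fun χ hχ => hreg χ hχ χ₀ hχ₀) (g := 1) (by simp [hM.1.ne_one]),
    mul_inv_cancel_left₀ Chars.natCard_ne_zero, inv_one, hdeg χ₀ hχ₀] at hd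
  have hd' : Module.finrank (kres M) W = Nat.card P * n₀ * n₀ := by exact_mod_cast hd
  rw [hd', sq, mul_assoc]
  exact Nat.mul_le_mul_left _ (Nat.mul_le_mul hge hge)

end CfsgLib.Blocks.Cyclic
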