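import Cfsg.Agent.Blocks.Cyclic.Element
import Cfsg.Agent.Blocks.Cyclic.LocalRank
import Cfsg.Agent.Blocks.Defect.SubgroupTransport
import Cfsg.Agent.Blocks.Defect.OrbitBlock

/-!
# The tower of a block with cyclic defect group and trivial inertia

Its algebra `A` has a central `x` with `x ^ q = 0`, annihilator `x ^ (q - 1) * A`, simple quotient
`A / x A`, and an idempotent `j` with `A j A = A` and `j A j = k[x] j`.
-/

set_option autoImplicit false
open scoped MonoidAlgebra
open Cfsg CfsgLib

namespace CfsgLib.Blocks.Cyclic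

universe u v w

/-- The structure of a block algebra `f k C` as a full matrix algebra over `k[x]/(x^q)`. -/
structure IsTower {k : Type w} [Field k] {G : Type u} [Group G] (C : Subgroup G) (f x : k[G])
    (q : ℕ) : Prop where
  f_mem : f ∈ centerIn k C
  idem : f * f = f
  x_mem : x ∈ centerIn k C
  f_mul_x : f * x = x
  one_le : 1 ≤ q
  pow_q : x ^ q = 0
  pow_pred : x ^ (q - 1) ≠ 0
  ann : ∀ a, IsSupportedOn a C → f * a = a → x * a = 0 →
    ∃ a', IsSupportedOn a' C ∧ a = x ^ (q - 1) * a'
  morita : ∃ j, IsSupportedOn j C ∧ f * j = j ∧ j * j = j ∧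
    (∃ (n : ℕ) (a b : Fin n → k[G]), (∀ i, IsSupportedOn (a i) C) ∧ (∀ i, IsSupportedOn (b i) C) ∧
      f = ∑ i, a i * j * b i) ∧
    ∀ a, IsSupportedOn a C →
      ∃ c : ℕ → k, j * a * j = ∑ i ∈ Finset.range q, c i • (x ^ i * j)
  simple : ∀ a, IsSupportedOn a C → f * a = a → (∀ a', IsSupportedOn a' C → a ≠ x * a') →
    ∃ (n : ℕ) (y z : Fin n → k[G]) (a' : k[G]), (∀ i, IsSupportedOn (y i) C) ∧
      (∀ i, IsSupportedOn (z i) C) ∧ IsSupportedOn a' C ∧ ∑ i, y i * a * z i = f + x * a'

section map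

variable {k : Type w} [Field k] {G : Type u} [Group G] {K : Type v} [Group K] [Finite K]
  {φ : K →* G}

/-- Towers move along embeddings. -/
theorem IsTower.map (hφ : Function.Injective φ) {f x : k[K]} {q : ℕ}
    (T : IsTower (⊤ : Subgroup K) f x q) :
    IsTower φ.range (emb k φ f) (emb k φ x) q := by
  have hc : ∀ {z : k[K]}, z ∈ centerIn k (⊤ : Subgroup K) → emb k φ z ∈ centerIn k φ.range :=
    fun hz => (emb_mem_centerIn_iff hφ _).2 ((mem_center_iff_coeff _).2 fun g h =>
      hz.2 h trivial g)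
  have htop : ∀ z : k[K], IsSupportedOn z (⊤ : Subgroup K) := fun z => isSupportedOn_top z
  refine ⟨hc T.f_mem, by rw [← map_mul, T.idem], hc T.x_mem, by rw [← map_mul, T.f_mul_x],
    T.one_le, by rw [← map_pow, T.pow_q, map_zero], ?_, ?_, ?_, ?_⟩
  · rw [← map_pow]
    exact fun h => T.pow_pred (emb_injective hφ (h.trans (map_zero _).symm))
  · intro a ha hfa hxa
    obtain ⟨b, rfl⟩ := exists_emb_eq hφ ha
    rw [← map_mul] at hfa hxa
    obtain ⟨b', -, hb'⟩ := T.ann b (htop b) (emb_injective hφ hfa)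
      (emb_injective hφ (hxa.trans (map_zero _).symm))
    exact ⟨emb k φ b', isSupportedOn_emb b', by rw [← map_pow, ← map_mul, ← hb']⟩
  · obtain ⟨j, -, hj1, hj2, ⟨n, a, b, -, -, hab⟩, hj⟩ := T.morita
    refine ⟨emb k φ j, isSupportedOn_emb j, by rw [← map_mul, hj1], by rw [← map_mul, hj2],
      ⟨n, fun i => emb k φ (a i), fun i => emb k φ (b i), fun i => isSupportedOn_emb _,
        fun i => isSupportedOn_emb _, by simp only [hab, map_sum, map_mul]⟩, fun z hz => ?_⟩
    obtain ⟨z, rfl⟩ := exists_emb_eq hφ hz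
    obtain ⟨c, hc⟩ := hj z (htop z)
    refine ⟨c, ?_⟩
    rw [← map_mul, ← map_mul, hc, map_sum]
    exact Finset.sum_congr rfl fun i _ => by rw [map_smul, map_mul, map_pow]
  · intro a ha hfa hne
    obtain ⟨b, rfl⟩ := exists_emb_eq hφ ha
    rw [← map_mul] at hfa
    obtain ⟨n, y, z, b', -, -, -, hsum⟩ := T.simple b (htop b) (emb_injective hφ hfa)
      fun b' _ h => hne _ (isSupportedOn_emb b') (by rw [h, map_mul])
    exact ⟨n, fun i => emb k φ (y i), fun i => emb k φ (z i), emb k φ b',
      fun i => isSupportedOn_emb _, fun i => isSupportedOn_emb _, isSupportedOn_emb b', by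
        simp only [← map_mul, ← map_sum, ← map_add, hsum]⟩

end map

/-- Lifting idempotents by a polynomial. -/
theorem isIdempotent_lift {R : Type*} [Ring R] (y : R) (n : ℕ)
    (h : y ^ n * (1 - y) ^ n = 0) :
    (1 - (1 - y ^ n) ^ n) * (1 - (1 - y ^ n) ^ n) = 1 - (1 - y ^ n) ^ n := by
  have hc1 : Commute y (1 - y) := (Commute.one_right y).sub_right (Commute.refl y)
  have e1 : 1 - (1 - y ^ n) ^ n = (∑ i ∈ Finset.range n, (1 - y ^ n) ^ i) * y ^ n := by
    have := geom_sum_mul_neg (1 - y ^ n) n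
    rw [sub_sub_cancel] at this
    exact this.symm
  have e2 : (1 - y ^ n) ^ n = (1 - y) ^ n * (∑ i ∈ Finset.range n, y ^ i) ^ n := by
    rw [← mul_neg_geom_sum y n]
    exact Commute.mul_pow (Commute.sum_right _ _ _ fun i _ => (hc1.pow_left i).symm) n
  have e3 : (1 - (1 - y ^ n) ^ n) * (1 - y ^ n) ^ n = 0 := by
    rw [e1, e2, mul_assoc, ← mul_assoc (y ^ n), h, zero_mul, mul_zero]
  rw [mul_sub, mul_one, e3, sub_zero]

variable {K : Type u} [Group K] [Fintype K] {p : ℕ} [Fact p.Prime] {M : Ideal AlgInt}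
  [M.IsMaximal] [CharP (kres M) p] {B : Set (IrrCharacter K)}

omit [Fact p.Prime] [CharP (kres M) p] in
/-- The tower from the element and the irreducible module. -/
theorem exists_tower_of_data {b x : (kres M)[K]} {q : ℕ}
    (hb : IsBlockIdem (⊤ : Subgroup K) b) (hx : x ∈ centerIn (kres M) (⊤ : Subgroup K))
    (hbx : b * x = x) (hnil : IsNilpotent x) (hq : 1 ≤ q) (hpow : x ^ (q - 1) ≠ 0)
    {V : Type u} [AddCommGroup V] [Module (kres M) V] [FiniteDimensional (kres M) V]
    {ΦV : (kres M)[K] →ₐ[kres M] Module.End (kres M) V} (hV : IsIrredAct ΦV) (hbV : ΦV b = 1)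
    (huniq : ∀ (S : Type u) [AddCommGroup S] [Module (kres M) S] [FiniteDimensional (kres M) S]
      (Φ : (kres M)[K] →ₐ[kres M] Module.End (kres M) S), IsIrredAct Φ → Φ b = 1 →
        ∀ a, ΦV a = 0 → Φ a = 0)
    (hdim : Module.finrank (kres M) (LinearMap.range (LinearMap.mulLeft (kres M) b)) ≤
      q * (Module.finrank (kres M) V) ^ 2) :
    IsTower (⊤ : Subgroup K) b x q := by
  classical
  have hbc : ∀ a : (kres M)[K], a * b = b * a := fun a =>
    (commute_of_isFixedBy (isSupportedOn_top a) hb.mem.2).eq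
  have hxc : ∀ a : (kres M)[K], a * x = x * a := fun a =>
    (commute_of_isFixedBy (isSupportedOn_top a) hx.2).eq
  have hpc : ∀ (i : ℕ) (a : (kres M)[K]), a * x ^ i = x ^ i * a := fun i a =>
    ((show Commute a x from hxc a).pow_right i).eq
  set n2 := (Module.finrank (kres M) V) ^ 2 with hn2
  let R : ℕ → Submodule (kres M) (kres M)[K] := fun i =>
    LinearMap.range (LinearMap.mulLeft (kres M) (x ^ i * b))
  have hRmem : ∀ i z, z ∈ R i ↔ ∃ a, x ^ i * b * a = z := fun i z => Iff.rfl
  have hRanti : ∀ i, R (i + 1) ≤ R i := by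
    rintro i _ ⟨a, rfl⟩
    exact ⟨x * a, show x ^ i * b * (x * a) = x ^ (i + 1) * b * a by
      rw [pow_succ, mul_assoc (x ^ i) x b, ← hxc b]; simp only [mul_assoc]⟩
  have hR0 : ∀ i, i < q → x ^ i * b ∉ R (i + 1) := by
    rintro i hi ⟨a, ha⟩
    have ha' : x ^ i * b = (x ^ i * b) * (x * a) := by
      conv_lhs => rw [← show x ^ (i + 1) * b * a = x ^ i * b from ha]
      rw [pow_succ, mul_assoc (x ^ i) x b, ← hxc b]; simp only [mul_assoc]
    have hiter : ∀ m : ℕ, x ^ i * b = (x ^ i * b) * (x * a) ^ m := by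
      intro m
      induction m with
      | zero => simp
      | succ m ih => rw [pow_succ, ← mul_assoc, ← ih, ← ha']
    obtain ⟨m, hm⟩ := hnil
    have h0 : x ^ i * b = 0 := by
      rw [hiter m, (show Commute x a from (hxc a).symm).mul_pow, hm, zero_mul, mul_zero]
    rcases Nat.eq_zero_or_pos (q - 1) with hq1 | hq1
    · have : i = 0 := by omega
      subst this
      rw [pow_zero, one_mul] at h0
      exact hb.ne_zero h0
    · apply hpow
      have hxq : x ^ (q - 1) * b = x ^ (q - 1) := by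
        rw [← Nat.sub_add_cancel hq1, pow_succ, mul_assoc, hxc b |>.symm, hbx]
      rw [← hxq, show q - 1 = (q - 1 - i) + i by omega, pow_add, mul_assoc, h0, mul_zero]
  let I : ℕ → Submodule (kres M) (kres M)[K] := fun i =>
    (R (i + 1)).comap (LinearMap.mulLeft (kres M) (x ^ i * b))
  have hI : ∀ i, i < q → I i ≤ LinearMap.ker ΦV.toLinearMap := by
    intro i hi a ha
    have hinv : ∀ c, ∀ v ∈ I i, Algebra.lmul (kres M) (kres M)[K] c v ∈ I i := by
      rintro c v ⟨y, hy⟩
      refine ⟨c * y, ?_⟩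
      show x ^ (i + 1) * b * (c * y) = x ^ i * b * (c * v)
      rw [← mul_assoc _ c, mul_assoc (x ^ (i + 1)), ← hbc c, ← mul_assoc, ← hpc, mul_assoc,
        mul_assoc, ← mul_assoc (x ^ (i + 1)), show x ^ (i + 1) * b * y = x ^ i * b * v from hy,
        ← mul_assoc, ← mul_assoc, hpc, mul_assoc (x ^ i), hbc c, ← mul_assoc]
      simp only [mul_assoc]
    have hright : ∀ c, ∀ v ∈ I i, v * c ∈ I i := by
      rintro c v ⟨y, hy⟩
      refine ⟨y * c, ?_⟩
      show x ^ (i + 1) * b * (y * c) = x ^ i * b * (v * c)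
      rw [← mul_assoc, show x ^ (i + 1) * b * y = x ^ i * b * v from hy, mul_assoc]
    set Q := actQuot (Algebra.lmul (kres M) (kres M)[K]) (I i) hinv with hQ
    have hne : I i ≠ ⊤ := fun h => hR0 i hi (by
      have h1 : (1 : (kres M)[K]) ∈ I i := h ▸ Submodule.mem_top
      simpa using Submodule.mem_comap.1 h1)
    have : Nontrivial ((kres M)[K] ⧸ I i) := Submodule.Quotient.nontrivial_iff.2 hne
    obtain ⟨W, hW, -, hirr⟩ := exists_irred_le Q ⊤ (fun _ _ _ => trivial) top_ne_bot
    have hbQ : ∀ v, Q b v = v := by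
      intro v
      obtain ⟨z, rfl⟩ := Submodule.Quotient.mk_surjective _ v
      rw [hQ, actQuot_mk]
      refine (Submodule.Quotient.eq _).2 ⟨0, ?_⟩
      show x ^ (i + 1) * b * 0 = x ^ i * b * (b * z - z)
      rw [mul_zero, mul_sub, ← mul_assoc, mul_assoc (x ^ i) b b, hb.idem, sub_self]
    have hker := huniq W _ hirr (LinearMap.ext fun v => Subtype.ext (hbQ v))
    obtain ⟨ψ, hψ⟩ := exists_transfer hV hirr hker
    have ha0 : actRestrict Q W hW a = 0 := LinearMap.ext fun v => Subtype.ext (by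
      obtain ⟨z, hz⟩ := Submodule.Quotient.mk_surjective _ (v : (kres M)[K] ⧸ I i)
      show Q a v = 0
      rw [← hz, hQ, actQuot_mk, Submodule.Quotient.mk_eq_zero]
      exact hright z a ha)
    exact LinearMap.mem_ker.2 (ψ.injective (by
      show ψ (ΦV a) = ψ 0
      rw [hψ, ha0, map_zero]))
  have hsurj := surjective_of_irred hV
  have hkerdim : Module.finrank (kres M) (LinearMap.ker ΦV.toLinearMap) + n2 =
      Module.finrank (kres M) (kres M)[K] := by
    rw [← ΦV.toLinearMap.finrank_range_add_finrank_ker, add_comm, hn2, sq,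
      ← Module.finrank_linearMap (kres M) (kres M) V V,
      LinearMap.range_eq_top.2 hsurj, finrank_top]
  have hlayer : ∀ i, Module.finrank (kres M) (R i) + Module.finrank (kres M) (I i) =
      Module.finrank (kres M) (R (i + 1)) + Module.finrank (kres M) (kres M)[K] := by
    intro i
    have h1 := ((R (i + 1)).mkQ.comp (LinearMap.mulLeft (kres M) (x ^ i * b))).finrank_range_add_finrank_ker
    have h2 := ((R (i + 1)).mkQ.comp (R i).subtype).finrank_range_add_finrank_ker
    rw [LinearMap.ker_comp, Submodule.ker_mkQ, LinearMap.range_comp] at h1 h2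
    rw [Submodule.range_subtype,
      (Submodule.comapSubtypeEquivOfLe (hRanti i)).finrank_eq] at h2
    simp only [I, R] at h1 h2 ⊢
    omega
  have hstep : ∀ i, i < q →
      Module.finrank (kres M) (R (i + 1)) + n2 ≤ Module.finrank (kres M) (R i) := by
    intro i hi
    have h1 := hlayer i
    have h2 := Submodule.finrank_mono (hI i hi)
    omega
  have hle : ∀ i j, i ≤ j → j ≤ q →
      Module.finrank (kres M) (R j) + (j - i) * n2 ≤ Module.finrank (kres M) (R i) := by
    intro i j hij
    induction j, hij using Nat.le_induction with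
    | base => intro; simp
    | succ j hij ih =>
      intro hj
      have h1 := hstep j hj
      have h2 := ih (by omega)
      rw [show j + 1 - i = (j - i) + 1 by omega, add_mul, one_mul]
      omega
  have hd0 : Module.finrank (kres M) (R 0) ≤ q * n2 := by
    show Module.finrank (kres M) (LinearMap.range (LinearMap.mulLeft (kres M) (x ^ 0 * b))) ≤ _
    rw [pow_zero, one_mul]
    exact hdim
  have hexact : ∀ i, i ≤ q → Module.finrank (kres M) (R i) = (q - i) * n2 := by
    intro i hi
    have h1 := hle 0 i (Nat.zero_le _) hi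
    have h2 := hle i q hi le_rfl
    have h3 : (q - i) * n2 + (i - 0) * n2 = q * n2 := by rw [← add_mul]; congr 1; omega
    omega
  have hRq : R q = ⊥ := Submodule.finrank_eq_zero.1 (by rw [hexact q le_rfl, Nat.sub_self, zero_mul])
  have hxq : x ^ q = 0 := by
    have h : x ^ q * b ∈ R q := ⟨1, mul_one _⟩
    rw [hRq, Submodule.mem_bot] at h
    rw [← h, ← Nat.sub_add_cancel hq, pow_succ, mul_assoc, hxc b |>.symm, hbx]
  have hI0 : I 0 = LinearMap.ker ΦV.toLinearMap := by
    refine Submodule.eq_of_le_of_finrank_le (hI 0 hq) ?_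
    have h1 := hlayer 0
    have e0 := hexact 0 (Nat.zero_le _)
    have e1 := hexact (0 + 1) hq
    have : (q - 0) * n2 = (q - (0 + 1)) * n2 + n2 := by
      rw [← Nat.succ_mul]; congr 1; omega
    omega
  -- elements of the kernel are multiples of `x`
  have hkerx : ∀ a, b * a = a → ΦV a = 0 → ∃ a', b * a' = a' ∧ a = x * a' := by
    intro a hba ha
    have : a ∈ I 0 := hI0 ▸ ha
    obtain ⟨y, hy⟩ := this
    refine ⟨b * y, by rw [← mul_assoc, hb.idem], ?_⟩
    have h : x ^ (0 + 1) * b * y = x ^ 0 * b * a := hy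
    rw [pow_one, pow_zero, one_mul, hba] at h
    rw [← h, mul_assoc]
  have hsimple : ∀ a, b * a = a → ΦV a ≠ 0 →
      ∃ (n : ℕ) (y z : Fin n → (kres M)[K]) (a' : (kres M)[K]),
        ∑ i, y i * a * z i = b + x * a' := by
    intro a hba hne
    obtain ⟨v, hv⟩ : ∃ v, ΦV a v ≠ 0 := by
      by_contra hcon
      simp only [not_exists, not_not] at hcon
      exact hne (LinearMap.ext hcon)
    obtain ⟨φ, hφ⟩ := Module.Projective.exists_dual_ne_zero (kres M) hv
    let bs := Module.finBasis (kres M) V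
    choose y hy using fun i => hsurj (LinearMap.smulRight ((φ (ΦV a v))⁻¹ • φ) (bs i))
    choose z hz using fun i => hsurj (LinearMap.smulRight (bs.coord i) v)
    have h1 : ΦV (∑ i, b * y i * a * z i - b) = 0 := by
      rw [map_sub, map_sum, hbV, sub_eq_zero]
      refine LinearMap.ext fun w => ?_
      simp only [map_mul, hbV, one_mul, hy, hz, LinearMap.sum_apply, Module.End.mul_apply,
        LinearMap.smulRight_apply, LinearMap.smul_apply, map_smul, smul_eq_mul,
        inv_mul_cancel₀ hφ, one_smul, Module.End.one_apply, Module.Basis.coord_apply]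
      exact bs.sum_repr w
    obtain ⟨a', -, ha'⟩ := hkerx _ (by
      simp only [mul_sub, Finset.mul_sum, ← mul_assoc, hb.idem]) h1
    exact ⟨_, fun i => b * y i, z, a', by rw [← ha', add_sub_cancel]⟩
  -- the idempotent
  obtain ⟨w₀, hw₀⟩ : ∃ w : V, w ≠ 0 := @exists_ne V hV.1 0
  obtain ⟨φ, hφ⟩ := Module.Projective.exists_dual_ne_zero (kres M) hw₀
  set π : Module.End (kres M) V := LinearMap.smulRight ((φ w₀)⁻¹ • φ) w₀ with hπ
  have hππ : π * π = π := LinearMap.ext fun v => by
    simp only [hπ, Module.End.mul_apply, LinearMap.smulRight_apply, map_smul, LinearMap.smul_apply,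
      smul_eq_mul, inv_mul_cancel₀ hφ, one_smul]
  have hπ0 : π ≠ 0 := fun h => hw₀ (by
    have := congrArg (fun F : Module.End (kres M) V => F w₀) h
    simpa [hπ, inv_mul_cancel₀ hφ] using this)
  obtain ⟨y₀, hy₀⟩ := hsurj π
  set y := b * y₀ with hy
  have hΦy : ΦV y = π := by rw [hy, map_mul, hbV, one_mul, hy₀]
  have hby : b * y = y := by rw [hy, ← mul_assoc, hb.idem]
  obtain ⟨a₁, -, ha₁⟩ := hkerx (y * y - y) (by rw [mul_sub, ← mul_assoc, hby])
    (by rw [map_sub, map_mul, hΦy, hππ, sub_self])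
  have hyn : y ^ q * (1 - y) ^ q = 0 := by
    have hc : Commute y (1 - y) := (Commute.one_right y).sub_right (Commute.refl y)
    rw [← hc.mul_pow, mul_sub, mul_one, show y - y * y = -(x * a₁) by rw [← ha₁, neg_sub],
      neg_pow, (show Commute x a₁ from (hxc a₁).symm).mul_pow, hxq, zero_mul, mul_zero]
  set j := 1 - (1 - y ^ q) ^ q with hj
  have hjj : j * j = j := isIdempotent_lift y q hyn
  have hbj : b * j = j := by
    have e1 : j = y ^ q * ∑ i ∈ Finset.range q, (1 - y ^ q) ^ i := by
      have := mul_neg_geom_sum (1 - y ^ q) q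
      rw [sub_sub_cancel] at this
      exact this.symm
    rw [e1, ← mul_assoc, ← Nat.sub_add_cancel hq, pow_succ', ← mul_assoc, hby]
  have hπq : π ^ q = π := by
    rw [← Nat.sub_add_cancel hq]
    exact IsIdempotentElem.pow_succ_eq _ hππ
  have hΦj : ΦV j = π := by
    rw [hj, map_sub, map_pow, map_sub, map_pow, map_one, hΦy, hπq, ← Nat.sub_add_cancel hq,
      IsIdempotentElem.pow_succ_eq _ (IsIdempotentElem.one_sub hππ), sub_sub_cancel]
  obtain ⟨N, ys, zs, a₂, hsum⟩ := hsimple j hbj (by rw [hΦj]; exact hπ0)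
  set u := ∑ i ∈ Finset.range q, (-(x * a₂)) ^ i with hu
  have hjb : b = ∑ i, ys i * j * (zs i * (b * u)) := by
    simp only [← mul_assoc, ← Finset.sum_mul, hsum]
    have hinv : (1 + x * a₂) * u = 1 := by
      have := mul_neg_geom_sum (-(x * a₂)) q
      rwa [sub_neg_eq_add, neg_pow, (show Commute x a₂ from (hxc a₂).symm).mul_pow, hxq, zero_mul,
        mul_zero, sub_zero] at this
    rw [add_mul b (x * a₂), hb.idem, mul_assoc x a₂, hbc a₂, ← mul_assoc x, ← hxc b,
      mul_assoc b x, show b + b * (x * a₂) = b * (1 + x * a₂) by rw [mul_add, mul_one],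
      mul_assoc, hinv, mul_one]
  refine ⟨hb.mem, hb.idem, hx, hbx, hq, hxq, hpow, ?_, ?_, ?_⟩
  · intro a _ hba hxa
    let g := (LinearMap.mulLeft (kres M) x).comp (R 0).subtype
    have hg := g.finrank_range_add_finrank_ker
    have hrange : LinearMap.range g = R 1 := by
      rw [LinearMap.range_comp, Submodule.range_subtype]
      refine le_antisymm ?_ ?_
      · rintro _ ⟨_, ⟨z, rfl⟩, rfl⟩
        exact ⟨z, show x ^ 1 * b * z = x * (x ^ 0 * b * z) by
          rw [pow_one, pow_zero, one_mul, mul_assoc]⟩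
      · rintro _ ⟨z, rfl⟩
        exact ⟨x ^ 0 * b * z, ⟨z, rfl⟩, show x * (x ^ 0 * b * z) = x ^ 1 * b * z by
          rw [pow_one, pow_zero, one_mul, mul_assoc]⟩
    have hle' : R (q - 1) ≤ (LinearMap.ker g).map (R 0).subtype := by
      rintro _ ⟨z, rfl⟩
      refine ⟨⟨x ^ (q - 1) * b * z, ?_⟩, ?_, rfl⟩
      · exact ⟨x ^ (q - 1) * z, show x ^ 0 * b * (x ^ (q - 1) * z) = x ^ (q - 1) * b * z by
          rw [pow_zero, one_mul, ← mul_assoc, hpc]⟩
      · show x * (x ^ (q - 1) * b * z) = 0
        rw [← mul_assoc, ← mul_assoc, ← pow_succ', Nat.sub_add_cancel hq, hxq, zero_mul, zero_mul]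
    have heq : R (q - 1) = (LinearMap.ker g).map (R 0).subtype := by
      refine Submodule.eq_of_le_of_finrank_le hle' ?_
      rw [← (Submodule.equivMapOfInjective _ (R 0).injective_subtype _).finrank_eq,
        hexact _ (Nat.sub_le q 1)]
      rw [hrange] at hg
      have e0 := hexact 0 (Nat.zero_le _)
      have e1 := hexact 1 hq
      have : (q - 0) * n2 = (q - 1) * n2 + n2 := by
        rw [← Nat.succ_mul]; congr 1; omega
      have h1 : (q - (q - 1)) * n2 = n2 := by
        rw [show q - (q - 1) = 1 by omega, one_mul]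
      omega
    have hmem : a ∈ R (q - 1) :=
      heq ▸ ⟨⟨a, ⟨a, show x ^ 0 * b * a = a by rw [pow_zero, one_mul, hba]⟩⟩, hxa, rfl⟩
    obtain ⟨z, hz⟩ := hmem
    exact ⟨b * z, isSupportedOn_top _,
      by rw [← mul_assoc]; exact (show x ^ (q - 1) * b * z = a from hz).symm⟩
  · refine ⟨j, isSupportedOn_top _, hbj, hjj, ⟨N, ys, fun i => zs i * (b * u),
      fun i => isSupportedOn_top _, fun i => isSupportedOn_top _, hjb⟩, fun a _ => ?_⟩
    have hstep' : ∀ a : (kres M)[K], ∃ (c : kres M) (a' : (kres M)[K]),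
        j * a * j = c • j + x * (j * a' * j) := by
      intro a
      obtain ⟨c, hc⟩ : ∃ c, π * ΦV a * π = c • π := by
        refine ⟨(φ w₀)⁻¹ * φ (ΦV a w₀), LinearMap.ext fun v => ?_⟩
        simp only [hπ, Module.End.mul_apply, LinearMap.smulRight_apply, map_smul,
          LinearMap.smul_apply, smul_eq_mul, smul_smul]
        congr 1
        ring
      obtain ⟨a', -, ha'⟩ := hkerx (j * a * j - c • j)
        (by rw [mul_sub, ← mul_assoc, ← mul_assoc, hbj, mul_smul_comm, hbj])
        (by rw [map_sub, map_mul, map_mul, map_smul, hΦj, hc, sub_self])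
      refine ⟨c, a', ?_⟩
      have h := congrArg (fun z => j * z * j) ha'
      simp only [mul_sub, sub_mul, ← mul_assoc, hjj, mul_smul_comm, smul_mul_assoc] at h
      rw [mul_assoc (j * a) j j, hjj] at h
      rw [← sub_eq_iff_eq_add', h, hxc j]
      simp only [mul_assoc]
    have hiter : ∀ i, i ≤ q → ∃ (c : ℕ → kres M) (a' : (kres M)[K]),
        j * a * j = ∑ l ∈ Finset.range i, c l • (x ^ l * j) + x ^ i * (j * a' * j) := by
      intro i
      induction i with
      | zero => exact fun _ => ⟨fun _ => 0, a, by simp⟩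
      | succ i ih =>
        intro hi
        obtain ⟨c, a', he⟩ := ih (by omega)
        obtain ⟨c₁, a'', he'⟩ := hstep' a'
        refine ⟨Function.update c i c₁, a'', ?_⟩
        rw [he, he', Finset.sum_range_succ, Function.update_self, mul_add, mul_smul_comm,
          ← mul_assoc (x ^ i) x, ← pow_succ, add_assoc]
        congr 1
        exact Finset.sum_congr rfl fun l hl => by
          rw [Function.update_of_ne (Finset.mem_range.1 hl).ne]
    obtain ⟨c, a', he⟩ := hiter q le_rfl
    exact ⟨c, by rw [he, hxq, zero_mul, add_zero]⟩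
  · intro a _ hba hne
    obtain ⟨n, y, z, a', h⟩ := hsimple a hba fun h0 => by
      obtain ⟨a', -, ha'⟩ := hkerx a hba h0
      exact hne a' (isSupportedOn_top _) ha'
    exact ⟨n, y, z, a', fun i => isSupportedOn_top _, fun i => isSupportedOn_top _,
      isSupportedOn_top _, h⟩

/-- The tower of a block with cyclic defect group and trivial inertia. -/
theorem exists_tower_of_trivial_inertia (hM : IsPModular p M) (hB : IsPBlock M B)
    {P : Subgroup K} (hPD : IsDefectGroup p M B P) (hP1 : P ≠ ⊥) (hcyc : IsCyclic P)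
    {c : Set (IrrCharacter (Subgroup.centralizer (P : Set K)))}
    (hc : IsInducedBlock M (Subgroup.centralizer (P : Set K)) c B)
    (htriv : ∀ t ∈ Subgroup.normalizer (P : Set K),
      conjA t (subEl M (Subgroup.centralizer (P : Set K)) c) =
        subEl M (Subgroup.centralizer (P : Set K)) c → t ∈ Subgroup.centralizer (P : Set K)) :
    ∃ x, IsTower (⊤ : Subgroup K) (topEl M B) x (Nat.card P) := by
  classical
  have hE := isBlockIdem_topEl (M := M) hB
  have hD := (isDefectGroup_topEl_iff (M := M) hB P).1 hPD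
  set cE := subEl M (Subgroup.centralizer (P : Set K)) c with hcE
  have hcI : IsBlockIdem (Subgroup.centralizer (P : Set K)) cE := isBlockIdem_subEl hc.1
  have hPC : P ≤ Subgroup.centralizer (P : Set K) := le_centralizer_of_le hcyc le_rfl
  have hover : BrOver P cE (topEl M B) := (isInducedBlock_iff_brOver hM hD.2.1 hPC le_rfl
    (Subgroup.centralizer_le_normalizer _) hc.1 hB).1 hc
  have hmax := isMax_of_cyclic hM hB hPD hcyc hc
  have hcD : IsDefectGroupIdem p (Subgroup.centralizer (P : Set K)) cE P := by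
    have h := (isDefectGroupIdem_center_iff hE hmax (PairLE.refl ⊤ P cE)).mp fun x hx => by
      rw [Subgroup.eq_of_le_of_card_ge hx.le.2 (card_map_conj P x).ge]
      exact inf_le_left
    rwa [inf_eq_left.mpr hPC] at h
  obtain ⟨a, ha⟩ := IsPGroup.iff_card.1 hD.2.1
  have hreg : ∃ g, cE.coeff g ≠ 0 ∧ ∀ d ∈ P, d ≠ 1 → cE.coeff (d⁻¹ * g) = 0 := by
    obtain ⟨g, hg⟩ := Finsupp.support_nonempty_iff.mpr
      (fun h => hcI.ne_zero (MonoidAlgebra.coeff_eq_zero.mp h))
    rw [Finsupp.mem_support_iff] at hg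
    refine ⟨g, hg, fun d hd hd1 => coeff_eq_zero_of_singular hM hcI.mem hcI.idem ?_⟩
    have hgC : g ∈ Subgroup.centralizer (P : Set K) := by_contra fun h => hg (hcI.mem.1 g h)
    have hnd : ¬ p ∣ orderOf g := fun h => hg (coeff_eq_zero_of_singular hM hcI.mem hcI.idem h)
    obtain ⟨i, hi⟩ := IsPGroup.iff_orderOf.1 hD.2.1 ⟨d, hd⟩
    rw [Subgroup.orderOf_mk] at hi
    have hi0 : i ≠ 0 := fun h => hd1 (by rwa [h, pow_zero, orderOf_eq_one_iff] at hi)
    have hcomm : Commute d⁻¹ g :=
      (show Commute d g from Subgroup.mem_centralizer_iff.1 hgC d hd).inv_left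
    rw [hcomm.orderOf_mul_eq_mul_orderOf_of_coprime, orderOf_inv, hi]
    · exact Dvd.dvd.mul_right (dvd_pow_self p hi0) _
    · rw [orderOf_inv, hi]
      exact (hM.1.coprime_iff_not_dvd.2 hnd).pow_left i
  obtain ⟨x, hx, hbx, hnil, hpow⟩ :=
    exists_central_element hE hD.2.1 hcyc ha hcI hcD hover htriv hreg
  obtain ⟨V, ΦV, hV, hbV, huniq, hdim⟩ := exists_local_data hM hB hPD hP1 hcyc hc htriv
  rw [← ha] at hpow
  exact ⟨x, exists_tower_of_data hE hx hbx hnil Nat.card_pos hpow hV hbV huniq hdim⟩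

end CfsgLib.Blocks.Cyclic
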