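import Cfsg.Agent.Blocks.Cyclic.Socle
import Cfsg.Agent.Blocks.Cyclic.SimpleCount
import Cfsg.Agent.Blocks.Cyclic.Modules
import Cfsg.Agent.Blocks.Cyclic.Tower
import Cfsg.Agent.Blocks.Cyclic.SubsectionCount
import Cfsg.Agent.S4633
import Cfsg.Agent.Eq.Def_BlockRank

/-!
# A block with cyclic defect group has at least `e` irreducible modules

The idempotents of the stabiliser of the pair at the subgroup of order `p` modulo `x` meet pairwise
different irreducible modules of the block in their Green layers.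
-/

set_option autoImplicit false
set_option linter.unusedSectionVars false
open scoped MonoidAlgebra
open MonoidAlgebra (single)
open Cfsg CfsgLib

namespace CfsgLib.Blocks.Cyclic

universe u v w

section layer

variable {k : Type w} [Field k] {A : Type u} [Ring A] [Algebra k A]

/-- The image of `ε` in the layer of `f` and `x` is not inside the image of `x ^ (q - 1)`. -/
def SeesLayer {S : Type v} [AddCommGroup S] [Module k S] (Φ : A →ₐ[k] Module.End k S) (f x ε : A)
    (q : ℕ) : Prop :=
  ∃ v, Φ f v = v ∧ Φ x v = 0 ∧ Φ ε v ∉ LinearMap.range (Φ (x ^ (q - 1)))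

/-- The images of an algebra with the same kernel see the same layers. -/
theorem SeesLayer.transfer {S : Type v} [AddCommGroup S] [Module k S] [FiniteDimensional k S]
    {S' : Type v} [AddCommGroup S'] [Module k S'] [FiniteDimensional k S']
    {Φ : A →ₐ[k] Module.End k S} {Φ' : A →ₐ[k] Module.End k S'}
    {f x ε : A} {q : ℕ} (ψ : Module.End k S ≃ₐ[k] Module.End k S') (hψ : ∀ a, ψ (Φ a) = Φ' a)
    (h : SeesLayer Φ' f x ε q) : SeesLayer Φ f x ε q := by
  classical
  obtain ⟨v, hf, hx, hε⟩ := h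
  have hv0 : v ≠ 0 := fun h0 => hε (by rw [h0, map_zero]; exact Submodule.zero_mem _)
  obtain ⟨φ, hφ⟩ := Module.Projective.exists_dual_ne_zero k hv0
  let H' : Module.End k S' := LinearMap.smulRight ((φ v)⁻¹ • φ) v
  have hH'v : H' v = v := by
    simp only [H', LinearMap.smulRight_apply, LinearMap.smul_apply, smul_eq_mul,
      inv_mul_cancel₀ hφ, one_smul]
  have hmul : ∀ a, Φ' a * H' = LinearMap.smulRight ((φ v)⁻¹ • φ) (Φ' a v) := fun a =>
    LinearMap.ext fun u => by
      simp only [H', Module.End.mul_apply, LinearMap.smulRight_apply, map_smul]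
  obtain ⟨H, hH⟩ := ψ.surjective H'
  have h1 : Φ f * H = H := ψ.injective (by rw [map_mul, hψ, hH, hmul, hf])
  have h2 : Φ x * H = 0 := ψ.injective (by rw [map_mul, hψ, hH, hmul, hx, map_zero]; simp)
  by_contra hcon
  simp only [SeesLayer, not_exists, not_and, not_not] at hcon
  let bs := Module.finBasis k S
  have hcol : ∀ i, ∃ y, Φ (x ^ (q - 1)) y = Φ ε (H (bs i)) := fun i =>
    hcon (H (bs i)) (LinearMap.congr_fun h1 _) (LinearMap.congr_fun h2 _)
  choose y hy using hcol
  have h3 : Φ ε * H = Φ (x ^ (q - 1)) * bs.constr k y := bs.ext fun i => by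
    simp only [Module.End.mul_apply, Module.Basis.constr_basis, hy]
  have h4 := congrArg ψ h3
  rw [map_mul, map_mul, hψ, hψ, hH] at h4
  exact hε ⟨ψ (bs.constr k y) v, by
    rw [← Module.End.mul_apply, ← h4, Module.End.mul_apply, hH'v]⟩

end layer

variable {k : Type w} [Field k] {G : Type u} [Group G] [Finite G]

namespace IsCyclicSetting

variable {p : ℕ} [Fact p.Prime] {Z D : Subgroup G} {b f x : k[G]} {q : ℕ}
variable (h : IsCyclicSetting p Z D b f x q)
include h

/-- A module seeing the layer has an irreducible constituent seeing it. -/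
theorem exists_irred_sees {ε : k[G]} (hε : IsSupportedOn ε (pairStab ⊤ Z f)) (hfε : f * ε = ε)
    (hidem : Cong (pairStab ⊤ Z f) x (ε * ε) ε) :
    ∀ (d : ℕ) (Y : Type (max w u)) [AddCommGroup Y] [Module k Y] [FiniteDimensional k Y]
      (Φ : k[G] →ₐ[k] Module.End k Y), Module.finrank k Y = d → SeesLayer Φ f x ε q →
      ∃ (S : Type (max w u)) (_ : AddCommGroup S) (_ : Module k S) (_ : FiniteDimensional k S)
        (Ψ : k[G] →ₐ[k] Module.End k S), IsIrredAct Ψ ∧ SeesLayer Ψ f x ε q := by
  intro d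
  induction d using Nat.strong_induction_on with
  | _ d ih =>
    intro Y _ _ _ Φ hd hY
    obtain ⟨v, hfv, hxv, hεv⟩ := hY
    by_cases hirr : IsIrredAct Φ
    · exact ⟨Y, inferInstance, inferInstance, inferInstance, Φ, hirr, v, hfv, hxv, hεv⟩
    have hnt : Nontrivial Y := ⟨⟨Φ ε v, 0, fun h0 => hεv (h0 ▸ Submodule.zero_mem _)⟩⟩
    simp only [IsIrredAct, hnt, true_and, not_forall, not_or] at hirr
    obtain ⟨W, hW, hW0, hW1⟩ := hirr
    have hsum := W.finrank_quotient_add_finrank
    have hWpos : 0 < Module.finrank k W := by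
      have := Submodule.nontrivial_iff_ne_bot.2 hW0
      exact Module.finrank_pos
    have hWlt : Module.finrank k W < Module.finrank k Y := Submodule.finrank_lt hW1
    by_cases hQ : SeesLayer (actQuot Φ W hW) f x ε q
    · exact ih _ (by omega) (Y ⧸ W) (actQuot Φ W hW) rfl hQ
    simp only [SeesLayer, not_exists, not_and, not_not] at hQ
    obtain ⟨u', hu⟩ := hQ (Submodule.Quotient.mk v) (by rw [actQuot_mk, hfv])
      (by rw [actQuot_mk, hxv, Submodule.Quotient.mk_zero])
    obtain ⟨u, rfl⟩ := Submodule.Quotient.mk_surjective W u'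
    rw [actQuot_mk, actQuot_mk, Submodule.Quotient.eq] at hu
    set X := Φ (x ^ (q - 1)) with hX
    have hw : Φ ε v - X u ∈ W := by simpa using W.neg_mem hu
    have hv : v ∈ kerLayer Φ f x := (mem_kerLayer Φ h.tower.idem).2 ⟨hxv, hfv⟩
    have hεK := kerLayer_stable Φ h hε hv
    have hXK : X u ∈ kerLayer Φ f x := topLayer_le Φ h ⟨u, rfl⟩
    obtain ⟨hxw, hfw⟩ := (mem_kerLayer Φ h.tower.idem).1 ((kerLayer Φ f x).sub_mem hεK hXK)
    refine ih _ (by omega) W (actRestrict Φ W hW) rfl ⟨⟨_, hw⟩, ?_, ?_, ?_⟩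
    · exact Subtype.ext hfw
    · exact Subtype.ext hxw
    · rintro ⟨y, hy⟩
      apply hεv
      obtain ⟨r, hr, he⟩ := hidem
      have hrv : Φ x (Φ r v) = 0 := ((mem_kerLayer Φ h.tower.idem).1 (kerLayer_stable Φ h hr hv)).1
      have hεε : Φ ε (Φ ε v) = Φ ε v := by
        have h1 := LinearMap.congr_fun (congrArg Φ he) v
        rw [map_sub, map_mul, map_mul, LinearMap.sub_apply, Module.End.mul_apply,
          Module.End.mul_apply, hrv, sub_eq_zero] at h1
        exact h1
      obtain ⟨y', hy'⟩ := range_pow_stable Φ h hε (q - 1) (v := X u) ⟨u, rfl⟩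
      have h2 : X (y : Y) = Φ ε (Φ ε v - X u) := congrArg Subtype.val hy
      rw [map_sub, hεε, ← hy'] at h2
      exact ⟨(y : Y) + y', by rw [map_add, h2, sub_add_cancel]⟩

/-- Each idempotent modulo `x` has an irreducible module seeing it. -/
theorem exists_irred_of_idem {ε : k[G]} (hε : IsSupportedOn ε (pairStab ⊤ Z f)) (hfε : f * ε = ε)
    (hidem : Cong (pairStab ⊤ Z f) x (ε * ε) ε) (hne : ¬ Cong (pairStab ⊤ Z f) x ε 0) :
    ∃ (S : Type (max w u)) (_ : AddCommGroup S) (_ : Module k S) (_ : FiniteDimensional k S)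
      (Ψ : k[G] →ₐ[k] Module.End k S), IsIrredAct Ψ ∧ SeesLayer Ψ f x ε q := by
  classical
  have : Fintype G := Fintype.ofFinite G
  let N : Submodule k k[G] :=
    LinearMap.range (LinearMap.mulRight k x) ⊔ LinearMap.range (LinearMap.mulRight k (1 - f))
  have hN : ∀ a, ∀ v ∈ N, Algebra.lmul k k[G] a v ∈ N := by
    intro a v hv
    obtain ⟨_, ⟨c, rfl⟩, _, ⟨c', rfl⟩, rfl⟩ := Submodule.mem_sup.1 hv
    refine Submodule.mem_sup.2 ⟨_, ⟨a * c, rfl⟩, _, ⟨a * c', rfl⟩, ?_⟩
    simp [mul_add, mul_assoc]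
  have hx : ∀ s, IsSupportedOn s (pairStab ⊤ Z f) → x * s ∈ N := fun s hs => by
    obtain ⟨s', hs'⟩ := h.exists_mul_x hs
    exact Submodule.mem_sup_left ⟨s', hs'.symm⟩
  have hεf : ε * f = ε := (h.comm_f hε).eq.trans hfε
  have hxf : x * f = x := (h.tower.comm_f h.tower.x_mem.1).trans h.tower.f_mul_x
  have : FiniteDimensional k k[G] := Module.Finite.of_basis
    (MonoidAlgebra.basis G k)
  refine h.exists_irred_sees hε hfε hidem _ (k[G] ⧸ N) (actQuot (Algebra.lmul k k[G]) N hN) rfl
    ⟨Submodule.Quotient.mk ε, ?_, ?_, ?_⟩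
  · rw [actQuot_mk]
    exact congrArg _ hfε
  · rw [actQuot_mk, Submodule.Quotient.mk_eq_zero]
    exact hx ε hε
  · rintro ⟨y, hy⟩
    obtain ⟨a, rfl⟩ := Submodule.Quotient.mk_surjective N y
    obtain ⟨r, hr, he⟩ := hidem
    rw [actQuot_mk, actQuot_mk, Submodule.Quotient.eq] at hy
    have hy' : x ^ (q - 1) * a - ε ∈ N := by
      have h1 := N.add_mem hy (hx r hr)
      rw [← he] at h1
      simpa using h1
    obtain ⟨_, ⟨c, rfl⟩, _, ⟨c', rfl⟩, hc⟩ := Submodule.mem_sup.1 hy'
    have h2 : x ^ (q - 1) * (a * f) - ε = c * x := by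
      have h1 := congrArg (· * f) hc
      simp only [LinearMap.mulRight_apply, sub_mul, add_mul, mul_assoc, hxf, hεf, one_mul,
        h.tower.idem, sub_self, mul_zero, add_zero] at h1
      exact h1.symm
    set T := pairStab ⊤ Z f
    have hxT : IsSupportedOn x T := isSupportedOn_mono h.tower.x_mem.1 h.le_stab
    have hxpow : ∀ m, IsSupportedOn (x ^ m) T := fun m => by
      induction m with
      | zero => rw [pow_zero]; exact IsSupportedOn.one
      | succ m ih => rw [pow_succ]; exact ih.mul hxT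
    have h3 := congrArg (truncTo T) h2
    rw [map_sub, truncTo_mul_left (hxpow _), truncTo_of_supported hε, truncTo_mul_right _ hxT] at h3
    obtain ⟨c₁, hc₁, hcx⟩ := h.move _ (isSupportedOn_truncTo T c)
    refine hne ⟨x ^ (q - 2) * truncTo T (a * f) - c₁,
      (suppAlg k T).sub_mem ((hxpow _).mul (isSupportedOn_truncTo _ _)) hc₁, ?_⟩
    rw [mul_sub, ← mul_assoc, ← pow_succ', show q - 2 + 1 = q - 1 by have := h.two_le; omega,
      ← hcx, ← h3, sub_sub_cancel, sub_zero]

/-- The index of the centralizer in the stabiliser bounds the number of irreducible modules. -/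
theorem exists_family [IsAlgClosed k] [CharP k p] :
    ∃ (S : Fin ((Subgroup.centralizer (Z : Set G)).relIndex (pairStab ⊤ Z f)) → Type (max w u))
      (_ : ∀ i, AddCommGroup (S i)) (_ : ∀ i, Module k (S i)) (_ : ∀ i, FiniteDimensional k (S i))
      (Φ : ∀ i, k[G] →ₐ[k] Module.End k (S i)),
      (∀ i, IsIrredAct (Φ i)) ∧ (∀ i, Φ i b = 1) ∧ ∀ i j, i ≠ j → ∃ a, Φ i a ≠ 0 ∧ Φ j a = 0 := by
  classical
  obtain ⟨hek, hnd, t, ht, hte, hmin, hgen⟩ := h.exists_generator
  have he0 : 0 < (Subgroup.centralizer (Z : Set G)).relIndex (pairStab ⊤ Z f) :=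
    Nat.pos_of_ne_zero fun h0 => hek (by rw [h0, Nat.cast_zero])
  obtain ⟨ε, hεs, hfε, hεne, hεidem, hεorth, hεcomm⟩ := h.tower.exists_idempotents h.two_le
    h.le_stab stab_le stab_fix ht he0 hek hte hmin hgen
  have hex := fun i => h.exists_irred_of_idem (hεs i) (hfε i) (hεidem i) (hεne i)
  choose S hS1 hS2 hS3 Φ hirr hsees using hex
  refine ⟨S, hS1, hS2, hS3, Φ, hirr, fun i => ?_, fun i j hij => ?_⟩
  · -- the block acts as the identity
    obtain ⟨r, hr⟩ := exists_scalar (hirr i) (h := Φ i b) fun a => by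
      rw [← map_mul, ← map_mul, (commute_of_isFixedBy (isSupportedOn_top a) h.block.mem.2).eq]
    have h1 : Φ i b * Φ i b = Φ i b := by rw [← map_mul, h.block.idem]
    rw [hr, smul_mul_smul_comm, one_mul] at h1
    have := (hirr i).1
    have hr2 : r * r = r := smul_left_injective k (one_ne_zero (α := Module.End k (S i))) h1
    rcases IsIdempotentElem.iff_eq_zero_or_one.1 hr2 with rfl | rfl
    · rw [zero_smul] at hr
      obtain ⟨v, hfv, hxv, hεv⟩ := hsees i
      exact absurd (kerLayer_le_of_ne (Φ i) h hr (kerLayer_stable (Φ i) h (hεs i)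
        ((mem_kerLayer (Φ i) h.tower.idem).2 ⟨hxv, hfv⟩))) hεv
    · rw [hr, one_smul]
  · -- different idempotents have different kernels
    by_contra hcon
    simp only [not_exists, not_and] at hcon
    obtain ⟨ψ, hψ⟩ := exists_transfer (hirr j) (hirr i) fun a ha => by
      by_contra hne
      exact hcon a hne ha
    obtain ⟨v, hfv, hxv, hv⟩ := (hsees i).transfer ψ hψ
    obtain ⟨v', hfv', hxv', hv'⟩ := hsees j
    have hvK := (mem_kerLayer (Φ j) h.tower.idem).2 ⟨hxv, hfv⟩
    have hvK' := (mem_kerLayer (Φ j) h.tower.idem).2 ⟨hxv', hfv'⟩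
    set K := kerLayer (Φ j) f x with hK
    set L := topLayer (Φ j) x q with hL
    have hxr : ∀ r, IsSupportedOn r (pairStab ⊤ Z f) → ∀ w ∈ K, Φ j x (Φ j r w) = 0 :=
      fun r hr w hw =>
        ((mem_kerLayer (Φ j) h.tower.idem).1 (kerLayer_stable (Φ j) h hr hw)).1
    have hzero : ∀ a c, Cong (pairStab ⊤ Z f) x a c → ∀ w ∈ K, Φ j a w = Φ j c w := by
      rintro a c ⟨r, hr, he⟩ w hw
      have h1 := LinearMap.congr_fun (congrArg (Φ j) he) w
      rwa [map_sub, map_mul, LinearMap.sub_apply, Module.End.mul_apply, hxr r hr w hw,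
        sub_eq_zero] at h1
    let W := L ⊔ K.map (Φ j (ε i))
    have hWK : W ≤ K := sup_le (topLayer_le (Φ j) h) (by
      rintro _ ⟨w, hw, rfl⟩; exact kerLayer_stable (Φ j) h (hεs i) hw)
    have hWs : ∀ s, IsSupportedOn s (pairStab ⊤ Z f) → ∀ w ∈ W, Φ j s w ∈ W := by
      intro s hs w hw
      obtain ⟨l, hl, _, ⟨w', hw', rfl⟩, rfl⟩ := Submodule.mem_sup.1 hw
      rw [map_add]
      refine Submodule.mem_sup.2 ⟨_, range_pow_stable (Φ j) h hs (q - 1) hl, _,
        ⟨Φ j s w', kerLayer_stable (Φ j) h hs hw', rfl⟩, ?_⟩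
      have h1 := hzero _ _ (hεcomm i s hs) w' hw'
      rw [map_mul, map_mul, Module.End.mul_apply, Module.End.mul_apply] at h1
      rw [h1]
    rcases eq_or_eq_of_stable (Φ j) h (hirr j) le_sup_left hWK hWs with hW | hW
    · exact hv (hW.le (Submodule.mem_sup_right ⟨v, hvK, rfl⟩))
    · have hmem : Φ j (ε j) v' ∈ W := hW.ge (kerLayer_stable (Φ j) h (hεs j) hvK')
      obtain ⟨l, hl, _, ⟨w, hw, rfl⟩, hlw⟩ := Submodule.mem_sup.1 hmem
      apply hv'
      have h1 := congrArg (Φ j (ε j)) hlw
      have h2 := hzero _ _ (hεidem j) v' hvK'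
      have h3 := hzero _ _ (hεorth j i (Ne.symm hij)) w hw
      rw [map_mul, Module.End.mul_apply] at h2 h3
      rw [map_add, h2, h3, map_zero, LinearMap.zero_apply, add_zero] at h1
      rw [← h1]
      exact range_pow_stable (Φ j) h (hεs j) (q - 1) hl

end IsCyclicSetting

section block

variable {p : ℕ} {M : Ideal AlgInt} [M.IsMaximal]

/-- The pair at the subgroup of order `p` of a cyclic defect group, with its tower. -/
theorem exists_setting [Fintype G] (hM : IsPModular p M) {B : Set (IrrCharacter G)}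
    (hB : IsPBlock M B) {P : Subgroup G} (hPD : IsDefectGroup p M B P) (hP1 : P ≠ ⊥)
    (hcyc : IsCyclic P) {c : Set (IrrCharacter (Subgroup.centralizer (P : Set G)))}
    (hc : IsInducedBlock M (Subgroup.centralizer (P : Set G)) c B) :
    ∃ (Z : Subgroup G) (f x : (kres M)[G]),
      IsCyclicSetting p Z P (topEl M B) f x (Nat.card P) ∧
      (Subgroup.centralizer (P : Set G)).relIndex
          (pairStab ⊤ P (subEl M (Subgroup.centralizer (P : Set G)) c)) ≤
        (Subgroup.centralizer (Z : Set G)).relIndex (pairStab ⊤ Z f) := by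
  classical
  have hp : Fact p.Prime := ⟨hM.1⟩
  have := charP_kres hM
  have hE := isBlockIdem_topEl (M := M) hB
  have hD := (isDefectGroup_topEl_iff (M := M) hB P).1 hPD
  set cE := subEl M (Subgroup.centralizer (P : Set G)) c with hcE
  have hcI : IsBlockIdem (Subgroup.centralizer (P : Set G)) cE := isBlockIdem_subEl hc.1
  have hmax := isMax_of_cyclic hM hB hPD hcyc hc
  have hpair := hmax.1.1
  obtain ⟨n, hn⟩ := IsPGroup.iff_card.1 hD.2.1
  have hn0 : n ≠ 0 := fun h0 => hP1 (Subgroup.card_eq_one.1 (by rw [hn, h0, pow_zero]))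
  obtain ⟨z, hz⟩ := exists_prime_orderOf_dvd_card' p (G := P) (hn ▸ dvd_pow_self p hn0)
  set Z := Subgroup.zpowers (z : G) with hZ
  have hZP : Z ≤ P := Subgroup.zpowers_le.2 z.2
  have hZc : Nat.card Z = p := by rw [hZ, Nat.card_zpowers, Subgroup.orderOf_coe, hz]
  set C := Subgroup.centralizer (Z : Set G) with hC
  have hPC : P ≤ C := le_centralizer_of_le hcyc hZP
  have hCPC : (Subgroup.centralizer (P : Set G)) ≤ C := Subgroup.centralizer_le hZP
  obtain ⟨f, hf, -⟩ := hpair.existsUnique_le hZP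
  have hfI : IsBlockIdem C f := by
    have h1 := (hf.isPair_left hpair).2.2
    rwa [top_inf_eq] at h1
  have hfover : brTrunc Z (topEl M B) * f = f := ((hf.pairOf_iff hE hpair).2 hmax.1).2
  have hfnormal := hf.isNormal hpair (le_normalizer_of_le hcyc hZP)
  have hfP : brTrunc P f ≠ 0 := hfnormal.trunc_ne_zero
  have hZp : IsPGroup p Z := hD.2.1.to_le hZP
  have hfD : IsDefectGroupIdem p C f P := by
    obtain ⟨E, hE'⟩ := hfI.exists_defectGroup p
    obtain ⟨D', hD', hPD'⟩ := IsDefectGroupIdem.exists_ge hfI.mem hE' hPC hD.2.1 hfP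
    have hne : brTrunc D' (topEl M B) ≠ 0 := by
      intro h0
      apply hD'.2.2.1
      have hfix : IsFixedBy (brTrunc Z (topEl M B)) D' :=
        ((hE.mem.2.mono le_top).brTrunc (Subgroup.centralizer_le_normalizer _)).mono hD'.1
      rw [← hfover, brTrunc_mul hD'.2.1 hfix (hfI.mem.2.mono hD'.1),
        brTrunc_brTrunc (hZP.trans hPD'), h0, zero_mul]
    have hle := hD.card_le le_top hD'.2.1 hne
    rwa [← Subgroup.eq_of_le_of_card_ge hPD' hle] at hD'
  -- the block of `C`
  obtain ⟨F, hF, hFf⟩ := exists_subEl_eq (M := M) hfI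
  set P' := P.subgroupOf C with hP'
  have hPmap : P'.map C.subtype = P := Subgroup.map_subgroupOf_eq_of_le hPC
  have hFD : IsDefectGroup p M F P' := (isDefectGroup_subgroupOf_iff hPC hF).2 (hFf.symm ▸ hfD)
  have hcyc' : IsCyclic P' := isCyclic_of_surjective (Subgroup.subgroupOfEquivOfLe hPC).symm
    (Subgroup.subgroupOfEquivOfLe hPC).symm.surjective
  have hP'1 : P' ≠ ⊥ := fun h0 => hP1 (by rw [← hPmap, h0, Subgroup.map_bot])
  have hCK : (Subgroup.centralizer (P' : Set C)).map C.subtype = (Subgroup.centralizer (P : Set G)) := by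
    rw [map_centralizer_eq C.subtype_injective, Subgroup.range_subtype, hPmap]
    exact inf_eq_right.2 hCPC
  obtain ⟨c', hc', hc'e⟩ := exists_blockEl_eq (M := M)
    (f := C.subtype.comp (Subgroup.centralizer (P' : Set C)).subtype)
    (C.subtype_injective.comp Subtype.val_injective) (e := cE)
    (by rwa [MonoidHom.range_comp, Subgroup.range_subtype, hCK])
  rw [blockEl_eq_emb_subEl] at hc'e
  have hP'p : IsPGroup p P' := hD.2.1.comap_of_injective _ C.subtype_injective
  have hind : IsInducedBlock M (Subgroup.centralizer (P' : Set C)) c' F := by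
    refine (isInducedBlock_iff_brOver hM hP'p (le_centralizer_of_le hcyc' le_rfl) le_rfl
      (Subgroup.centralizer_le_normalizer _) hc' hF).2 ?_
    apply emb_injective C.subtype_injective
    rw [map_mul, emb_brTrunc C.subtype_injective, hPmap, hc'e, ← blockEl_eq_emb_topEl]
    show brTrunc P (subEl M C F) * cE = cE
    rw [hFf]
    exact hfnormal.2.2.2.2.2
  -- the stabiliser of the maximal pair
  set T := pairStab ⊤ P cE with hT
  have hCPT : (Subgroup.centralizer (P : Set G)) ≤ T := by
    have h1 := hpair.inf_centralizer_le_pairStab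
    rwa [top_inf_eq] at h1
  have hnor : ((Subgroup.centralizer (P : Set G)).subgroupOf T).Normal := (Subgroup.normal_subgroupOf_iff_le_normalizer hCPT).2
    ((pairStab_le_normalizer _ _ _).trans (normalizer_le_normalizer_centralizer P))
  have hfree := (Cfsg.Agent.S4633.result p M hM B hB P hPD hP1 hcyc c hc T (fun g => by
    rw [hT, mem_pairStab, stabilizesBlock_iff hc.1]
    exact ⟨fun ⟨⟨_, h1⟩, h2⟩ => ⟨h1, normalizer_le_normalizer_centralizer P h1, h2⟩,
      fun ⟨h1, _, h2⟩ => ⟨⟨trivial, h1⟩, h2⟩⟩) (hn := hnor)).2.2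
  have hTC : T ⊓ C ≤ (Subgroup.centralizer (P : Set G)) := fun g hg => hfree g hg.1 z z.2
    (fun h1 => by
      have h2 : z = 1 := Subtype.ext h1
      rw [h2, orderOf_one] at hz
      exact hM.1.ne_one hz.symm)
    (by
      rw [← Subgroup.mem_centralizer_iff.1 hg.2 _ (Subgroup.mem_zpowers (z : G))]
      group)
  have htriv : ∀ t ∈ Subgroup.normalizer (P' : Set C),
      conjA t (subEl M (Subgroup.centralizer (P' : Set C)) c') =
        subEl M (Subgroup.centralizer (P' : Set C)) c' → t ∈ Subgroup.centralizer (P' : Set C) := by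
    intro t ht hfix
    have h1 := congrArg (emb (kres M) C.subtype) hfix
    rw [emb_conjA, hc'e] at h1
    have h2 : (t : G) ∈ Subgroup.normalizer (P : Set G) := by
      rw [← hPmap]
      exact Subgroup.le_normalizer_map C.subtype ⟨t, ht, rfl⟩
    have h3 : (t : G) ∈ (Subgroup.centralizer (P : Set G)) := hTC ⟨mem_pairStab.2 ⟨⟨trivial, h2⟩, h1⟩, t.2⟩
    rw [← hCK] at h3
    exact (Subgroup.mem_map_iff_mem C.subtype_injective).1 h3
  obtain ⟨x₀, hx₀⟩ := exists_tower_of_trivial_inertia hM hF hFD hP'1 hcyc' hind htriv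
  have htower := hx₀.map C.subtype_injective
  rw [Subgroup.range_subtype, ← blockEl_eq_emb_topEl,
    show blockEl M C.subtype F = f from hFf,
    show Nat.card P' = Nat.card P from Nat.card_congr (Subgroup.subgroupOfEquivOfLe hPC).toEquiv]
    at htower
  have hset : IsCyclicSetting p Z P (topEl M B) f (emb (kres M) C.subtype x₀) (Nat.card P) :=
    ⟨hZc, hZP, hD.2.1, hcyc, hE, hfI, hfover, hfD, htower, by
      rw [hn]; exact le_trans hM.1.two_le (Nat.le_self_pow hn0 p)⟩
  refine ⟨Z, f, _, hset, ?_⟩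
  -- the stabiliser of the maximal pair stabilises the pair below
  have hTT : T ≤ pairStab ⊤ Z f := by
    intro t ht
    obtain ⟨⟨-, htN⟩, htc⟩ := mem_pairStab.1 ht
    have hPt : P.map (MulAut.conj t).toMonoidHom = P := map_conj_eq_self_of_mem_normalizer htN
    have hZt : Z.map (MulAut.conj t).toMonoidHom = Z := by
      have h1 : Z ≤ Z.map (MulAut.conj t).toMonoidHom := by
        have h2 := hset.conj_Z_le 1 (K := Z.map (MulAut.conj t).toMonoidHom)
          (by rw [map_conj_one]; exact (Subgroup.map_mono hZP).trans hPt.le)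
          (fun h0 => hM.1.ne_one (by rw [← hZc, ← card_map_conj Z t, h0, Subgroup.card_bot]))
        rwa [map_conj_one] at h2
      exact (Subgroup.eq_of_le_of_card_ge h1 (card_map_conj Z t).le).symm
    refine mem_pairStab.2 ⟨⟨trivial, mem_normalizer_of_map_conj_le hZt.le⟩, ?_⟩
    have h3 := hf.conjA (Subgroup.mem_top t)
    rw [hPt, htc, hZt] at h3
    exact PairLE.unique hpair h3 hf
  have h1 : C ⊓ T = (Subgroup.centralizer (P : Set G)) ⊓ T := le_antisymm (le_inf (by rw [inf_comm]; exact hTC) inf_le_right)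
    (inf_le_inf_right T hCPC)
  calc (Subgroup.centralizer (P : Set G)).relIndex T = C.relIndex T := by
        rw [← Subgroup.inf_relIndex_right (Subgroup.centralizer (P : Set G)), ← h1, Subgroup.inf_relIndex_right]
    _ ≤ C.relIndex (pairStab ⊤ Z f) := Subgroup.relIndex_le_of_le_right hTT
        Subgroup.index_ne_zero_of_finite

/-- The inertial index is at most the number of irreducible Brauer characters. -/
theorem relIndex_le_blockRank [Fintype G] (hM : IsPModular p M) {B : Set (IrrCharacter G)}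
    (hB : IsPBlock M B) {P : Subgroup G} (hPD : IsDefectGroup p M B P) (hP1 : P ≠ ⊥)
    (hcyc : IsCyclic P) {c : Set (IrrCharacter (Subgroup.centralizer (P : Set G)))}
    (hc : IsInducedBlock M (Subgroup.centralizer (P : Set G)) c B) :
    (Subgroup.centralizer (P : Set G)).relIndex
        (pairStab ⊤ P (subEl M (Subgroup.centralizer (P : Set G)) c)) ≤ blockRank p B := by
  have hp : Fact p.Prime := ⟨hM.1⟩
  have := charP_kres hM
  obtain ⟨Z, f, x, hset, hle⟩ := exists_setting hM hB hPD hP1 hcyc hc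
  obtain ⟨S, i1, i2, i3, Φ, hirr, hb, hdist⟩ := hset.exists_family
  refine hle.trans ?_
  have h1 := card_le_blockRank hM hB (S := fun i : ULift.{u} (Fin _) => S i.down)
    (fun i => Φ i.down) (fun i => hirr _) (fun i => hb _)
    (fun i j hij => hdist _ _ fun h' => hij (ULift.ext _ _ h'))
  rwa [Fintype.card_ulift, Fintype.card_fin] at h1

end block

end CfsgLib.Blocks.Cyclic
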