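import Cfsg.Agent.Blocks.AbelianFree.Count
import Cfsg.Agent.Blocks.AbelianFree.Small

/-!
# Combinations of the characters of a block with vanishing singular scalars

They vanish on the singular elements, so their degree is divisible by the `p`-part of the order.
-/

set_option autoImplicit false
open scoped MonoidAlgebra ComplexConjugate Classical
open Cfsg CfsgLib CfsgLib.Blocks CfsgLib.Blocks.HeightZero CfsgLib.Blocks.Contrib
open CfsgLib.Blocks.AbelianFree

namespace CfsgLib.Blocks.Cyclic

universe u

variable {G : Type u} [Group G] [Fintype G] {p : ℕ} [Fact p.Prime] {M : Ideal AlgInt} [M.IsMaximal]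
  [CharP (kres M) p] {B : Set (IrrCharacter G)} {P : Subgroup G} {f : MonoidAlgebra (kres M) G}

/-- A combination of the characters of the block without singular scalars vanishes on the singular
elements. -/
theorem comb_singular_eq_zero (h : Setting p M B P f) (a : IrrCharacter G → ℂ)
    (ha : ∀ v : P, v ≠ 1 → ∑ χ ∈ B.toFinite.toFinset, a χ * gval p P f χ v = 0)
    {g : G} (hg : ¬ IsPRegular p g) :
    ∑ χ ∈ B.toFinite.toFinset, a χ * (χ : G → ℂ) g = 0 := by
  obtain ⟨x, y, hxy, hcomm, hx, hy⟩ := exists_isPPart (G := G) h.hM.1 g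
  have hx1 : x ≠ 1 := fun e => hg (by rw [← hxy, e, one_mul]; exact hy)
  set F : G → ℂ := fun g => ∑ χ ∈ B.toFinite.toFinset, a χ * (χ : G → ℂ) g with hF
  show F g = 0
  set C := cn (Subgroup.zpowers x) with hC
  have hCx : C = Subgroup.centralizer ({x} : Set G) := centralizer_zpowers_eq x
  have hyC : y ∈ C := by
    rw [hCx, Subgroup.mem_centralizer_singleton_iff]
    exact hcomm.eq.symm
  set φ : C → ℂ := fun c => F (x * (c : G)) with hφ
  have hφc : IsClassFunction C φ := by
    intro c d
    simp only [hφ, hF]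
    exact Finset.sum_congr rfl fun χ _ => congrArg (a χ * ·) (isClassFunction_translate hCx χ c d)
  have hsum := congrFun (HeightCenter.sum_blockPart (M := M) hφc) ⟨y, hyC⟩
  rw [Finset.sum_apply] at hsum
  have hreg : IsPRegular p (⟨y, hyC⟩ : C) := by
    rw [IsPRegular, Subgroup.orderOf_mk]; exact hy
  rw [← hxy]
  refine hsum.symm.trans (Finset.sum_eq_zero fun β hβ => ?_)
  have hβ' := (Finset.mem_filter.1 hβ).2
  by_cases hind : IsInducedBlock M C β B
  · obtain ⟨⟨⟨v, t⟩, hv, hsub⟩, -⟩ := h.exists_subsec hx hx1 hind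
    rw [subsec, Prod.mk.injEq] at hsub
    obtain ⟨hvx, hsub⟩ := hsub
    set S := Subgroup.zpowers (v : G) with hS
    have hmap : (cn S).map (MulAut.conj t).toMonoidHom = C := by
      rw [map_cn, MonoidHom.map_zpowers, hC]
      exact congrArg (fun z => cn (Subgroup.zpowers z)) hvx
    have hSP := h.zpowers_le v
    have hb : mapBlock (conjIso _ _ t hmap) (bl p P f S) = β := by
      refine subEl_injective (M := M) (isPBlock_mapBlock _ (h.blk hSP)) hβ' ?_
      rw [subEl_mapBlock_conj]
      exact hsub
    obtain ⟨s, hs⟩ := (conjIso _ _ t hmap).surjective ⟨y, hyC⟩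
    have hsreg : IsPRegular p s := by
      rw [← hs, IsPRegular, MulEquiv.orderOf_eq] at hreg
      exact hreg
    rw [← hb, ← hs, HeightCenter.blockPart_mapBlock]
    have hfun : (fun k => φ (conjIso _ _ t hmap k)) = fun k : cn S => F ((v : G) * (k : G)) := by
      funext k
      simp only [hφ, hF, coe_conjIso]
      refine Finset.sum_congr rfl fun χ _ => ?_
      rw [← hvx, show t * (v : G) * t⁻¹ * (t * (k : G) * t⁻¹) = t * ((v : G) * k) * t⁻¹ by group,
        irrCharacter_conj]
    rw [hfun]
    have hFc : IsClassFunction (cn S) fun k : cn S => F ((v : G) * (k : G)) := by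
      intro c d
      simp only [hF]
      exact Finset.sum_congr rfl fun χ _ =>
        congrArg (a χ * ·) (isClassFunction_translate (centralizer_zpowers_eq (v : G)) χ c d)
    have h2 := h.part_eq_smul hSP (h.reg_zpowers hv) hFc hsreg
    rw [part] at h2
    rw [h2]
    have hp0 : pval p P f S v F = 0 := by
      rw [hF, pval_sum]
      have h3 := ha v hv
      simp only [gval, if_neg hv, mul_left_comm (a _) (eps p P f _), ← Finset.mul_sum] at h3
      exact (mul_eq_zero.1 h3).resolve_left fun e0 => by
        have h4 := norm_eps (p := p) P f S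
        rw [hS, e0, norm_zero] at h4
        exact one_ne_zero h4.symm
    rw [hp0, zero_mul]
  · rw [blockPart_apply_eq, Finset.sum_apply]
    have key : ∀ χ ∈ B.toFinite.toFinset,
        blockPart β (fun c : C => (χ : G → ℂ) (x * (c : G))) ⟨y, hyC⟩ = 0 := fun χ hχ =>
      blockPart_section_eq_zero h.hM hCx hx hβ' h.hB hind ((Set.Finite.mem_toFinset _).1 hχ) hreg
    simp only [blockPart_apply_eq, Finset.sum_apply, Pi.smul_apply, smul_eq_mul] at key ⊢
    have hin : ∀ ξ : IrrCharacter C, classInner φ (ξ : C → ℂ) = ∑ χ ∈ B.toFinite.toFinset,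
        a χ * classInner (fun c : C => (χ : G → ℂ) (x * (c : G))) (ξ : C → ℂ) := by
      intro ξ
      simp only [classInner, hφ, hF, Finset.sum_mul, Finset.mul_sum]
      rw [Finset.sum_comm]
      exact Finset.sum_congr rfl fun χ _ => Finset.sum_congr rfl fun c _ => by ring
    simp only [hin, Finset.sum_mul]
    rw [Finset.sum_comm]
    refine Finset.sum_eq_zero fun χ hχ => ?_
    simp only [mul_assoc, ← Finset.mul_sum, key χ hχ, mul_zero]

/-- The degree of an integral combination without singular scalars is divisible by the `p`-part of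
the order of the group. -/
theorem pow_dvd_comb_degree (h : Setting p M B P f) (a : IrrCharacter G → ℤ)
    (ha : ∀ v : P, v ≠ 1 → ∑ χ ∈ B.toFinite.toFinset, (a χ : ℂ) * gval p P f χ v = 0) :
    ((p ^ (Nat.card G).factorization p : ℕ) : ℤ) ∣
      ∑ χ ∈ B.toFinite.toFinset, a χ * (charDegree (χ : G → ℂ) : ℤ) := by
  obtain ⟨R⟩ : Nonempty (Sylow p G) := inferInstance
  rw [← R.card_eq_multiplicity]
  haveI := Fintype.ofFinite (R : Subgroup G)
  have hint : ∀ χ : IrrCharacter G, ∃ m : ℤ,
      ∑ r : (R : Subgroup G), (χ : G → ℂ) r = (Nat.card (R : Subgroup G) : ℂ) * m := by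
    intro χ
    obtain ⟨m, hm⟩ := Chars.exists_nat_classInner'
      (Chars.isCharacter_restrict (Chars.isCharacter_coe χ) (R : Subgroup G)) Chars.isCharacter_one
    refine ⟨(m : ℤ), ?_⟩
    rw [Int.cast_natCast,
      ← show classInner (fun r : (R : Subgroup G) => (χ : G → ℂ) r) 1 = (m : ℂ) from hm, classInner]
    have hR : (Nat.card (R : Subgroup G) : ℂ) ≠ 0 := Nat.cast_ne_zero.2 Nat.card_pos.ne'
    simp only [Pi.one_apply, map_one, mul_one]
    field_simp
  choose m hm using hint
  refine ⟨∑ χ ∈ B.toFinite.toFinset, a χ * m χ, ?_⟩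
  have hval : ∑ r : (R : Subgroup G), ∑ χ ∈ B.toFinite.toFinset, (a χ : ℂ) * (χ : G → ℂ) r =
      ∑ χ ∈ B.toFinite.toFinset, (a χ : ℂ) * (χ : G → ℂ) 1 := by
    rw [Finset.sum_eq_single (1 : (R : Subgroup G))]
    · rfl
    · intro r _ hr
      refine comb_singular_eq_zero h _ ha fun hreg => hr ?_
      obtain ⟨n, hn⟩ := IsPGroup.iff_orderOf.1 R.isPGroup' r
      rcases Nat.eq_zero_or_pos n with h0 | h0
      · rwa [h0, pow_zero, orderOf_eq_one_iff] at hn
      · exact absurd (by rw [Subgroup.orderOf_coe, hn]; exact dvd_pow_self p h0.ne') hreg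
    · simp
  rw [Finset.sum_comm] at hval
  simp only [← Finset.mul_sum, hm, ← Chars.coe_charDegree] at hval
  rw [Finset.mul_sum, ← Int.cast_inj (α := ℂ)]
  push_cast
  rw [← hval]
  exact Finset.sum_congr rfl fun χ _ => by push_cast; ring

end CfsgLib.Blocks.Cyclic
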