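import Cfsg.Agent.Blocks.Cyclic.Lower
import Cfsg.Agent.Blocks.Cyclic.Vanish
import Cfsg.Agent.Blocks.KleinFour.Pairs

/-!
# Dade's theorem on blocks with cyclic defect group

The rank is the inertial index; the exceptional characters, the signs and the congruences of the
degrees follow.
-/

set_option autoImplicit false
open scoped MonoidAlgebra ComplexConjugate Classical
open Cfsg CfsgLib CfsgLib.Blocks CfsgLib.Blocks.HeightZero CfsgLib.Blocks.Contrib
open CfsgLib.Blocks.AbelianFree CfsgLib.Blocks.AbelianFrobenius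

namespace CfsgLib.Blocks.Cyclic

universe u

variable {G : Type u} [Group G] [Fintype G] {p : ℕ} [Fact p.Prime] {M : Ideal AlgInt} [M.IsMaximal]
  [CharP (kres M) p] {B : Set (IrrCharacter G)} {P : Subgroup G}

omit [Fact p.Prime] [M.IsMaximal] [CharP (kres M) p] in
/-- The stabiliser of a block of a centralizer, spelled out by conjugate characters. -/
theorem stabilizesBlock_iff_forall {c : Set (IrrCharacter (Subgroup.centralizer (P : Set G)))}
    {g : G} (hg : g ∈ Subgroup.normalizer (P : Set G)) :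
    StabilizesBlock (Subgroup.centralizer (P : Set G)) c g ↔
      ∀ θ ∈ c, ∀ θ' : IrrCharacter (Subgroup.centralizer (P : Set G)),
        (∀ h h' : Subgroup.centralizer (P : Set G), (h' : G) = g * h * g⁻¹ →
          (θ' : Subgroup.centralizer (P : Set G) → ℂ) h' =
            (θ : Subgroup.centralizer (P : Set G) → ℂ) h) → θ' ∈ c := by
  have hgC := normalizer_le_normalizer_centralizer P hg
  have hmap := map_conj_eq_self_of_mem_normalizer hgC
  constructor
  · rintro ⟨-, hst⟩ θ hθ θ' hconj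
    obtain ⟨θ'', h1, h2⟩ := hst θ hθ
    have : θ' = θ'' := Subtype.ext (funext fun k' => by
      obtain ⟨k, hk⟩ := (conjIso _ _ g hmap).surjective k'
      have hk' : (k' : G) = g * (k : G) * g⁻¹ := by rw [← hk, coe_conjIso]
      rw [hconj k k' hk', h2 k k' hk'])
    rwa [this]
  · intro hst
    refine ⟨hgC, fun θ hθ => ?_⟩
    have hθ' : ∀ h h' : Subgroup.centralizer (P : Set G), (h' : G) = g * h * g⁻¹ →
        (Chars.irrEquiv (conjIso _ _ g hmap) θ : Subgroup.centralizer (P : Set G) → ℂ) h' =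
          (θ : Subgroup.centralizer (P : Set G) → ℂ) h := by
      intro h h' hh
      have : h' = conjIso _ _ g hmap h := Subtype.ext (hh.trans (coe_conjIso ..).symm)
      rw [this, Chars.irrEquiv_apply, MulEquiv.symm_apply_apply]
    exact ⟨_, hst θ hθ _ hθ', hθ'⟩

/-- A defect group has a block of its centralizer inducing the block. -/
theorem exists_inducing (hM : IsPModular p M) (hB : IsPBlock M B) (hPD : IsDefectGroup p M B P)
    (hcyc : IsCyclic P) :
    ∃ c, IsInducedBlock M (Subgroup.centralizer (P : Set G)) c B := by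
  obtain ⟨g, hg⟩ := KleinFour.exists_maxPair hB hPD
  have hgI := hg.1.1.2.2
  rw [top_inf_eq] at hgI
  obtain ⟨c, hc, hce⟩ := exists_subEl_eq (M := M) hgI
  refine ⟨c, (isInducedBlock_iff_brOver hM hg.1.1.1 (le_centralizer_of_le hcyc le_rfl) le_rfl
    (Subgroup.centralizer_le_normalizer _) hc hB).2 ?_⟩
  rw [hce]
  exact hg.1.2

variable {c : Set (IrrCharacter (Subgroup.centralizer (P : Set G)))}

/-- The setting of a block with cyclic defect group. -/
theorem setting_of_cyclic (hM : IsPModular p M) (hB : IsPBlock M B) (hPD : IsDefectGroup p M B P)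
    (hP1 : P ≠ ⊥) (hcyc : IsCyclic P) (hc : IsInducedBlock M (Subgroup.centralizer (P : Set G)) c B)
    {T : Subgroup G} (hT : ∀ g : G, g ∈ T ↔ (g ∈ Subgroup.normalizer (P : Set G) ∧
      StabilizesBlock (Subgroup.centralizer (P : Set G)) c g)) :
    Setting p M B P (subEl M (Subgroup.centralizer (P : Set G)) c) ∧
      T = pairStab ⊤ P (subEl M (Subgroup.centralizer (P : Set G)) c) ∧
      (Subgroup.centralizer (P : Set G)).relIndex T ∣ p - 1 := by
  have hnor : ((Subgroup.centralizer (P : Set G)).subgroupOf T).Normal := by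
    have hle : T ≤ Subgroup.normalizer ((Subgroup.centralizer (P : Set G) : Subgroup G) : Set G) :=
      fun g hg => normalizer_le_normalizer_centralizer P ((hT g).1 hg).1
    refine ⟨fun a ha s => ?_⟩
    exact (Subgroup.mem_normalizer_iff.1 (hle s.2) a).1 ha
  obtain ⟨-, hdvd, hfree⟩ :=
    Cfsg.Agent.S4633.result p M hM B hB P hPD hP1 hcyc c hc T hT (hn := hnor)
  obtain ⟨h1, h2⟩ := Setting.of_block hM hB hPD
    (fun x hx y hy => commute_of_isCyclic hcyc hx hy) hc hT hfree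
  exact ⟨h1, h2, hdvd⟩

variable {f : MonoidAlgebra (kres M) G}

/-- The order of the group of inertial automorphisms is the rank. -/
theorem blockRank_eq (hM : IsPModular p M) (hB : IsPBlock M B) (hPD : IsDefectGroup p M B P)
    (hP1 : P ≠ ⊥) (hcyc : IsCyclic P) (hc : IsInducedBlock M (Subgroup.centralizer (P : Set G)) c B)
    (h : Setting p M B P (subEl M (Subgroup.centralizer (P : Set G)) c)) :
    blockRank p B = Nat.card (aut P (subEl M (Subgroup.centralizer (P : Set G)) c)) := by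
  refine le_antisymm (h.blockRank_le hP1) ?_
  rw [natCard_aut]
  exact relIndex_le_blockRank hM hB hPD hP1 hcyc hc

/-- Nonexceptional and exceptional characters, their signs and the rows of the former. -/
structure IsSplit (p : ℕ) (B : Set (IrrCharacter G)) (P : Subgroup G)
    (f : MonoidAlgebra (kres M) G) (X Y : Finset (IrrCharacter G)) (r : IrrCharacter G → ℤ)
    (δ₀ : ℤ) : Prop where
  union : X ∪ Y = B.toFinite.toFinset
  disj : Disjoint X Y
  card_X : X.card = Nat.card (aut P f)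
  card_Y : Y.card * Nat.card (aut P f) + 1 = Nat.card P
  sign : ∀ χ ∈ X, r χ = 1 ∨ r χ = -1
  sign₀ : δ₀ = 1 ∨ δ₀ = -1
  row : ∀ χ ∈ X, ∀ v : P, v ≠ 1 → gval p P f χ v = -(r χ : ℂ)
  reg_eq : ∀ ψ ∈ Y, ∀ ψ' ∈ Y, ∀ g : G, IsPRegular p g → (ψ : G → ℂ) g = (ψ' : G → ℂ) g
  reg_sum : ∀ ψ ∈ Y, ∀ g : G, IsPRegular p g →
    (δ₀ : ℂ) * (ψ : G → ℂ) g + ∑ χ ∈ X, (r χ : ℂ) * (χ : G → ℂ) g = 0

/-- Constant rows give constant scalars. -/
theorem gval_of_const (h : Setting p M B P f) {χ : IrrCharacter G} {r : ℤ}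
    (hr : ∀ i : Orb (aut P f), xrow p P f χ (Orb.rep (aut P f) i) = r) {v : P} (hv : v ≠ 1) :
    gval p P f χ v = -(r : ℂ) := by
  haveI := h.isMulComm
  haveI := h.finite_linChar
  haveI := Fintype.ofFinite (P →* ℂˣ)
  rw [h.gval_eq_sum_xrow χ hv]
  have hrow : ∀ ψ : P →* ℂˣ, (xrow p P f χ ψ : ℂ) =
      (r : ℂ) - if ψ = 1 then (r : ℂ) else 0 := by
    intro ψ
    by_cases hψ : ψ = 1
    · rw [hψ, h.xrow_one, if_pos rfl, sub_self, Int.cast_zero]
    · obtain ⟨i, a, ha, e⟩ := Orb.exists_twist_rep (aut P f) hψ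
      rw [← e, h.xrow_twist ha, hr i, if_neg (by rw [e]; exact hψ), sub_zero]
  simp only [hrow, sub_mul, ite_mul, zero_mul, Finset.sum_sub_distrib, Finset.sum_ite_eq',
    Finset.mem_univ, if_true, ← Finset.mul_sum, sum_apply_eq_zero hv, mul_zero,
    MonoidHom.one_apply, Units.val_one, mul_one, zero_sub]

/-- The structure of the block when its rank is the inertial index. -/
theorem exists_split (h : Setting p M B P f) (hP : P ≠ ⊥)
    (hl : blockRank p B = Nat.card (aut P f)) : ∃ X Y r δ₀, IsSplit p B P f X Y r δ₀ := by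
  haveI := h.finite_orb
  set e := Nat.card (aut P f) with he
  set m := Nat.card (Orb (aut P f)) with hm
  have hk : Nat.card B = e + m := hl ▸ h.natCard_eq_rank_add
  have hme := h.card_orb
  have hBcard : B.toFinite.toFinset.card = e + m := by
    rw [← hk, Nat.card_coe_set_eq, Set.ncard_eq_toFinset_card B B.toFinite]
  have hm0 : m ≠ 0 := by
    intro h0
    rw [← hm, h0, zero_mul, zero_add] at hme
    exact hP (Subgroup.eq_bot_of_card_eq _ hme.symm)
  rcases Nat.lt_or_ge m 2 with hm1 | hm2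
  · haveI : Subsingleton (Orb (aut P f)) := Finite.card_le_one_iff_subsingleton.1 (by omega)
    obtain ⟨⟨i⟩⟩ := (Nat.card_pos_iff.1 (Nat.pos_of_ne_zero hm0))
    have hm' : m = 1 := by omega
    set T := B.toFinite.toFinset
    set r : IrrCharacter G → ℤ := fun χ => xrow p P f χ (Orb.rep (aut P f) i) with hr
    have hne : ∀ χ ∈ T, r χ ≠ 0 := fun χ hχ => by
      obtain ⟨j, hj⟩ := h.exists_xrow_ne_zero hP ((Set.Finite.mem_toFinset _).1 hχ)
      rwa [Subsingleton.elim j i] at hj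
    have hsq : ∑ χ ∈ T, r χ ^ 2 ≤ (T.card : ℤ) + 2 := by
      have e1 := h.sum_xrow_rep i i
      rw [if_pos rfl] at e1
      simp only [sq, hr]
      rw [show ∑ χ ∈ T, xrow p P f χ (Orb.rep (aut P f) i) * xrow p P f χ (Orb.rep (aut P f) i) = _
        from e1]
      rw [hBcard, hm']
      push_cast
      linarith
    have hsign : ∀ χ ∈ T, r χ = 1 ∨ r χ = -1 := fun χ hχ => by
      exact sq_eq_one_iff.1 (sq_eq_one_of_sum_le hne hsq χ hχ)
    obtain ⟨ψ, hψ⟩ : T.Nonempty := Finset.card_pos.1 (by omega)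
    refine ⟨T.erase ψ, {ψ}, r, r ψ, ?_, ?_, ?_, ?_, fun χ hχ => hsign χ (Finset.mem_of_mem_erase hχ),
      hsign ψ hψ, fun χ hχ v hv => gval_of_const h (fun j => by rw [Subsingleton.elim j i]) hv,
      ?_, ?_⟩
    · rw [Finset.union_comm, ← Finset.insert_eq, Finset.insert_erase hψ]
    · simp
    · rw [Finset.card_erase_of_mem hψ, hBcard]; omega
    · rw [Finset.card_singleton, one_mul, ← hme, ← hm, hm', one_mul]
    · intro a ha b hb g _
      rw [Finset.mem_singleton.1 ha, Finset.mem_singleton.1 hb]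
    · intro a ha g hg
      rw [Finset.mem_singleton.1 ha,
        Finset.add_sum_erase T (fun χ => (r χ : ℂ) * (χ : G → ℂ) g) hψ]
      exact h.sum_apply_mul_xrow hg _
  · obtain ⟨δ, s, r, ζ, hF⟩ := h.exists_family hm2
    set T := B.toFinite.toFinset.filter (fun χ => χ ∉ Set.range ζ) with hTdef
    have hTc : T.card = e := by
      have := h.natCard_eq_of_family hF
      rw [← hTdef, hk] at this
      omega
    have hne : ∀ χ ∈ T, r χ ≠ 0 := fun χ hχ => by
      rw [hTdef, Finset.mem_filter, Set.Finite.mem_toFinset] at hχ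
      exact hF.ne_zero χ hχ.1 hχ.2
    have h1 : (T.card : ℤ) ≤ ∑ χ ∈ T, r χ ^ 2 := Setting.card_le_sum_sq hne
    have hm2' : (2 : ℤ) ≤ (m : ℤ) := by exact_mod_cast hm2
    have hs0 : s * (2 + (m : ℤ) * s) ≤ 0 := by
      rw [hTdef] at h1
      rw [hF.sum_sq, ← hTdef, hTc, ← hm, ← he] at h1
      nlinarith
    have hs : s = 0 ∨ (s = -1 ∧ m = 2) := by
      have hs1 : -1 ≤ s := by
        by_contra hlt
        push Not at hlt
        have h4 : 2 + (m : ℤ) * s < 0 := by nlinarith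
        nlinarith [mul_pos_of_neg_of_neg (show s < 0 by omega) h4]
      have hs2 : s ≤ 0 := by
        by_contra hlt
        push Not at hlt
        have h4 : 0 < 2 + (m : ℤ) * s := by nlinarith
        nlinarith [mul_pos hlt h4]
      rcases (show s = 0 ∨ s = -1 by omega) with rfl | rfl
      · exact Or.inl rfl
      · refine Or.inr ⟨rfl, ?_⟩
        have : (m : ℤ) ≤ 2 := by nlinarith
        omega
    have hcoef : δ * (1 + (m : ℤ) * s) = 1 ∨ δ * (1 + (m : ℤ) * s) = -1 := by
      rcases hF.sign with rfl | rfl <;> rcases hs with rfl | ⟨rfl, hm'⟩ <;>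
        first
          | (simp; done)
          | (have e1 : (m : ℤ) = 2 := by exact_mod_cast hm'
             rw [e1]; norm_num)
    have hsum : ∑ χ ∈ T, r χ ^ 2 ≤ (T.card : ℤ) + 2 := by
      rw [hTc, hTdef, hF.sum_sq, ← hm, ← he]
      rcases hs with rfl | ⟨rfl, hm'⟩
      · simp
      · have e1 : (m : ℤ) = 2 := by exact_mod_cast hm'
        linarith
    haveI := Fintype.ofFinite (Orb (aut P f))
    refine ⟨T, Finset.univ.image ζ, r, δ * (1 + (m : ℤ) * s), ?_, ?_, hTc, ?_, fun χ hχ =>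
      sq_eq_one_iff.1 (sq_eq_one_of_sum_le hne hsum χ hχ), hcoef, fun χ hχ v hv => ?_, ?_, ?_⟩
    · ext χ
      simp only [hTdef, Finset.mem_union, Finset.mem_filter, Set.Finite.mem_toFinset,
        Finset.mem_image, Finset.mem_univ, true_and, Set.mem_range]
      constructor
      · rintro (h' | ⟨i, rfl⟩)
        · exact h'.1
        · exact hF.mem i
      · intro hχ
        by_cases hz : ∃ i, ζ i = χ
        · exact Or.inr hz
        · exact Or.inl ⟨hχ, hz⟩
    · rw [Finset.disjoint_left]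
      intro χ hχ hχ'
      simp only [hTdef, Finset.mem_filter] at hχ
      obtain ⟨i, -, rfl⟩ := Finset.mem_image.1 hχ'
      exact hχ.2 ⟨i, rfl⟩
    · rw [Finset.card_image_of_injective _ hF.inj, Finset.card_univ, ← Nat.card_eq_fintype_card, hme]
    · simp only [hTdef, Finset.mem_filter, Set.Finite.mem_toFinset] at hχ
      refine gval_of_const h (fun i => ?_) hv
      rw [hF.row χ hχ.1 i, if_neg fun e => hχ.2 ⟨i, e.symm⟩, zero_add]
    · intro a ha b hb g hg
      obtain ⟨i, -, rfl⟩ := Finset.mem_image.1 ha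
      obtain ⟨j, -, rfl⟩ := Finset.mem_image.1 hb
      exact hF.reg_eq i j g hg
    · intro a ha g hg
      obtain ⟨i, -, rfl⟩ := Finset.mem_image.1 ha
      have h2 := hF.reg_sum i g hg
      rw [← hTdef, ← hm] at h2
      rw [add_comm]
      push_cast
      exact h2

namespace IsSplit

variable {X Y : Finset (IrrCharacter G)} {r : IrrCharacter G → ℤ} {δ₀ : ℤ}

theorem mem_B (hs : IsSplit p B P f X Y r δ₀) {χ : IrrCharacter G} (hχ : χ ∈ X ∨ χ ∈ Y) : χ ∈ B :=
  (Set.Finite.mem_toFinset _).1 (hs.union ▸ Finset.mem_union.2 hχ)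

/-- The signed degrees of the nonexceptional characters are congruent. -/
theorem modEq_X (h : Setting p M B P f) (hs : IsSplit p B P f X Y r δ₀) {χ χ' : IrrCharacter G}
    (hχ : χ ∈ X) (hχ' : χ' ∈ X) :
    r χ * (charDegree (χ : G → ℂ) : ℤ) ≡ r χ' * (charDegree (χ' : G → ℂ) : ℤ)
      [ZMOD ((p ^ (Nat.card G).factorization p : ℕ) : ℤ)] := by
  set a : IrrCharacter G → ℤ := fun η =>
    (if η = χ' then r χ' else 0) - (if η = χ then r χ else 0) with ha
  have hχT : χ ∈ B.toFinite.toFinset := hs.union ▸ Finset.mem_union_left _ hχ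
  have hχT' : χ' ∈ B.toFinite.toFinset := hs.union ▸ Finset.mem_union_left _ hχ'
  have h1 := pow_dvd_comb_degree h a fun v hv => by
    simp only [ha, Int.cast_sub, apply_ite ((↑) : ℤ → ℂ), Int.cast_zero, sub_mul, ite_mul, zero_mul,
      Finset.sum_sub_distrib, Finset.sum_ite_eq', hχT, hχT', if_true, hs.row χ hχ v hv,
      hs.row χ' hχ' v hv]
    rcases hs.sign χ hχ with e | e <;> rcases hs.sign χ' hχ' with e' | e' <;> simp [e, e']
  simp only [ha, sub_mul, ite_mul, zero_mul, Finset.sum_sub_distrib, Finset.sum_ite_eq', hχT, hχT',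
    if_true] at h1
  exact Int.modEq_iff_dvd.2 h1

/-- The degrees of the exceptional characters. -/
theorem modEq_Y (h : Setting p M B P f) (hs : IsSplit p B P f X Y r δ₀) {ψ χ : IrrCharacter G}
    (hψ : ψ ∈ Y) (hχ : χ ∈ X) :
    (charDegree (ψ : G → ℂ) : ℤ) ≡
      -((Nat.card (aut P f) : ℤ) * δ₀ * r χ * (charDegree (χ : G → ℂ) : ℤ))
      [ZMOD ((p ^ (Nat.card G).factorization p : ℕ) : ℤ)] := by
  set N : ℤ := ((p ^ (Nat.card G).factorization p : ℕ) : ℤ)
  have h0 := hs.reg_sum ψ hψ 1 h.isPRegular_one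
  simp only [← Chars.coe_charDegree] at h0
  have h1 : δ₀ * (charDegree (ψ : G → ℂ) : ℤ) +
      ∑ η ∈ X, r η * (charDegree (η : G → ℂ) : ℤ) = 0 := by exact_mod_cast h0
  have h2 : N ∣ (X.card : ℤ) * (r χ * (charDegree (χ : G → ℂ) : ℤ)) -
      ∑ η ∈ X, r η * (charDegree (η : G → ℂ) : ℤ) := by
    rw [← nsmul_eq_mul, ← Finset.sum_const, ← Finset.sum_sub_distrib]
    exact Finset.dvd_sum fun η hη => Int.modEq_iff_dvd.1 (hs.modEq_X h hη hχ)
  rw [Int.modEq_iff_dvd]
  rw [← hs.card_X]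
  have h3 := dvd_mul_of_dvd_right h2 (-δ₀)
  have e1 : -((X.card : ℤ) * δ₀ * r χ * (charDegree (χ : G → ℂ) : ℤ)) - (charDegree (ψ : G → ℂ) : ℤ) =
      -δ₀ * ((X.card : ℤ) * (r χ * (charDegree (χ : G → ℂ) : ℤ)) -
        ∑ η ∈ X, r η * (charDegree (η : G → ℂ) : ℤ)) := by
    rcases hs.sign₀ with e | e <;> rw [e] at h1 ⊢ <;> linarith
  exact e1 ▸ h3

/-- All heights are zero. -/
theorem height_zero (h : Setting p M B P f) (hs : IsSplit p B P f X Y r δ₀) (hP : P ≠ ⊥)
    (he : Nat.card (aut P f) ∣ p - 1) {η : IrrCharacter G} (hη : η ∈ B) :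
    blockHeight p B (η : G → ℂ) = 0 := by
  have hp : p.Prime := Fact.out
  obtain ⟨χ₀, hχ₀⟩ : X.Nonempty := Finset.card_pos.1 (hs.card_X ▸ Nat.card_pos)
  set d : ℤ := (charDegree (χ₀ : G → ℂ) : ℤ)
  set ν := (Nat.card G).factorization p with hν
  have hcop : ∀ j : ℕ, IsCoprime ((p : ℤ) ^ j) (Nat.card (aut P f) : ℤ) := fun j => by
    refine IsCoprime.pow_left ?_
    rw [Int.isCoprime_iff_nat_coprime, Int.natAbs_natCast, Int.natAbs_natCast]
    refine hp.coprime_iff_not_dvd.2 fun hd => ?_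
    have := Nat.le_of_dvd (Nat.sub_pos_of_lt hp.one_lt) (hd.trans he)
    have := hp.one_lt
    omega
  have key : ∀ ξ ∈ B, ∀ j ≤ ν, ((p : ℤ) ^ j ∣ (charDegree (ξ : G → ℂ) : ℤ) ↔ (p : ℤ) ^ j ∣ d) := by
    intro ξ hξ j hj
    have hN : (p : ℤ) ^ j ∣ ((p ^ ν : ℕ) : ℤ) := by
      rw [Nat.cast_pow]; exact pow_dvd_pow _ hj
    have hsgn : ∀ s : ℤ, s = 1 ∨ s = -1 → ∀ y : ℤ, ((p : ℤ) ^ j ∣ s * y ↔ (p : ℤ) ^ j ∣ y) := by
      rintro s (rfl | rfl) y <;> simp
    rcases Finset.mem_union.1 (hs.union ▸ (Set.Finite.mem_toFinset _).2 hξ :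
      ξ ∈ X ∪ Y) with hx | hy
    · have h1 := (hs.modEq_X h hx hχ₀).of_dvd hN
      rw [← hsgn _ (hs.sign ξ hx), ← hsgn _ (hs.sign χ₀ hχ₀) d]
      exact h1.dvd_iff
    · have h1 := (hs.modEq_Y h hy hχ₀).of_dvd hN
      rw [h1.dvd_iff, dvd_neg]
      rw [mul_assoc, mul_assoc, (⟨fun hd => (hcop j).dvd_of_dvd_mul_left hd, fun hd => hd.mul_left _⟩ :
        ∀ {y : ℤ}, (p : ℤ) ^ j ∣ (Nat.card (aut P f) : ℤ) * y ↔ (p : ℤ) ^ j ∣ y), hsgn _ hs.sign₀,
        hsgn _ (hs.sign χ₀ hχ₀)]
  obtain ⟨χ₁, hχ₁, hh⟩ := HeightZero.exists_height_zero (p := p) h.hB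
  rw [blockHeight_eq_zero_iff' hη]
  rw [blockHeight_eq_zero_iff' hχ₁] at hh
  refine le_antisymm ?_ (Nat.sInf_le ⟨η, hη, rfl⟩)
  have hlt : (charDegree (χ₁ : G → ℂ)).factorization p < ν := by
    have h1 := h.natCard_eq
    have h2 : blockDefect p B ≠ 0 := fun e0 => hP (Subgroup.eq_bot_of_card_eq _ (by
      rw [h1, e0, pow_zero]))
    have h3 : ν - (charDegree (χ₁ : G → ℂ)).factorization p ≠ 0 := by
      rw [hh]; exact h2
    omega
  rw [← hh]
  by_contra hlt'
  push Not at hlt'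
  have h1 : (p : ℤ) ^ ((charDegree (χ₁ : G → ℂ)).factorization p + 1) ∣
      (charDegree (η : G → ℂ) : ℤ) := by
    rw [← Nat.cast_pow, Int.natCast_dvd_natCast,
      hp.pow_dvd_iff_le_factorization (Chars.charDegree_pos η).ne']
    omega
  rw [key η hη _ (by omega), ← key χ₁ hχ₁ _ (by omega), ← Nat.cast_pow, Int.natCast_dvd_natCast,
    hp.pow_dvd_iff_le_factorization (Chars.charDegree_pos χ₁).ne'] at h1
  omega

end IsSplit

end CfsgLib.Blocks.Cyclic
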