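import Cfsg.Agent.Blocks.Basic.Residue
import Mathlib.LinearAlgebra.Determinant
import Mathlib.LinearAlgebra.Trace

/-!
# Ranks of reduced idempotents

For an idempotent matrix over a ring mapped into a field of characteristic zero and into an
infinite field, the rank downstairs is the trace upstairs. In the group algebra an idempotent
`z` with local coefficients cuts out `|G| * z(1)` dimensions after reduction.
-/

set_option autoImplicit false
open Polynomial
open scoped MonoidAlgebra
open Cfsg CfsgLib

namespace CfsgLib.Blocks.Cyclic

universe u v w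

section field

variable {K : Type u} [Field K] {V : Type v} [AddCommGroup V] [Module K V] [FiniteDimensional K V]

omit [FiniteDimensional K V] in
theorem isProj_range_of_idem {E : V →ₗ[K] V} (hE : E * E = E) :
    LinearMap.IsProj (LinearMap.range E) E :=
  ⟨fun v => LinearMap.mem_range_self E v, fun v hv => by
    obtain ⟨w, rfl⟩ := hv
    exact LinearMap.congr_fun hE w⟩

theorem det_one_add_smul_idem {E : V →ₗ[K] V} (hE : E * E = E) (c : K) :
    LinearMap.det (1 + c • E) = (1 + c) ^ Module.finrank K (LinearMap.range E) := by
  have hp := isProj_range_of_idem hE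
  let e := Submodule.prodEquivOfIsCompl _ _ hp.isCompl
  have h : (1 + c • E : V →ₗ[K] V) = e.conj
      (LinearMap.prodMap ((1 + c) • LinearMap.id) LinearMap.id) := by
    apply LinearMap.ext
    intro v
    obtain ⟨⟨a, b⟩, rfl⟩ := e.surjective v
    have ha : E (a : V) = a := hp.map_id _ a.2
    have hb : E (b : V) = 0 := b.2
    simp [e, LinearEquiv.conj_apply, Submodule.coe_prodEquivOfIsCompl', ha, hb, add_smul]
    abel
  rw [h, LinearEquiv.conj_apply, LinearMap.comp_assoc, LinearMap.det_conj]
  simp [LinearMap.det_prodMap, LinearMap.det_smul]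

end field

/-- Evaluation of the determinant attached to an idempotent matrix. -/
theorem eval_det_idem {O : Type w} [CommRing O] {F : Type u} [Field F] (g : O →+* F) {n : Type*}
    [Fintype n] [DecidableEq n] {P : Matrix n n O} (hP : P * P = P) (c : F) :
    (((1 + (X - 1 : O[X]) • P.map C).det).map g).eval c =
      c ^ Module.finrank F (LinearMap.range (Matrix.toLin' (P.map g))) := by
  have hid : Matrix.toLin' (P.map g) * Matrix.toLin' (P.map g) = Matrix.toLin' (P.map g) := by
    rw [Module.End.mul_eq_comp, ← Matrix.toLin'_mul, ← Matrix.map_mul, hP]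
  have h := det_one_add_smul_idem hid (c - 1)
  rw [add_sub_cancel] at h
  rw [← h, ← map_smul, show (1 : (n → F) →ₗ[F] n → F) = Matrix.toLin' 1 from Matrix.toLin'_one.symm,
    ← map_add, LinearMap.det_toLin', Polynomial.eval_map, ← Polynomial.coe_eval₂RingHom,
    RingHom.map_det]
  congr 1
  ext i j
  by_cases hij : i = j <;> simp [hij]

/-- The rank of the reduction of an idempotent matrix is its trace. -/
theorem finrank_range_reduction {O : Type w} [CommRing O] {K : Type u} [Field K] [CharZero K]
    {k : Type v} [Field k] [Infinite k] {f : O →+* K} (hf : Function.Injective f) (ρ : O →+* k)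
    {n : Type*} [Fintype n] [DecidableEq n] {P : Matrix n n O} (hP : P * P = P) :
    (Module.finrank k (LinearMap.range (Matrix.toLin' (P.map ρ))) : K) = (P.map f).trace := by
  set Q : O[X] := (1 + (X - 1 : O[X]) • P.map C).det with hQ
  set r := Module.finrank K (LinearMap.range (Matrix.toLin' (P.map f))) with hr
  have hX : Q = X ^ r := Polynomial.map_injective f hf
    (Polynomial.funext fun c => by rw [hQ, eval_det_idem f hP c]; simp [hr])
  have hr' : Module.finrank k (LinearMap.range (Matrix.toLin' (P.map ρ))) = r := by
    have h2 : (X : k[X]) ^ r =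
        X ^ Module.finrank k (LinearMap.range (Matrix.toLin' (P.map ρ))) :=
      Polynomial.funext fun c => by
        have := eval_det_idem ρ hP c
        rw [← hQ, hX] at this
        simpa using this
    have := congrArg Polynomial.natDegree h2
    simpa using this.symm
  rw [hr', hr, ← Matrix.trace_toLin'_eq]
  refine ((isProj_range_of_idem ?_).trace).symm
  rw [Module.End.mul_eq_comp, ← Matrix.toLin'_mul, ← Matrix.map_mul, hP]

variable {G : Type u} [Group G] [Fintype G] {M : Ideal AlgInt} [M.IsMaximal]

/-- The dimension of the left ideal of a reduced idempotent. -/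
theorem finrank_range_mulLeft_reduce {z : localElts M G} (hz : z * z = z) :
    (Module.finrank (kres M) (LinearMap.range (LinearMap.mulLeft (kres M) (reduceHom M G z))) : ℂ) =
      (Nat.card G : ℂ) * (z : GA G).coeff 1 := by
  classical
  let P : Matrix G G (localRing M) := fun g h => ⟨(z : GA G).coeff (g * h⁻¹), z.2 _⟩
  have hP : P * P = P := by
    ext g h
    have h1 := congrArg (fun w : localElts M G => (w : GA G).coeff (g * h⁻¹)) hz
    simp only [Subring.coe_mul, coeff_mul_eq_sum] at h1
    rw [Matrix.mul_apply]
    push_cast
    simp only [P]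
    rw [← h1]
    refine Fintype.sum_equiv ((Equiv.inv G).trans (Equiv.mulLeft g)) _ _ fun x => ?_
    simp [mul_assoc]
  have hfin := finrank_range_reduction (K := ℂ) (k := kres M) (f := (localRing M).subtype)
    Subtype.coe_injective (res M) hP
  let e : MonoidAlgebra (kres M) G ≃ₗ[kres M] (G → kres M) :=
    (MonoidAlgebra.coeffLinearEquiv (kres M)).trans (Finsupp.linearEquivFunOnFinite (kres M) (kres M) G)
  have he : ∀ a g, e a g = a.coeff g := fun a g => rfl
  have hconj : LinearMap.range (Matrix.toLin' (P.map (res M))) =
      (LinearMap.range (LinearMap.mulLeft (kres M) (reduceHom M G z))).map e.toLinearMap := by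
    rw [← LinearMap.range_comp,
      ← LinearMap.range_comp_of_range_eq_top (Matrix.toLin' (P.map (res M)))
        (LinearEquiv.range e)]
    congr 1
    refine LinearMap.ext fun a => funext fun g => ?_
    simp only [LinearMap.comp_apply, LinearEquiv.coe_coe, Matrix.toLin'_apply, he,
      LinearMap.mulLeft_apply, Matrix.mulVec, dotProduct, Matrix.map_apply]
    rw [MonoidAlgebra.coeff_mul_apply_left, Finsupp.sum_fintype _ _ (fun _ => zero_mul _)]
    refine Fintype.sum_equiv ((Equiv.inv G).trans (Equiv.mulLeft g)) _ _ fun x => ?_
    simp [P, coeff_reduceHom]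
  rw [hconj, LinearEquiv.finrank_map_eq] at hfin
  rw [hfin, Matrix.trace]
  simp [P, Matrix.map, Nat.card_eq_fintype_card]

end CfsgLib.Blocks.Cyclic
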