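import Cfsg.Agent.Blocks.Cyclic.TowerCalc
import Cfsg.Agent.Blocks.Cyclic.Sums
import Cfsg.Agent.Blocks.Defect.LocalBlocks
import Mathlib.LinearAlgebra.Projection

/-!
# The Green layer of an irreducible module

For `Z` of order `p` in a cyclic defect group and the tower `(f, x)` of `C(Z)`, the quotient of
`ker x` by the image of `x ^ (q - 1)` inside `f S` of an irreducible `S` is zero or a simple module
of the stabiliser of `f` in `N(Z)`; it is zero outside the block.
-/

set_option autoImplicit false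
set_option linter.unusedSectionVars false
open scoped MonoidAlgebra
open MonoidAlgebra (single)

namespace CfsgLib.Blocks.Cyclic

universe u v w

variable {k : Type w} [Field k] {G : Type u} [Group G] [Finite G]

/-- A block with cyclic defect group and the tower of its pair at the subgroup of order `p`. -/
structure IsCyclicSetting (p : ℕ) (Z D : Subgroup G) (b f x : k[G]) (q : ℕ) : Prop where
  card_Z : Nat.card Z = p
  le : Z ≤ D
  pGroup : IsPGroup p D
  cyclic : IsCyclic D
  block : IsBlockIdem ⊤ b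
  f_block : IsBlockIdem (Subgroup.centralizer (Z : Set G)) f
  br_over : brTrunc Z b * f = f
  defect : IsDefectGroupIdem p (Subgroup.centralizer (Z : Set G)) f D
  tower : IsTower (Subgroup.centralizer (Z : Set G)) f x q
  two_le : 2 ≤ q

omit [Finite G] in
theorem conjA_eq_mul (g : G) (a : k[G]) :
    conjA g a = single g (1 : k) * a * single g⁻¹ (1 : k) := by
  refine MonoidAlgebra.ext (Finsupp.ext fun y => ?_)
  rw [coeff_conjA, MonoidAlgebra.coeff_mul_single_apply, inv_inv,
    MonoidAlgebra.coeff_single_mul_apply, one_mul, mul_one]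
  congr 1
  group

omit [Finite G] in
theorem single_mul_inv (g : G) : single g (1 : k) * single g⁻¹ (1 : k) = 1 := by
  rw [MonoidAlgebra.single_mul_single, mul_inv_cancel, one_mul, MonoidAlgebra.one_def]

omit [Finite G] in
theorem inv_mul_single (g : G) : single g⁻¹ (1 : k) * single g (1 : k) = 1 := by
  rw [MonoidAlgebra.single_mul_single, inv_mul_cancel, one_mul, MonoidAlgebra.one_def]

namespace IsCyclicSetting

variable {p : ℕ} [Fact p.Prime] {Z D : Subgroup G} {b f x : k[G]} {q : ℕ}

section groups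

variable (h : IsCyclicSetting p Z D b f x q)
include h

theorem Z_pGroup : IsPGroup p Z := h.pGroup.to_le h.le

omit [Fact p.Prime] in
theorem D_le : D ≤ Subgroup.centralizer (Z : Set G) := h.defect.1

omit [Fact p.Prime] in
theorem le_stab : Subgroup.centralizer (Z : Set G) ≤ pairStab ⊤ Z f := fun g hg =>
  mem_pairStab.2 ⟨⟨Subgroup.mem_top g, Subgroup.centralizer_le_normalizer _ hg⟩,
    isFixedBy_iff_conjA.1 h.f_block.mem.2 g hg⟩

omit [Fact p.Prime] h in
theorem stab_le : pairStab ⊤ Z f ≤ Subgroup.normalizer ((Subgroup.centralizer (Z : Set G) : Subgroup G) : Set G) :=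
  (pairStab_le_normalizer _ _ _).trans (normalizer_le_normalizer_centralizer Z)

omit [Fact p.Prime] h in
theorem stab_fix : ∀ g ∈ pairStab ⊤ Z f, conjA g f = f := fun _ hg => (mem_pairStab.1 hg).2

omit [Fact p.Prime] in
theorem move : ∀ s, IsSupportedOn s (pairStab ⊤ Z f) →
    ∃ s', IsSupportedOn s' (pairStab ⊤ Z f) ∧ s * x = x * s' :=
  h.tower.move_of_stab h.two_le h.le_stab stab_le stab_fix

omit [Fact p.Prime] in
theorem comm_f {s : k[G]} (hs : IsSupportedOn s (pairStab ⊤ Z f)) : Commute s f :=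
  commute_of_isFixedBy hs (isFixedBy_iff_conjA.2 stab_fix)

omit [Fact p.Prime] in
/-- On the stabiliser the left multiples of `x` are right multiples. -/
theorem exists_mul_x {s : k[G]} (hs : IsSupportedOn s (pairStab ⊤ Z f)) :
    ∃ s', x * s = s' * x := by
  classical
  have key : ∀ g ∈ pairStab ⊤ Z f, ∃ s', x * single g (1 : k) = s' * x := by
    intro g hg
    obtain ⟨a, ha, he⟩ := h.tower.exists_conj_x h.two_le
      (Subgroup.inv_mem _ (stab_le hg)) (stab_fix g⁻¹ (Subgroup.inv_mem _ hg))
    refine ⟨single g 1 * a, ?_⟩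
    rw [mul_assoc (single g 1), h.tower.comm_x ha, ← he, conjA_eq_mul, inv_inv, ← mul_assoc,
      ← mul_assoc, single_mul_inv, one_mul]
  choose! s' hs' using key
  refine ⟨∑ g ∈ s.coeff.support, s.coeff g • s' g, ?_⟩
  rw [Finset.sum_mul]
  conv_lhs => rw [← MonoidAlgebra.ofCoeff_coeff s, ← Finsupp.sum_single s.coeff,
    MonoidAlgebra.ofCoeff_finsuppSum, Finsupp.sum, Finset.mul_sum]
  refine Finset.sum_congr rfl fun g hg => ?_
  rw [MonoidAlgebra.ofCoeff_single, smul_mul_assoc,
    ← hs' g (by_contra fun hn => (Finsupp.mem_support_iff.1 hg) (hs g hn)),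
    show single g (s.coeff g) = s.coeff g • single g (1 : k) by simp, mul_smul_comm]

/-- The subgroup of order `p` of a cyclic `p`-subgroup lies in every nontrivial subgroup. -/
theorem conj_Z_le {K : Subgroup G} (g : G) (hK : K ≤ D.map (MulAut.conj g).toMonoidHom)
    (hne : K ≠ ⊥) : Z.map (MulAut.conj g).toMonoidHom ≤ K := by
  have hDc : IsCyclic (D.map (MulAut.conj g).toMonoidHom) := by
    have := h.cyclic
    exact isCyclic_of_surjective _
      (D.equivMapOfInjective (MulAut.conj g).toMonoidHom (MulAut.conj g).injective).surjective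
  obtain ⟨n, hn⟩ := IsPGroup.iff_card.1 ((h.pGroup.map (MulAut.conj g).toMonoidHom).to_le hK)
  have hn0 : n ≠ 0 := fun h0 => hne (Subgroup.card_eq_one.1 (by rw [hn, h0, pow_zero]))
  obtain ⟨u, hu⟩ := exists_prime_orderOf_dvd_card' p (hn ▸ dvd_pow_self p hn0)
  intro z hz
  let y : D.map (MulAut.conj g).toMonoidHom := ⟨u, hK u.2⟩
  let z' : D.map (MulAut.conj g).toMonoidHom := ⟨z, Subgroup.map_mono h.le hz⟩
  have hy : orderOf y = p := by
    rw [← Subgroup.orderOf_coe y]
    show orderOf (u : G) = p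
    rw [Subgroup.orderOf_coe, hu]
  have hzp : z ^ p = 1 := by
    have h1 := pow_card_eq_one' (x := (⟨z, hz⟩ : Z.map (MulAut.conj g).toMonoidHom))
    rw [card_map_conj, h.card_Z] at h1
    exact congrArg Subtype.val h1
  have hmem : z' ∈ Subgroup.zpowers y := by
    classical
    have : Fintype (D.map (MulAut.conj g).toMonoidHom) := Fintype.ofFinite _
    have hsub : (Finset.univ.filter fun w => w ∈ Subgroup.zpowers y) =
        Finset.univ.filter fun w : D.map (MulAut.conj g).toMonoidHom => w ^ p = 1 := by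
      refine Finset.eq_of_subset_of_card_le (fun w hw => ?_) ?_
      · rw [Finset.mem_filter] at hw ⊢
        obtain ⟨i, rfl⟩ := hw.2
        refine ⟨Finset.mem_univ _, ?_⟩
        show (y ^ i) ^ p = 1
        rw [← zpow_natCast (y ^ i) p, ← zpow_mul, mul_comm, zpow_mul, zpow_natCast, ← hy,
          pow_orderOf_eq_one, one_zpow]
      · refine le_trans (IsCyclic.card_pow_eq_one_le (Fact.out : p.Prime).pos) (le_of_eq ?_)
        rw [← Fintype.card_subtype, ← Nat.card_eq_fintype_card,
          show Nat.card {w // w ∈ Subgroup.zpowers y} = _ from Nat.card_zpowers y, hy]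
    have h2 : z' ∈ Finset.univ.filter fun w : D.map (MulAut.conj g).toMonoidHom => w ^ p = 1 :=
      Finset.mem_filter.2 ⟨Finset.mem_univ _, Subtype.ext hzp⟩
    rw [← hsub] at h2
    exact (Finset.mem_filter.1 h2).2
  obtain ⟨i, hi⟩ := hmem
  have e : ((u : G)) ^ i = z :=
    (Subgroup.coe_zpow _ y i).symm.trans (congrArg Subtype.val hi)
  rw [← e]
  exact Subgroup.zpow_mem _ u.2 i

/-- The quotient of the stabiliser by the centralizer is cyclic of order prime to `p`. -/
theorem exists_generator [CharP k p] :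
    ((Subgroup.centralizer (Z : Set G)).relIndex (pairStab ⊤ Z f) : k) ≠ 0 ∧
      ¬ p ∣ (Subgroup.centralizer (Z : Set G)).relIndex (pairStab ⊤ Z f) ∧
      ∃ t ∈ pairStab ⊤ Z f,
        t ^ (Subgroup.centralizer (Z : Set G)).relIndex (pairStab ⊤ Z f) ∈
            Subgroup.centralizer (Z : Set G) ∧
        (∀ l, 0 < l → l < (Subgroup.centralizer (Z : Set G)).relIndex (pairStab ⊤ Z f) →
          t ^ l ∉ Subgroup.centralizer (Z : Set G)) ∧
        ∀ s ∈ pairStab ⊤ Z f, ∃ l : ℕ, ∃ c ∈ Subgroup.centralizer (Z : Set G), s = t ^ l * c := by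
  classical
  have hp : p.Prime := Fact.out
  set C := Subgroup.centralizer (Z : Set G) with hC
  set T := pairStab ⊤ Z f with hT
  have hTN : T ≤ Subgroup.normalizer (Z : Set G) := pairStab_le_normalizer _ _ _
  let φ : T →* MulAut Z := (Subgroup.normalizerMonoidHom Z).comp (Subgroup.inclusion hTN)
  have hker : φ.ker = C.subgroupOf T := by
    ext t
    rw [MonoidHom.mem_ker, Subgroup.mem_subgroupOf, hC, Subgroup.mem_centralizer_iff]
    constructor
    · intro ht z hz
      have h1 : (t : G) * z * (t : G)⁻¹ = z :=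
        congrArg Subtype.val (DFunLike.congr_fun ht (⟨z, hz⟩ : Z))
      conv_lhs => rw [← h1]
      group
    · intro ht
      refine MulEquiv.ext fun a => Subtype.ext ?_
      show (t : G) * a * (t : G)⁻¹ = a
      rw [← ht a a.2, mul_inv_cancel_right]
  have : IsCyclic Z := isCyclic_of_prime_card h.card_Z
  have : IsCyclic (ZMod (Nat.card Z))ˣ := by rw [h.card_Z]; infer_instance
  have hCn : (C.subgroupOf T).Normal := hker ▸ φ.normal_ker
  let ιh : T ⧸ C.subgroupOf T →* (ZMod (Nat.card Z))ˣ :=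
    QuotientGroup.lift _ ((IsCyclic.mulAutMulEquiv (G := Z)).toMonoidHom.comp φ) fun t ht => by
      rw [← hker, MonoidHom.mem_ker] at ht
      rw [MonoidHom.mem_ker, MonoidHom.comp_apply, ht, map_one]
  have hι : Function.Injective ιh := by
    rw [injective_iff_map_eq_one]
    intro a ha
    induction a using QuotientGroup.induction_on with
    | _ t =>
      rw [QuotientGroup.eq_one_iff, ← hker, MonoidHom.mem_ker]
      exact (IsCyclic.mulAutMulEquiv (G := Z)).injective (ha.trans (map_one _).symm)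
  set e := C.relIndex T with he
  have hdvd : e ∣ p - 1 := by
    have h1 := Subgroup.card_dvd_of_injective ιh hι
    have hu : Nat.card (ZMod (Nat.card Z))ˣ = p - 1 := by
      rw [h.card_Z, Nat.card_eq_fintype_card, ZMod.card_units]
    rwa [hu] at h1
  have hnd : ¬ p ∣ e := fun hpe => by
    have := Nat.le_of_dvd (Nat.sub_pos_of_lt hp.one_lt) (hpe.trans hdvd)
    have := hp.one_lt
    omega
  refine ⟨fun h0 => hnd ((CharP.cast_eq_zero_iff k p e).1 h0), hnd, ?_⟩
  have : IsCyclic (T ⧸ C.subgroupOf T) := isCyclic_of_injective ιh hι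
  obtain ⟨tc, htc⟩ := IsCyclic.exists_generator (α := T ⧸ C.subgroupOf T)
  obtain ⟨t, rfl⟩ := QuotientGroup.mk_surjective tc
  have hord : orderOf (t : T ⧸ C.subgroupOf T) = e := by
    rw [orderOf_eq_card_of_forall_mem_zpowers htc]; rfl
  have hpowC : ∀ l : ℕ, (t : G) ^ l ∈ C ↔ e ∣ l := by
    intro l
    rw [← hord, orderOf_dvd_iff_pow_eq_one, ← QuotientGroup.mk_pow, QuotientGroup.eq_one_iff,
      Subgroup.mem_subgroupOf, Subgroup.coe_pow]
  refine ⟨t, t.2, (hpowC e).2 dvd_rfl, fun l h0 hl hC' => ?_, fun s hs => ?_⟩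
  · exact absurd (Nat.le_of_dvd h0 ((hpowC l).1 hC')) (not_le.2 hl)
  · obtain ⟨l, hl⟩ := (mem_powers_iff_mem_zpowers).2 (htc ((⟨s, hs⟩ : T) : T ⧸ C.subgroupOf T))
    refine ⟨l, ((t : G) ^ l)⁻¹ * s, ?_, by rw [mul_inv_cancel_left]⟩
    have h1 : ((t ^ l : T) : T ⧸ C.subgroupOf T) = (⟨s, hs⟩ : T) := hl
    rw [QuotientGroup.eq, Subgroup.mem_subgroupOf] at h1
    simpa using h1

end groups

variable {S : Type v} [AddCommGroup S] [Module k S] (Φ : k[G] →ₐ[k] Module.End k S)

/-- The vectors of `f S` killed by `x`. -/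
noncomputable def kerLayer (f x : k[G]) : Submodule k S := LinearMap.ker (Φ x) ⊓ LinearMap.range (Φ f)

/-- The image of `x ^ (q - 1)`. -/
noncomputable def topLayer (x : k[G]) (q : ℕ) : Submodule k S := LinearMap.range (Φ (x ^ (q - 1)))

omit [Finite G] in
theorem mem_kerLayer (hf : f * f = f) {v : S} :
    v ∈ kerLayer Φ f x ↔ Φ x v = 0 ∧ Φ f v = v := by
  refine ⟨fun ⟨h1, u, hu⟩ => ⟨h1, ?_⟩, fun ⟨h1, h2⟩ => ⟨h1, v, h2⟩⟩
  rw [← hu, ← Module.End.mul_apply, ← map_mul, hf]

variable (h : IsCyclicSetting p Z D b f x q)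
include h

omit [Fact p.Prime] in
theorem topLayer_le : topLayer Φ x q ≤ kerLayer Φ f x := by
  rintro _ ⟨u, rfl⟩
  refine (mem_kerLayer Φ h.tower.idem).2 ⟨?_, ?_⟩
  · rw [← Module.End.mul_apply, ← map_mul, ← pow_succ', Nat.sub_add_cancel h.tower.one_le,
      h.tower.pow_q, map_zero, LinearMap.zero_apply]
  · rw [← Module.End.mul_apply, ← map_mul, h.tower.f_mul_top h.two_le]

omit [Fact p.Prime] in
theorem kerLayer_stable {s : k[G]} (hs : IsSupportedOn s (pairStab ⊤ Z f)) {v : S}
    (hv : v ∈ kerLayer Φ f x) : Φ s v ∈ kerLayer Φ f x := by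
  classical
  rw [mem_kerLayer Φ h.tower.idem] at hv ⊢
  refine ⟨?_, ?_⟩
  · -- `x s` is a right multiple of `x`
    have hex : ∃ s', x * s = s' * x := h.exists_mul_x hs
    obtain ⟨s', hs'⟩ := hex
    rw [← Module.End.mul_apply, ← map_mul, hs', map_mul, Module.End.mul_apply, hv.1, map_zero]
  · rw [← Module.End.mul_apply, ← map_mul, ← (h.comm_f hs).eq, map_mul, Module.End.mul_apply, hv.2]

omit [Fact p.Prime] in
theorem range_pow_stable {s : k[G]} (hs : IsSupportedOn s (pairStab ⊤ Z f)) (m : ℕ) {v : S}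
    (hv : v ∈ LinearMap.range (Φ (x ^ m))) : Φ s v ∈ LinearMap.range (Φ (x ^ m)) := by
  have key : ∀ m, ∀ s, IsSupportedOn s (pairStab ⊤ Z f) →
      ∃ s', IsSupportedOn s' (pairStab ⊤ Z f) ∧ s * x ^ m = x ^ m * s' := by
    intro m
    induction m with
    | zero => exact fun s hs => ⟨s, hs, by simp⟩
    | succ m ih =>
      intro s hs
      obtain ⟨s₁, hs₁, h₁⟩ := ih s hs
      obtain ⟨s₂, hs₂, h₂⟩ := h.move s₁ hs₁
      exact ⟨s₂, hs₂, by rw [pow_succ, ← mul_assoc, h₁, mul_assoc, h₂, mul_assoc]⟩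
  obtain ⟨u, rfl⟩ := hv
  obtain ⟨s', -, hs'⟩ := key m s hs
  exact ⟨Φ s' u, by rw [← Module.End.mul_apply, ← map_mul, ← hs', map_mul, Module.End.mul_apply]⟩

omit [Fact p.Prime] in
/-- Traces from the trivial subgroup to `C` map `ker x` into the image of `x ^ (q - 1)`. -/
theorem trace_mem [FiniteDimensional k S] [Fintype (Subgroup.centralizer (Z : Set G))]
    (Y : Module.End k S) {v : S} (hv : v ∈ kerLayer Φ f x) :
    (∑ c : Subgroup.centralizer (Z : Set G),
      Φ (single (c : G) 1) * Y * Φ (single (c : G)⁻¹ 1)) v ∈ topLayer Φ x q := by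
  classical
  rw [mem_kerLayer Φ h.tower.idem] at hv
  let bs := Module.finBasis k S
  let a : S → Fin (Module.finrank k S) → k[G] := fun v i =>
    ∑ c : (Subgroup.centralizer (Z : Set G)), bs.coord i (Y (Φ (single (c : G)⁻¹ 1) v)) • single (c : G) (1 : k)
  have has : ∀ v i, IsSupportedOn (a v i) (Subgroup.centralizer (Z : Set G)) := fun v i =>
    (suppAlg k (Subgroup.centralizer (Z : Set G))).sum_mem fun c _ => (suppAlg k (Subgroup.centralizer (Z : Set G))).smul_mem (IsSupportedOn.single c.2 1) _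
  -- multiplication by elements of `k (Subgroup.centralizer (Z : Set G))`
  have hsingle : ∀ (d : (Subgroup.centralizer (Z : Set G))) (v : S) i,
      single (d : G) (1 : k) * a v i = a (Φ (single (d : G) 1) v) i := by
    intro d v i
    simp only [a, Finset.mul_sum, mul_smul_comm, MonoidAlgebra.single_mul_single, mul_one]
    refine Fintype.sum_equiv (Equiv.mulLeft d) _ _ fun c => ?_
    simp only [Equiv.coe_mulLeft, Subgroup.coe_mul, mul_inv_rev]
    rw [show ∀ a b : k[G], Φ a (Φ b v) = Φ (a * b) v from fun a b => by rw [map_mul]; rfl,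
      MonoidAlgebra.single_mul_single, one_mul, mul_assoc, inv_mul_cancel, mul_one]
  have hmul : ∀ z, IsSupportedOn z (Subgroup.centralizer (Z : Set G)) → ∀ v i, z * a v i = a (Φ z v) i := by
    intro z hz v i
    have hlin : ∀ (s : Finset G) (r : G → k),
        a (∑ g ∈ s, r g • Φ (single g 1) v) i = ∑ g ∈ s, r g • a (Φ (single g 1) v) i := by
      intro s r
      simp only [a, map_sum, map_smul, Finset.sum_smul, Finset.smul_sum, smul_eq_mul, mul_smul]
      exact Finset.sum_comm
    have hdec : z = ∑ g ∈ z.coeff.support, z.coeff g • single g (1 : k) := by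
      conv_lhs => rw [← MonoidAlgebra.ofCoeff_coeff z, ← Finsupp.sum_single z.coeff,
        MonoidAlgebra.ofCoeff_finsuppSum, Finsupp.sum]
      exact Finset.sum_congr rfl fun g _ => by simp
    conv_rhs => rw [hdec, map_sum, LinearMap.sum_apply]
    simp only [map_smul, LinearMap.smul_apply]
    rw [hlin]
    conv_lhs => rw [hdec, Finset.sum_mul]
    refine Finset.sum_congr rfl fun g hg => ?_
    rw [smul_mul_assoc]
    congr 1
    exact hsingle ⟨g, by_contra fun hn => (Finsupp.mem_support_iff.1 hg) (hz g hn)⟩ v i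
  have heq : (∑ c : (Subgroup.centralizer (Z : Set G)), Φ (single (c : G) 1) * Y * Φ (single (c : G)⁻¹ 1)) v =
      ∑ i, Φ (a v i) (bs i) := by
    simp only [a, map_sum, map_smul, LinearMap.sum_apply, LinearMap.smul_apply]
    rw [Finset.sum_comm]
    refine Finset.sum_congr rfl fun c _ => ?_
    simp only [Module.End.mul_apply, ← map_smul, ← map_sum, Module.Basis.coord_apply, bs.sum_repr]
  rw [heq]
  refine Submodule.sum_mem _ fun i _ => ?_
  obtain ⟨a', -, ha'⟩ := h.tower.ann (a v i) (has v i) (by rw [hmul f h.tower.f_mem.1, hv.2])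
    (by rw [hmul x h.tower.x_mem.1, hv.1]; simp [a])
  exact ⟨Φ a' (bs i), by rw [← Module.End.mul_apply, ← map_mul, ← ha']⟩

/-- An element normalising `Z` outside the stabiliser separates the conjugates of `f`; one outside
the normalizer has `f` as a free trace. -/
theorem exists_free_trace [CharP k p] {g : G} (hg : g ∉ Subgroup.normalizer (Z : Set G))
    {K : Subgroup G} [Fintype K] (hK : K ≤ pairStab ⊤ Z f)
    (hKD : K ≤ D.map (MulAut.conj g).toMonoidHom) (hne : K ≠ ⊥)
    (hnd : ¬ p ∣ (Subgroup.centralizer (Z : Set G)).relIndex (pairStab ⊤ Z f)) :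
    ∃ y, f = ∑ d : K, conjA (d : G) y := by
  classical
  have hp : p.Prime := Fact.out
  refine exists_trace_of_free (fun d hd => (isFixedBy_iff_conjA.2 stab_fix) d (hK hd))
    fun g' hg' d hd hdg => ?_
  by_contra hd1
  set Z' := Z.map (MulAut.conj g).toMonoidHom with hZ'
  have hzd : Z' ≤ Subgroup.zpowers d :=
    h.conj_Z_le g ((Subgroup.zpowers_le.2 hd).trans hKD) (by simpa using hd1)
  have hZ'T : Z' ≤ pairStab ⊤ Z f := hzd.trans (Subgroup.zpowers_le.2 (hK hd))
  have hZ'C : Z' ≤ Subgroup.centralizer (Z : Set G) := by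
    intro z hz
    obtain ⟨n, hn⟩ := IsPGroup.iff_orderOf.1 (h.Z_pGroup.map (MulAut.conj g).toMonoidHom) ⟨z, hz⟩
    rw [Subgroup.orderOf_mk] at hn
    set C := (Subgroup.centralizer (Z : Set G)).subgroupOf (pairStab ⊤ Z f)
    have hN : C.Normal := ⟨fun a ha s => (Subgroup.mem_normalizer_iff.1
      (stab_le (f := f) s.2) a).1 ha⟩
    have h1 : orderOf ((⟨z, hZ'T hz⟩ : pairStab ⊤ Z f) : _ ⧸ C) ∣ p ^ n := by
      rw [← hn, ← Subgroup.orderOf_mk z (hZ'T hz)]
      exact orderOf_map_dvd (QuotientGroup.mk' C) _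
    have h2 : orderOf ((⟨z, hZ'T hz⟩ : pairStab ⊤ Z f) : _ ⧸ C) = 1 :=
      Nat.Coprime.eq_one_of_dvd (((hp.coprime_iff_not_dvd.2 hnd).pow_left n).coprime_dvd_left h1)
        (orderOf_dvd_natCard _)
    rw [orderOf_eq_one_iff, QuotientGroup.eq_one_iff] at h2
    exact h2
  have hbr : brTrunc Z' f ≠ 0 := fun h0 => hg' <| by
    have h1 : g' ∈ Subgroup.centralizer (Z' : Set G) := by
      refine Subgroup.mem_centralizer_iff.2 fun z hz => ?_
      obtain ⟨i, rfl⟩ := hzd hz
      have hc : Commute d g' := by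
        show d * g' = g' * d
        conv_rhs => rw [← hdg]
        group
      exact (hc.zpow_left i).eq
    rw [← coeff_brTrunc_of_mem f h1, h0]
    simp
  obtain ⟨c, hc, hle⟩ := h.defect.2.2.2 Z' hZ'C (h.Z_pGroup.map _) hbr
  have hne' : Z'.map (MulAut.conj c).toMonoidHom ≠ ⊥ := fun h0 => by
    have := congrArg (fun W : Subgroup G => Nat.card W) h0
    simp only [hZ', card_map_conj, h.card_Z, Subgroup.card_bot] at this
    exact hp.ne_one this
  have hZle : Z ≤ Z'.map (MulAut.conj c).toMonoidHom := by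
    have := h.conj_Z_le 1 (by rwa [map_conj_one]) hne'
    rwa [map_conj_one] at this
  apply hg
  refine mem_normalizer_of_map_conj_le ?_
  intro z hz
  have hZeq : Z'.map (MulAut.conj c).toMonoidHom = Z :=
    (Subgroup.eq_of_le_of_card_ge hZle (by rw [hZ', card_map_conj, card_map_conj])).symm
  obtain ⟨y, hy, rfl⟩ := hz
  have h1 : c * (g * y * g⁻¹) * c⁻¹ ∈ Z := hZeq ▸ ⟨_, ⟨y, hy, rfl⟩, rfl⟩
  have h2 := Subgroup.mem_centralizer_iff.1 hc _ h1
  have e1 : g * y * g⁻¹ = c * (g * y * g⁻¹) * c⁻¹ := by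
    calc g * y * g⁻¹ = c⁻¹ * ((c * (g * y * g⁻¹) * c⁻¹) * c) := by group
      _ = c * (g * y * g⁻¹) * c⁻¹ := by rw [h2]; group
  show g * y * g⁻¹ ∈ Z
  rw [e1]
  exact h1

/-- Endomorphisms commuting with the stabiliser are scalar on the layer. -/
theorem exists_scalar_layer [IsAlgClosed k] [CharP k p] [FiniteDimensional k S] (hΦ : IsIrredAct Φ)
    {E : Module.End k S} (hE : ∀ t ∈ pairStab ⊤ Z f, Φ (single t 1) * E = E * Φ (single t 1))
    (hfE : Φ f * E = E) (hEf : E * Φ f = E) :
    ∃ r : k, ∀ v ∈ kerLayer Φ f x, E v - r • v ∈ topLayer Φ x q := by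
  classical
  have : Fintype G := Fintype.ofFinite G
  set C := Subgroup.centralizer (Z : Set G) with hC
  set T := pairStab ⊤ Z f with hT
  obtain ⟨hek, hnd, -⟩ := h.exists_generator
  set e := C.relIndex T with he
  obtain ⟨a₀, ha₀s, ha₀f, hfa₀, ha₀⟩ := exists_trace_preimage h.f_block h.defect
  have hDT : D ≤ T := h.D_le.trans h.le_stab
  set α := (e : k)⁻¹ • a₀ with hα
  have hαf : IsFixedBy α D := isFixedBy_iff_conjA.2 fun d hd => by
    rw [hα, map_smul, isFixedBy_iff_conjA.1 ha₀f d hd]
  have hfα : f * α = α := by rw [hα, mul_smul_comm, hfa₀]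
  have htrα : cosetSum T D (fun g => conjA g α) = f := by
    rw [cosetSum_trans h.D_le h.le_stab (conjA_mul_of_fixed hαf),
      cosetSum_congr (F' := fun _ => (e : k)⁻¹ • f) fun g hg => ?_, cosetSum_const h.le_stab,
      ← he, ← Nat.cast_smul_eq_nsmul k, smul_inv_smul₀ hek]
    simp only [← conjA_conjA]
    rw [← map_cosetSum (conjA g)]
    have e1 : cosetSum C D (fun c => conjA c α) = (e : k)⁻¹ • f := by
      conv_rhs => rw [ha₀]
      simp only [hα, map_smul]
      exact (map_cosetSum (DistribMulAction.toAddMonoidHom k[G] (e : k)⁻¹) _).symm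
    rw [e1, map_smul, stab_fix g hg]
  set β := Φ α * E with hβ
  let U : G → Module.End k S := fun g => Φ (single g 1)
  have hUU : ∀ g, U g * U g⁻¹ = 1 := fun g => by
    show Φ _ * Φ _ = 1
    rw [← map_mul, single_mul_inv, map_one]
  have hUmul : ∀ g g', U (g * g') = U g * U g' := fun g g' => by
    show Φ _ = Φ _ * Φ _
    rw [← map_mul, MonoidAlgebra.single_mul_single, one_mul]
  have hUconj : ∀ g a, U g * Φ a * U g⁻¹ = Φ (conjA g a) := fun g a => by
    show Φ _ * Φ a * Φ _ = _
    rw [← map_mul, ← map_mul, conjA_eq_mul]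
  have hcommE : ∀ t ∈ T, U t * E * U t⁻¹ = E := fun t ht => by
    show Φ _ * E * _ = E
    rw [hE t ht, mul_assoc]
    show E * (U t * U t⁻¹) = E
    rw [hUU, mul_one]
  have hinvU : ∀ g, U g⁻¹ * U g = 1 := fun g => by
    show Φ _ * Φ _ = 1
    rw [← map_mul, inv_mul_single, map_one]
  let γ : G → Module.End k S := fun g => U g * β * U g⁻¹
  have hγD : ∀ g, ∀ d ∈ D, γ (g * d) = γ g := by
    intro g d hd
    have e1 : U d * β * U d⁻¹ = β := by
      calc U d * (Φ α * E) * U d⁻¹ = (U d * Φ α * U d⁻¹) * (U d * E * U d⁻¹) := by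
            simp only [mul_assoc]
            rw [← mul_assoc (U d⁻¹) (U d), hinvU, one_mul]
        _ = Φ α * E := by rw [hUconj, isFixedBy_iff_conjA.1 hαf d hd, hcommE d (hDT hd)]
    show U (g * d) * β * U (g * d)⁻¹ = U g * β * U g⁻¹
    rw [mul_inv_rev, hUmul, hUmul, mul_assoc (U g) (U d), mul_assoc (U g),
      ← mul_assoc (U d * β) (U d⁻¹), e1, ← mul_assoc]
  set F := cosetSum (⊤ : Subgroup G) D γ with hF
  have hFg : ∀ g, U g * F * U g⁻¹ = F := by
    intro g
    have := map_cosetSum (T := (⊤ : Subgroup G)) (D := D)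
      ((AddMonoidHom.mulRight (U g⁻¹)).comp (AddMonoidHom.mulLeft (U g))) γ
    simp only [AddMonoidHom.comp_apply, AddMonoidHom.coe_mulLeft, AddMonoidHom.coe_mulRight] at this
    rw [hF, this]
    refine Eq.trans (cosetSum_congr fun g' _ => ?_)
      (cosetSum_mul_left (F := γ) le_top hγD (t := g) (Subgroup.mem_top g))
    show U g * (U g' * β * U g'⁻¹) * U g⁻¹ = U (g * g') * β * U (g * g')⁻¹
    rw [mul_inv_rev, hUmul, hUmul]
    simp only [mul_assoc]
  obtain ⟨r, hr⟩ := exists_scalar hΦ (h := F) fun a => by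
    have hU : ∀ g, U g * F = F * U g := fun g => by
      conv_rhs => rw [← hFg g, mul_assoc _ (U g⁻¹), hinvU, mul_one]
    induction a using MonoidAlgebra.induction_on with
    | of g => exact hU g
    | add a a' ha ha' => rw [map_add, add_mul, mul_add, ha, ha']
    | smul c a ha => rw [map_smul, smul_mul_assoc, mul_smul_comm, ha]
  refine ⟨r, fun v hv => ?_⟩
  -- split off the cosets of the stabiliser
  let act : G → Module.End k S →+ Module.End k S := fun g =>
    (AddMonoidHom.mulRight (U g⁻¹)).comp (AddMonoidHom.mulLeft (U g))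
  let δ : G ⧸ D → Module.End k S := fun ω => Φ f * γ ω.out * Φ f
  let s : Finset (G ⧸ D) := (Set.toFinite {ω : G ⧸ D | ω.out ∉ T}).toFinset
  have hsum : F = cosetSum T D γ + ∑ ω ∈ s, γ ω.out := by
    rw [hF, cosetSum, cosetSum, ← Finset.sum_union]
    · refine Finset.sum_congr ?_ fun _ _ => rfl
      ext ω
      simp [s, em]
    · rw [Finset.disjoint_left]
      intro ω h1 h2
      exact (Set.Finite.mem_toFinset _).1 h2 (mem_cosets.1 h1)
  have hTpart : cosetSum T D γ = Φ f * E := by
    rw [cosetSum_congr (F' := fun g => Φ (conjA g α) * E) fun g hg => ?_]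
    · refine (map_cosetSum ((AddMonoidHom.mulRight E).comp Φ.toLinearMap.toAddMonoidHom)
        (fun g => conjA g α)).symm.trans ?_
      show Φ (cosetSum T D fun g => conjA g α) * E = _
      rw [htrα]
    · show U g * (Φ α * E) * U g⁻¹ = _
      calc U g * (Φ α * E) * U g⁻¹ = (U g * Φ α * U g⁻¹) * (U g * E * U g⁻¹) := by
            simp only [mul_assoc]
            rw [← mul_assoc (U g⁻¹) (U g), hinvU, one_mul]
        _ = _ := by rw [hUconj, hcommE g hg]
  obtain ⟨y, hy⟩ := exists_trace_of_orbits (T := T) (fun g (ω : G ⧸ D) => g • ω) (fun ω => one_smul G ω)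
    (fun a a' ω => mul_smul a a' ω) act (fun a a' X => by
      show U (a * a') * X * U (a * a')⁻¹ = U a * (U a' * X * U a'⁻¹) * U a⁻¹
      rw [mul_inv_rev, hUmul, hUmul]
      simp only [mul_assoc]) δ s
    (fun t ht ω hω => by
      rw [Set.Finite.mem_toFinset] at hω ⊢
      intro h'
      apply hω
      induction ω using QuotientGroup.induction_on with
      | _ g =>
        have h1 : t * g ∈ T := (out_mem_iff hDT _).1 h'
        exact (out_mem_iff hDT g).2 (by simpa using T.mul_mem (T.inv_mem ht) h1))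
    (fun t ht ω _ => by
      induction ω using QuotientGroup.induction_on with
      | _ g =>
        show Φ f * γ ((t * g : G) : G ⧸ D).out * Φ f = U t * (Φ f * γ (g : G ⧸ D).out * Φ f) * U t⁻¹
        rw [apply_out hγD, apply_out hγD]
        show Φ f * (U (t * g) * β * U (t * g)⁻¹) * Φ f = U t * (Φ f * (U g * β * U g⁻¹) * Φ f) * U t⁻¹
        have h1 : Φ f * U t = U t * Φ f := by
          show Φ f * Φ _ = Φ _ * Φ f
          rw [← map_mul, ← map_mul, (h.comm_f (IsSupportedOn.single ht 1)).eq]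
        have h2 : U t⁻¹ * Φ f = Φ f * U t⁻¹ := by
          show Φ _ * Φ f = Φ f * Φ _
          rw [← map_mul, ← map_mul, (h.comm_f (IsSupportedOn.single (T.inv_mem ht) 1)).eq]
        rw [mul_inv_rev, hUmul, hUmul]
        simp only [← mul_assoc]
        rw [h1, mul_assoc _ (U t⁻¹) (Φ f), h2, ← mul_assoc])
    (fun ω hω => by
      induction ω using QuotientGroup.induction_on with
      | _ g =>
        have hgT : g ∉ T := fun hg => (Set.Finite.mem_toFinset _).1 hω ((out_mem_iff hDT g).2 hg)
        show ∃ y, Φ f * γ (g : G ⧸ D).out * Φ f = _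
        rw [apply_out hγD]
        by_cases hgN : g ∈ Subgroup.normalizer (Z : Set G)
        · refine ⟨0, ?_⟩
          have horth : f * conjA g f = 0 := by
            have hgC : IsBlockIdem C (conjA g f) := by
              have := h.f_block.conjA g
              rwa [map_conj_eq_self_of_mem_normalizer
                (normalizer_le_normalizer_centralizer Z hgN)] at this
            refine h.f_block.orthogonal hgC fun he' => hgT ?_
            exact mem_pairStab.2 ⟨⟨Subgroup.mem_top g, hgN⟩, he'.symm⟩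
          simp only [map_zero, Finset.sum_const_zero]
          have e1 : Φ f * U g * Φ α = 0 := by
            have e2 : Φ f * (U g * Φ α * U g⁻¹) = 0 := by
              rw [hUconj, ← map_mul, ← hfα, map_mul (conjA g), ← mul_assoc, horth, zero_mul,
                map_zero]
            calc Φ f * U g * Φ α = Φ f * (U g * Φ α * U g⁻¹) * U g := by
                  simp only [mul_assoc]
                  rw [hinvU, mul_one]
              _ = 0 := by rw [e2, zero_mul]
          show Φ f * (U g * (Φ α * E) * U g⁻¹) * Φ f = 0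
          simp only [← mul_assoc]
          rw [e1, zero_mul, zero_mul, zero_mul]
        · let K := T ⊓ D.map (MulAut.conj g).toMonoidHom
          have hstab : ∀ t : T, (t : G) • (g : G ⧸ D) = g ↔ (t : G) ∈ K := by
            intro t
            show (((t : G) * g : G) : G ⧸ D) = g ↔ _
            rw [eq_comm, QuotientGroup.eq]
            refine ⟨fun h' => ⟨t.2, ⟨_, h', ?_⟩⟩, fun ⟨_, d, hd, hd'⟩ => ?_⟩
            · simp only [MulEquiv.coe_toMonoidHom, MulAut.conj_apply]
              group
            · simp only [MulEquiv.coe_toMonoidHom, MulAut.conj_apply] at hd'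
              rw [← hd']
              simpa [mul_assoc] using hd
          have hγK : ∀ d ∈ K, U d * γ g * U d⁻¹ = γ g := by
            rintro _ ⟨-, d, hd, rfl⟩
            show U (g * d * g⁻¹) * (U g * β * U g⁻¹) * U (g * d * g⁻¹)⁻¹ = γ g
            rw [← hγD g d hd]
            show _ = U (g * d) * β * U (g * d)⁻¹
            simp only [mul_inv_rev, inv_inv, hUmul, mul_assoc]
            simp only [← mul_assoc (U g⁻¹) (U g), hinvU, one_mul]
          by_cases hK0 : K = ⊥
          · refine ⟨Φ f * γ g * Φ f, ?_⟩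
            rw [Finset.sum_eq_single (1 : T)]
            · show _ = U 1 * (Φ f * γ g * Φ f) * U (1 : G)⁻¹
              simp [U, MonoidAlgebra.one_def.symm]
            · intro t ht ht1
              simp only [Finset.mem_filter] at ht
              exact absurd (Subtype.ext (Subgroup.mem_bot.1 (hK0 ▸ (hstab t).1 ht.2))) ht1
            · intro h'
              refine absurd ?_ h'
              simp only [Finset.mem_filter, Finset.mem_univ, true_and]
              exact one_smul G _
          · obtain ⟨y, hy⟩ := h.exists_free_trace hgN (K := K) inf_le_left inf_le_right hK0 hnd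
            refine ⟨Φ f * γ g * Φ y, ?_⟩
            conv_lhs => arg 2; rw [hy]
            rw [map_sum, Finset.mul_sum]
            refine Finset.sum_bij (fun d _ => (⟨d, d.2.1⟩ : T)) (fun d _ => ?_) (fun d _ d' _ hd => ?_)
              (fun t ht => ?_) fun d _ => ?_
            · simp only [Finset.mem_filter, Finset.mem_univ, true_and]
              exact (hstab ⟨d, d.2.1⟩).2 d.2
            · exact Subtype.ext (congrArg (fun t : T => (t : G)) hd)
            · simp only [Finset.mem_filter, Finset.mem_univ, true_and] at ht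
              exact ⟨⟨t, (hstab t).1 ht⟩, Finset.mem_univ _, rfl⟩
            · show Φ f * γ g * Φ (conjA (d : G) y) = U d * (Φ f * γ g * Φ y) * U (d : G)⁻¹
              have h1 : U d * Φ f = Φ f * U d := by
                show Φ _ * Φ f = Φ f * Φ _
                rw [← map_mul, ← map_mul, (h.comm_f (IsSupportedOn.single d.2.1 1)).eq]
              have h2 : γ g * U d = U d * γ g := by
                conv_lhs => rw [← hγK d d.2, mul_assoc _ (U (d : G)⁻¹), hinvU, mul_one]
              rw [← hUconj]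
              simp only [← mul_assoc]
              rw [h1, mul_assoc (Φ f) (γ g) (U d), h2]
              simp only [← mul_assoc])
  have hmain : r • Φ f = E + ∑ t : T, act t y := by
    have h1 : Φ f * F * Φ f = r • Φ f := by
      rw [hr, mul_smul_comm, mul_one, smul_mul_assoc, ← map_mul, h.tower.idem]
    rw [← h1, hsum, hTpart, mul_add, add_mul, ← hy, Finset.mul_sum, Finset.sum_mul,
      ← mul_assoc (Φ f), ← map_mul, h.tower.idem, hfE, hEf]
  have hv' := (mem_kerLayer Φ h.tower.idem).1 hv
  have e1 : E v - r • v = -((∑ t : T, act t y) v) := by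
    have := congrArg (fun L : Module.End k S => L v) hmain
    simp only [LinearMap.smul_apply, LinearMap.add_apply, hv'.2] at this
    rw [this]; abel
  rw [e1]
  refine neg_mem ?_
  rw [← cosetSum_comp h.le_stab (fun g => act g y), cosetSum, LinearMap.sum_apply]
  refine Submodule.sum_mem _ fun ω hω => ?_
  have hωT := mem_cosets.1 hω
  have e2 : (∑ c : C, act (ω.out * c) y) = act ω.out (∑ c : C, act c y) := by
    rw [map_sum]
    refine Finset.sum_congr rfl fun c _ => ?_
    show U (ω.out * c) * y * U (ω.out * c)⁻¹ = U ω.out * (U c * y * U (c : G)⁻¹) * U ω.out⁻¹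
    rw [mul_inv_rev, hUmul, hUmul]
    simp only [mul_assoc]
  rw [e2]
  show (U ω.out * (∑ c : C, act c y) * U ω.out⁻¹) v ∈ _
  rw [Module.End.mul_apply, Module.End.mul_apply]
  exact range_pow_stable Φ h (IsSupportedOn.single hωT 1) _ (trace_mem Φ h y
    (kerLayer_stable Φ h (IsSupportedOn.single (T.inv_mem hωT) 1) hv))

/-- The layer is simple for the stabiliser. -/
theorem eq_or_eq_of_stable [IsAlgClosed k] [CharP k p] [FiniteDimensional k S] (hΦ : IsIrredAct Φ)
    {W : Submodule k S} (hLW : topLayer Φ x q ≤ W) (hWK : W ≤ kerLayer Φ f x)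
    (hW : ∀ s, IsSupportedOn s (pairStab ⊤ Z f) → ∀ v ∈ W, Φ s v ∈ W) :
    W = topLayer Φ x q ∨ W = kerLayer Φ f x := by
  classical
  have : Fintype G := Fintype.ofFinite G
  by_contra hcon
  rw [not_or] at hcon
  set C := Subgroup.centralizer (Z : Set G) with hC
  set T := pairStab ⊤ Z f with hT
  set L := topLayer Φ x q with hL
  set K := kerLayer Φ f x with hK
  let Km : ℕ → Submodule k S := fun m => K ⊓ LinearMap.range (Φ (x ^ m))
  have hanti : ∀ m m', m ≤ m' → Km m' ≤ Km m := by
    rintro m m' hm v ⟨h1, u, hu⟩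
    refine ⟨h1, Φ (x ^ (m' - m)) u, ?_⟩
    rw [← Module.End.mul_apply, ← map_mul, ← pow_add, Nat.add_sub_cancel' hm, hu]
  have hLKm : ∀ m, m ≤ q - 1 → L ≤ Km m := by
    intro m hm v hv
    refine ⟨topLayer_le Φ h hv, ?_⟩
    obtain ⟨u, rfl⟩ := hv
    exact ⟨Φ (x ^ (q - 1 - m)) u, by
      rw [← Module.End.mul_apply, ← map_mul, ← pow_add, Nat.add_sub_cancel' hm]⟩
  -- an intermediate stable subspace comparable with all `Km`
  obtain ⟨W₀, hL0, hK0, hW0, hcmp⟩ : ∃ W₀ : Submodule k S, L < W₀ ∧ W₀ < K ∧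
      (∀ s, IsSupportedOn s T → ∀ v ∈ W₀, Φ s v ∈ W₀) ∧ ∀ m, Km m ≤ W₀ ∨ W₀ ≤ Km m := by
    by_cases hex : ∃ m, L < Km m ∧ Km m < K
    · obtain ⟨m, h1, h2⟩ := hex
      refine ⟨Km m, h1, h2, fun s hs v hv => ⟨kerLayer_stable Φ h hs hv.1,
        range_pow_stable Φ h hs m hv.2⟩, fun m' => ?_⟩
      rcases le_total m m' with h' | h'
      · exact Or.inl (hanti m m' h')
      · exact Or.inr (hanti m' m h')
    · refine ⟨W, lt_of_le_of_ne hLW (Ne.symm hcon.1), lt_of_le_of_ne hWK hcon.2, hW, fun m => ?_⟩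
      by_cases hm : m ≤ q - 1
      · have h1 := hLKm m hm
        by_cases h2 : L = Km m
        · exact Or.inl (h2 ▸ hLW)
        · refine Or.inr ?_
          have h3 : Km m = K := by
            by_contra h4
            exact hex ⟨m, lt_of_le_of_ne h1 h2, lt_of_le_of_ne inf_le_left h4⟩
          rw [h3]; exact hWK
      · refine Or.inl fun v hv => ?_
        obtain ⟨-, u, hu⟩ := hv
        rw [show x ^ m = 0 from pow_eq_zero_of_le (by omega) h.tower.pow_q, map_zero,
          LinearMap.zero_apply] at hu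
        rw [← hu]; exact W.zero_mem
  obtain ⟨j, hj, hfj, hjj, ⟨n, a, b', ha, hb', hab⟩, hjaj⟩ := h.tower.morita
  set Y := LinearMap.range (Φ j) with hY
  have hjY : ∀ v ∈ Y, Φ j v = v := by
    rintro _ ⟨u, rfl⟩
    rw [← Module.End.mul_apply, ← map_mul, hjj]
  have hxj : Commute x j := (h.tower.comm_x hj).symm
  have hxY : ∀ v ∈ Y, Φ x v ∈ Y := by
    rintro _ ⟨u, rfl⟩
    exact ⟨Φ x u, by rw [← Module.End.mul_apply, ← map_mul, ← hxj.eq, map_mul, Module.End.mul_apply]⟩
  set X : Module.End k Y := (Φ x).restrict hxY with hX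
  have hXpow : ∀ (m : ℕ) (v : Y), ((X ^ m) v : S) = Φ (x ^ m) v := by
    intro m
    induction m with
    | zero => intro v; simp
    | succ m ih =>
      intro v
      rw [pow_succ', Module.End.mul_apply, pow_succ', map_mul, Module.End.mul_apply, ← ih v]
      rfl
  have hXq : X ^ q = 0 := LinearMap.ext fun v => Subtype.ext (by
    rw [hXpow, h.tower.pow_q, map_zero]; rfl)
  have hkerK : ∀ v : LinearMap.ker X, ((v : Y) : S) ∈ K := fun v => by
    refine (mem_kerLayer Φ h.tower.idem).2 ⟨congrArg Subtype.val (LinearMap.mem_ker.1 v.2), ?_⟩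
    rw [← hjY _ (v : Y).2, ← Module.End.mul_apply, ← map_mul, hfj]
  let U' : Submodule k (LinearMap.ker X) :=
    W₀.comap (Y.subtype.comp (LinearMap.ker X).subtype)
  obtain ⟨V', hV'⟩ := exists_isCompl U'
  let P : LinearMap.ker X →ₗ[k] LinearMap.ker X :=
    U'.subtype.comp (Submodule.linearProjOfIsCompl U' V' hV')
  have hP1 : ∀ v, P v ∈ U' := fun v => (Submodule.linearProjOfIsCompl U' V' hV' v).2
  have hP2 : ∀ v ∈ U', P v = v := fun v hv => by
    show ((Submodule.linearProjOfIsCompl U' V' hV' v : U') : LinearMap.ker X) = v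
    exact congrArg Subtype.val (Submodule.linearProjOfIsCompl_apply_left hV' ⟨v, hv⟩)
  obtain ⟨η, hηX, hηP⟩ := exists_lift_of_filtered q X hXq P fun m v hv => by
    obtain ⟨u, hu⟩ := hv
    have hvm : ((v : Y) : S) ∈ Km m := ⟨hkerK v, u, by rw [← hXpow, hu]⟩
    rcases hcmp m with hle | hle
    · rw [hP2 v (hle hvm)]
      exact ⟨u, hu⟩
    · obtain ⟨-, w, hw⟩ := hle (hP1 v)
      refine ⟨⟨Φ j w, w, rfl⟩, Subtype.ext ?_⟩
      rw [hXpow]
      show Φ (x ^ m) (Φ j w) = _
      rw [← Module.End.mul_apply, ← map_mul, (hxj.pow_left m).eq, map_mul, Module.End.mul_apply, hw]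
      exact hjY _ ((P v : LinearMap.ker X) : Y).2
  set Eη : Module.End k S := Y.subtype.comp (η.comp (Φ j).rangeRestrict) with hEη
  have hjj' : ∀ v, Φ j (Φ j v) = Φ j v := fun v => by rw [← Module.End.mul_apply, ← map_mul, hjj]
  have hEj : Eη * Φ j = Eη := LinearMap.ext fun v => by
    simp only [hEη, Module.End.mul_apply, LinearMap.comp_apply]
    congr 2
    exact Subtype.ext (hjj' v)
  have hjE : Φ j * Eη = Eη := LinearMap.ext fun v => hjY _ (η _).2
  have hEx : Eη * Φ x = Φ x * Eη := LinearMap.ext fun v => by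
    simp only [hEη, Module.End.mul_apply, LinearMap.comp_apply]
    have e1 : (Φ j).rangeRestrict (Φ x v) = X ((Φ j).rangeRestrict v) := Subtype.ext (by
      show Φ j (Φ x v) = Φ x (Φ j v)
      rw [← Module.End.mul_apply, ← map_mul, ← hxj.eq, map_mul, Module.End.mul_apply])
    rw [e1, ← Module.End.mul_apply, hηX]
    rfl
  let A : Fin n → k[G] := fun l => f * a l * j
  let B : Fin n → k[G] := fun l => j * b' l * f
  have hAB : ∑ l, A l * B l = f := by
    calc ∑ l, A l * B l = f * (∑ l, a l * j * b' l) * f := by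
          rw [Finset.mul_sum, Finset.sum_mul]
          refine Finset.sum_congr rfl fun l _ => ?_
          simp only [A, B, mul_assoc]
          rw [← mul_assoc j j, hjj]
      _ = f := by rw [← hab, h.tower.idem, h.tower.idem]
  set Et : Module.End k S := ∑ l, Φ (A l) * Eη * Φ (B l) with hEt
  have hcommC : ∀ z, IsSupportedOn z C → Φ z * Et = Et * Φ z := by
    intro z hz
    let N : Fin n → Fin n → k[G] := fun m l => j * (b' m * f * z * a l) * j
    have hN : ∀ m l, Eη * Φ (N m l) = Φ (N m l) * Eη := by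
      intro m l
      obtain ⟨c, hc⟩ := hjaj _ ((((hb' m).mul h.tower.f_mem.1).mul hz).mul (ha l))
      rw [show N m l = _ from hc, map_sum, Finset.mul_sum, Finset.sum_mul]
      refine Finset.sum_congr rfl fun i _ => ?_
      have hcx : Commute Eη (Φ (x ^ i)) := by rw [map_pow]; exact (show Commute Eη (Φ x) from hEx).pow_right i
      rw [map_smul, mul_smul_comm, smul_mul_assoc, map_mul, ← mul_assoc, hcx.eq, mul_assoc, hEj,
        mul_assoc, hjE]
    have hfz : f * z * f = f * z := by rw [mul_assoc, h.tower.comm_f hz, ← mul_assoc, h.tower.idem]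
    have hfaj : ∀ l, f * z * (f * a l * j) = f * z * a l * j := fun l => by
      rw [← mul_assoc, ← mul_assoc, hfz]
    have hzA : ∀ l, z * A l = ∑ m, A m * N m l := by
      intro l
      calc z * A l = f * z * a l * j := by
            simp only [A, ← mul_assoc]
            rw [h.tower.comm_f hz]
        _ = (∑ m, A m * B m) * (z * a l * j) := by rw [hAB]; simp only [mul_assoc]
        _ = ∑ m, A m * N m l := by
            rw [Finset.sum_mul]
            refine Finset.sum_congr rfl fun m _ => ?_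
            simp only [A, B, N, mul_assoc]
    have hBz : ∀ m, B m * z = ∑ l, N m l * B l := by
      intro m
      calc B m * z = j * b' m * (f * z) * (∑ l, A l * B l) := by
            rw [hAB]
            simp only [B, mul_assoc]
            rw [h.tower.comm_f hz, ← mul_assoc f f, h.tower.idem]
        _ = ∑ l, N m l * B l := by
            rw [Finset.mul_sum]
            refine Finset.sum_congr rfl fun l _ => ?_
            simp only [A, B, N, ← mul_assoc]
            rw [mul_assoc (j * b' m) f z, mul_assoc (j * b' m) (f * z) f, hfz]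
    simp only [hEt, Finset.mul_sum, Finset.sum_mul]
    simp only [← mul_assoc, ← map_mul, hzA, map_sum, Finset.sum_mul]
    rw [Finset.sum_comm]
    refine Finset.sum_congr rfl fun m _ => ?_
    rw [mul_assoc (Φ (A m) * Eη), ← map_mul, hBz, map_sum, Finset.mul_sum]
    refine Finset.sum_congr rfl fun l _ => ?_
    rw [map_mul Φ (A m) (N m l), map_mul Φ (N m l) (B l), mul_assoc (Φ (A m)) (Φ (N m l)) Eη, ← hN]
    simp only [mul_assoc]
  have hfEt : Φ f * Et = Et := by
    simp only [hEt, Finset.mul_sum, ← mul_assoc, ← map_mul]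
    refine Finset.sum_congr rfl fun l _ => ?_
    simp only [A, ← mul_assoc, h.tower.idem]
  have hEtf : Et * Φ f = Et := by
    simp only [hEt, Finset.sum_mul, mul_assoc, ← map_mul]
    refine Finset.sum_congr rfl fun l _ => ?_
    simp only [B, mul_assoc, h.tower.idem]
  -- on the layer it is a projection onto `W₀`
  have hYK : ∀ v ∈ Y, v ∈ K → ∃ v' : LinearMap.ker X, ((v' : Y) : S) = v := fun v hv hvK =>
    ⟨⟨⟨v, hv⟩, Subtype.ext ((mem_kerLayer Φ h.tower.idem).1 hvK).1⟩, rfl⟩
  have hEη' : ∀ v' : LinearMap.ker X, Eη ((v' : Y) : S) = ((P v' : LinearMap.ker X) : Y) := by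
    intro v'
    have e1 : (Φ j).rangeRestrict ((v' : Y) : S) = (v' : Y) := Subtype.ext (hjY _ (v' : Y).2)
    show ((η ((Φ j).rangeRestrict ((v' : Y) : S)) : Y) : S) = _
    rw [e1, hηP]
  have hBY : ∀ l v, Φ (B l) v ∈ Y := fun l v => ⟨Φ (b' l * f) v, by
    simp only [B]
    rw [← Module.End.mul_apply, ← map_mul, ← mul_assoc]⟩
  have hCT : ∀ {z : k[G]}, IsSupportedOn z C → IsSupportedOn z T :=
    fun hz => isSupportedOn_mono hz h.le_stab
  have hBs : ∀ l, IsSupportedOn (B l) C := fun l => (hj.mul (hb' l)).mul h.tower.f_mem.1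
  have hAs : ∀ l, IsSupportedOn (A l) C := fun l => (h.tower.f_mem.1.mul (ha l)).mul hj
  have hEtv : ∀ v ∈ K, Et v ∈ W₀ := by
    intro v hv
    rw [hEt, LinearMap.sum_apply]
    refine Submodule.sum_mem _ fun l _ => ?_
    rw [Module.End.mul_apply, Module.End.mul_apply]
    obtain ⟨v', hv'⟩ := hYK _ (hBY l v) (kerLayer_stable Φ h (hCT (hBs l)) hv)
    rw [← hv', hEη']
    exact hW0 _ (hCT (hAs l)) _ (hP1 v')
  have hEtW : ∀ v ∈ W₀, Et v = v := by
    intro v hv
    have hvK := hK0.le hv
    conv_rhs => rw [← ((mem_kerLayer Φ h.tower.idem).1 hvK).2, ← hAB, map_sum, LinearMap.sum_apply]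
    rw [hEt, LinearMap.sum_apply]
    refine Finset.sum_congr rfl fun l _ => ?_
    obtain ⟨v', hv'⟩ := hYK _ (hBY l v) (kerLayer_stable Φ h (hCT (hBs l)) hvK)
    have hv'U : v' ∈ U' := by
      show ((v' : Y) : S) ∈ W₀
      rw [hv']; exact hW0 _ (hCT (hBs l)) _ hv
    rw [Module.End.mul_apply, Module.End.mul_apply, map_mul Φ (A l) (B l), Module.End.mul_apply,
      ← hv', hEη',
      hP2 _ hv'U]
  -- average over the cosets
  obtain ⟨hek, -, -⟩ := h.exists_generator
  set e := C.relIndex T with he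
  let U : G → Module.End k S := fun g => Φ (single g 1)
  have hUmul : ∀ g g', U (g * g') = U g * U g' := fun g g' => by
    show Φ _ = Φ _ * Φ _
    rw [← map_mul, MonoidAlgebra.single_mul_single, one_mul]
  have hinvU : ∀ g, U g⁻¹ * U g = 1 := fun g => by
    show Φ _ * Φ _ = 1
    rw [← map_mul, inv_mul_single, map_one]
  let θ : G → Module.End k S := fun g => U g * Et * U g⁻¹
  have hθC : ∀ g, ∀ c ∈ C, θ (g * c) = θ g := by
    intro g c hc
    show U (g * c) * Et * U (g * c)⁻¹ = U g * Et * U g⁻¹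
    rw [mul_inv_rev, hUmul, hUmul, mul_assoc (U g) (U c) Et,
      show U c * Et = Et * U c from hcommC _ (IsSupportedOn.single hc 1), ← mul_assoc, ← mul_assoc,
      mul_assoc _ (U c) (U c⁻¹), ← hUmul, mul_inv_cancel]
    simp [U, MonoidAlgebra.one_def.symm, mul_assoc]
  set Eav : Module.End k S := (e : k)⁻¹ • cosetSum T C θ with hEav
  have hEcomm : ∀ t ∈ T, Φ (single t 1) * Eav = Eav * Φ (single t 1) := by
    intro t ht
    have key : U t * cosetSum T C θ * U t⁻¹ = cosetSum T C θ := by
      have := map_cosetSum (T := T) (D := C)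
        ((AddMonoidHom.mulRight (U t⁻¹)).comp (AddMonoidHom.mulLeft (U t))) θ
      simp only [AddMonoidHom.comp_apply, AddMonoidHom.coe_mulLeft, AddMonoidHom.coe_mulRight] at this
      rw [this]
      refine Eq.trans (cosetSum_congr fun g' _ => ?_) (cosetSum_mul_left (F := θ) h.le_stab hθC ht)
      show U t * (U g' * Et * U g'⁻¹) * U t⁻¹ = U (t * g') * Et * U (t * g')⁻¹
      rw [mul_inv_rev, hUmul, hUmul]
      simp only [mul_assoc]
    rw [hEav, mul_smul_comm, smul_mul_assoc]
    congr 1
    show U t * _ = _ * U t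
    conv_rhs => rw [← key, mul_assoc _ (U t⁻¹), hinvU, mul_one]
  have hUf : ∀ g ∈ T, Φ f * U g = U g * Φ f := fun g hg => by
    show Φ f * Φ _ = Φ _ * Φ f
    rw [← map_mul, ← map_mul, (h.comm_f (IsSupportedOn.single hg 1)).eq]
  have hfEav : Φ f * Eav = Eav := by
    rw [hEav, mul_smul_comm]
    congr 1
    refine (map_cosetSum (AddMonoidHom.mulLeft (Φ f)) θ).trans (cosetSum_congr fun g hg => ?_)
    show Φ f * (U g * Et * U g⁻¹) = U g * Et * U g⁻¹
    rw [← mul_assoc, ← mul_assoc, hUf g hg, mul_assoc (U g) (Φ f) Et, hfEt]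
  have hEavf : Eav * Φ f = Eav := by
    rw [hEav, smul_mul_assoc]
    congr 1
    refine (map_cosetSum (AddMonoidHom.mulRight (Φ f)) θ).trans (cosetSum_congr fun g hg => ?_)
    show U g * Et * U g⁻¹ * Φ f = U g * Et * U g⁻¹
    rw [mul_assoc _ (U g⁻¹) (Φ f), ← hUf _ (T.inv_mem hg), ← mul_assoc, mul_assoc (U g) Et (Φ f),
      hEtf]
  obtain ⟨r, hr⟩ := exists_scalar_layer Φ h hΦ hEcomm hfEav hEavf
  have hW₀' : ∀ g ∈ T, ∀ v ∈ W₀, U g v ∈ W₀ := fun g hg v hv =>
    hW0 _ (IsSupportedOn.single hg 1) v hv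
  have hmem : ∀ v ∈ K, Eav v ∈ W₀ := by
    intro v hv
    rw [hEav, LinearMap.smul_apply, cosetSum, LinearMap.sum_apply]
    refine W₀.smul_mem _ (Submodule.sum_mem _ fun ω hω => ?_)
    show (U ω.out * Et * U ω.out⁻¹) v ∈ _
    rw [Module.End.mul_apply, Module.End.mul_apply]
    exact hW₀' _ (mem_cosets.1 hω) _ (hEtv _
      (kerLayer_stable Φ h (IsSupportedOn.single (T.inv_mem (mem_cosets.1 hω)) 1) hv))
  have hid : ∀ v ∈ W₀, Eav v = v := by
    intro v hv
    rw [hEav, LinearMap.smul_apply, cosetSum, LinearMap.sum_apply,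
      Finset.sum_congr rfl (g := fun _ => v) fun ω hω => ?_]
    · show (e : k)⁻¹ • cosetSum T C (fun _ => v) = v
      rw [cosetSum_const h.le_stab, ← he, ← Nat.cast_smul_eq_nsmul k,
        inv_smul_smul₀ hek]
    · show (U ω.out * Et * U ω.out⁻¹) v = v
      rw [Module.End.mul_apply, Module.End.mul_apply,
        hEtW _ (hW₀' _ (T.inv_mem (mem_cosets.1 hω)) v hv), ← Module.End.mul_apply,
        ← hUmul, mul_inv_cancel]
      simp [U, MonoidAlgebra.one_def.symm]
  obtain ⟨v, hv, hvL⟩ := SetLike.exists_of_lt hL0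
  have h1 := hr v (hK0.le hv)
  rw [hid v hv] at h1
  have hr1 : r = 1 := by
    by_contra hne
    apply hvL
    have h2 := L.smul_mem (1 - r)⁻¹ h1
    rwa [show v - r • v = (1 - r) • v by rw [sub_smul, one_smul],
      inv_smul_smul₀ (sub_ne_zero.2 fun h' => hne h'.symm)] at h2
  obtain ⟨w, hw, hwW⟩ := SetLike.exists_of_lt hK0
  have h3 := hr w hw
  rw [hr1, one_smul] at h3
  exact hwW (by simpa using W₀.sub_mem (hmem w hw) (hL0.le h3))

omit [Fact p.Prime] in
/-- Outside the block the layer is zero. -/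
theorem kerLayer_le_of_ne [CharP k p] [Fact p.Prime] [FiniteDimensional k S] (hb : Φ b = 0) :
    kerLayer Φ f x ≤ topLayer Φ x q := by
  classical
  have : Fintype G := Fintype.ofFinite G
  set C := Subgroup.centralizer (Z : Set G) with hC
  obtain ⟨a₀, ha₀s, ha₀f, -, ha₀⟩ := exists_trace_preimage h.f_block h.defect
  set η := f - f * b with hη
  have hbf : ∀ {S' : Subgroup G}, IsFixedBy b S' := fun {S'} => h.block.mem.2.mono le_top
  have hηC : IsFixedBy η C := isFixedBy_iff_conjA.2 fun c hc => by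
    rw [hη, map_sub, map_mul, isFixedBy_iff_conjA.1 h.f_block.mem.2 c hc,
      isFixedBy_iff_conjA.1 (hbf (S' := C)) c hc]
  have hZf : IsFixedBy f Z := h.f_block.mem.2.mono (h.le.trans h.D_le)
  have hbrη : brTrunc Z η = 0 := by
    rw [hη, map_sub, brTrunc_mul h.Z_pGroup hZf hbf, brTrunc_eq_self h.f_block.mem.1,
      (commute_of_isFixedBy h.f_block.mem.1
        (hbf.brTrunc (Subgroup.centralizer_le_normalizer _)) ).eq, h.br_over, sub_self]
  have hfixD : IsFixedBy (η * a₀) D := (hηC.mono h.D_le).mul ha₀f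
  have hηtr : η = cosetSum C D (fun g => conjA g (η * a₀)) := by
    rw [← mul_cosetSum hηC, ← ha₀, hη, sub_mul, mul_assoc, ← (commute_of_isFixedBy
      h.f_block.mem.1 (hbf (S' := C))).eq, ← mul_assoc, h.tower.idem]
  have hbr0 : brTrunc Z (η * a₀) = 0 := by
    rw [brTrunc_mul h.Z_pGroup (hηC.mono (h.le.trans h.D_le)) (ha₀f.mono h.le), hbrη, zero_mul]
  obtain ⟨y, hy⟩ := exists_trace_of_free hfixD fun g hg d hd hdg => by
    by_contra hd1
    apply hg
    have hZd : Z ≤ Subgroup.zpowers d := by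
      have := h.conj_Z_le 1 (K := Subgroup.zpowers d)
        (by rw [map_conj_one]; exact Subgroup.zpowers_le.2 hd) (by simpa using hd1)
      rwa [map_conj_one] at this
    have hgC : g ∈ Subgroup.centralizer (Z : Set G) := by
      refine Subgroup.mem_centralizer_iff.2 fun z hz => ?_
      obtain ⟨i, rfl⟩ := hZd hz
      have hc : Commute d g := by
        show d * g = g * d
        conv_rhs => rw [← hdg]
        group
      exact (hc.zpow_left i).eq
    rw [← coeff_brTrunc_of_mem _ hgC, hbr0]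
    simp
  intro v hv
  have hv' := (mem_kerLayer Φ h.tower.idem).1 hv
  have hηv : Φ η v = v := by
    rw [hη, map_sub, map_mul, hb, mul_zero, sub_zero, hv'.2]
  rw [← hηv]
  have hconv : η = ∑ c : C, conjA (c : G) y := by
    rw [hηtr, cosetSum_congr (F' := fun g : G => ∑ d : D, conjA (g * (d : G)) y) fun g _ => ?_,
      cosetSum_comp h.D_le (fun g => conjA g y)]
    rw [show η * a₀ = _ from hy, map_sum]
    simp only [conjA_conjA]
  have e1 : Φ η = ∑ c : C, Φ (single (c : G) 1) * Φ y * Φ (single (c : G)⁻¹ 1) := by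
    rw [hconv, map_sum]
    exact Finset.sum_congr rfl fun c _ => by rw [← map_mul, ← map_mul, conjA_eq_mul]
  rw [e1]
  exact trace_mem Φ h (Φ y) hv

end IsCyclicSetting

end CfsgLib.Blocks.Cyclic
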