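import Cfsg.Agent.Blocks.Cyclic.Tower
import Mathlib.RingTheory.RootsOfUnity.EnoughRootsOfUnity
import Mathlib.RingTheory.RootsOfUnity.AlgebraicallyClosed

/-!
# Calculus modulo `x` and the idempotents of the inertial quotient

The elements supported in `T ≥ C` are compared modulo the multiples of `x`. Conjugation by an
element normalising `C` and fixing `f` is inner modulo `x`; this gives `e` orthogonal idempotents.
-/

set_option autoImplicit false
open scoped MonoidAlgebra
open MonoidAlgebra (single)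

namespace CfsgLib.Blocks.Cyclic

universe u w

variable {k : Type w} [Field k] {G : Type u} [Group G]

/-- The elements supported on a subgroup. -/
def suppAlg (k : Type w) [Field k] {G : Type u} [Group G] (H : Subgroup G) :
    Subalgebra k k[G] where
  carrier := {a | IsSupportedOn a H}
  one_mem' := IsSupportedOn.one
  zero_mem' := IsSupportedOn.zero
  add_mem' ha hb := ha.add hb
  mul_mem' ha hb := ha.mul hb
  algebraMap_mem' r := by
    show IsSupportedOn (algebraMap k k[G] r) H
    rw [show algebraMap k k[G] r = single (1 : G) r by simp]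
    exact IsSupportedOn.single H.one_mem r

theorem mem_suppAlg {H : Subgroup G} {a : k[G]} : a ∈ suppAlg k H ↔ IsSupportedOn a H := Iff.rfl

/-- Equality modulo the multiples of `x`. -/
def Cong (H : Subgroup G) (x a b : k[G]) : Prop := ∃ r, IsSupportedOn r H ∧ a - b = x * r

theorem Cong.refl {H : Subgroup G} {x : k[G]} (a : k[G]) : Cong H x a a :=
  ⟨0, (suppAlg k H).zero_mem, by rw [sub_self, mul_zero]⟩

theorem Cong.symm {H : Subgroup G} {x a b : k[G]} : Cong H x a b → Cong H x b a :=
  fun ⟨r, hr, h⟩ => ⟨-r, (suppAlg k H).neg_mem hr, by rw [mul_neg, ← h, neg_sub]⟩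

theorem Cong.trans {H : Subgroup G} {x a b c : k[G]} :
    Cong H x a b → Cong H x b c → Cong H x a c :=
  fun ⟨r, hr, h⟩ ⟨s, hs, h'⟩ => ⟨r + s, hr.add hs, by rw [mul_add, ← h, ← h', sub_add_sub_cancel]⟩

theorem Cong.of_eq {H : Subgroup G} {x a b : k[G]} (h : a = b) : Cong H x a b := h ▸ Cong.refl a

theorem Cong.add {H : Subgroup G} {x a b c d : k[G]} :
    Cong H x a b → Cong H x c d → Cong H x (a + c) (b + d) :=
  fun ⟨r, hr, h⟩ ⟨s, hs, h'⟩ => ⟨r + s, hr.add hs, by
    rw [mul_add, ← h, ← h', add_sub_add_comm]⟩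

theorem Cong.smul {H : Subgroup G} {x a b : k[G]} (c : k) :
    Cong H x a b → Cong H x (c • a) (c • b) :=
  fun ⟨r, hr, h⟩ => ⟨c • r, (suppAlg k H).smul_mem hr c, by rw [mul_smul_comm, ← h, smul_sub]⟩

theorem Cong.sum {H : Subgroup G} {x : k[G]} {ι : Type*} (s : Finset ι) {a b : ι → k[G]}
    (h : ∀ i ∈ s, Cong H x (a i) (b i)) : Cong H x (∑ i ∈ s, a i) (∑ i ∈ s, b i) := by
  classical
  induction s using Finset.induction with
  | empty => simpa using Cong.refl (0 : k[G])
  | insert i s hi ih =>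
    rw [Finset.sum_insert hi, Finset.sum_insert hi]
    exact (h i (Finset.mem_insert_self _ _)).add (ih fun j hj => h j (Finset.mem_insert_of_mem hj))

theorem Cong.mul_right {H : Subgroup G} {x a b c : k[G]} (hc : IsSupportedOn c H) :
    Cong H x a b → Cong H x (a * c) (b * c) :=
  fun ⟨r, hr, h⟩ => ⟨r * c, hr.mul hc, by rw [← mul_assoc, ← h, sub_mul]⟩

theorem Cong.mul_left {H : Subgroup G} {x a b c : k[G]} (hc : IsSupportedOn c H)
    (hx : ∀ s, IsSupportedOn s H → ∃ s', IsSupportedOn s' H ∧ s * x = x * s') :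
    Cong H x a b → Cong H x (c * a) (c * b) := fun ⟨r, hr, h⟩ => by
  obtain ⟨c', hc', he⟩ := hx c hc
  exact ⟨c' * r, hc'.mul hr, by rw [← mul_sub, h, ← mul_assoc, he, mul_assoc]⟩

theorem Cong.mono {H T : Subgroup G} {x a b : k[G]} (hHT : H ≤ T) :
    Cong H x a b → Cong T x a b :=
  fun ⟨r, hr, h⟩ => ⟨r, isSupportedOn_mono hr hHT, h⟩

variable [Finite G] {C : Subgroup G} {f x : k[G]} {q : ℕ}

namespace IsTower

omit [Finite G] in
theorem comm_x (T : IsTower C f x q) {a : k[G]} (ha : IsSupportedOn a C) : a * x = x * a :=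
  (commute_of_isFixedBy ha T.x_mem.2).eq

omit [Finite G] in
theorem comm_f (T : IsTower C f x q) {a : k[G]} (ha : IsSupportedOn a C) : a * f = f * a :=
  (commute_of_isFixedBy ha T.f_mem.2).eq

omit [Finite G] in
theorem move (T : IsTower C f x q) :
    ∀ s, IsSupportedOn s C → ∃ s', IsSupportedOn s' C ∧ s * x = x * s' :=
  fun s hs => ⟨s, hs, T.comm_x hs⟩

omit [Finite G] in
theorem congr_mul (T : IsTower C f x q) {a b c : k[G]} (hc : IsSupportedOn c C)
    (h : Cong C x a b) : Cong C x (c * a) (c * b) := h.mul_left hc T.move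

omit [Finite G] in
theorem f_mul_top (T : IsTower C f x q) (hq : 2 ≤ q) : f * x ^ (q - 1) = x ^ (q - 1) := by
  rw [show q - 1 = (q - 2) + 1 by omega, pow_succ', ← mul_assoc, T.f_mul_x]

omit [Finite G] in
/-- `f` is not congruent to zero. -/
theorem not_cong_zero (T : IsTower C f x q) (hq : 2 ≤ q) : ¬ Cong C x f 0 := by
  rintro ⟨r, hr, h⟩
  refine T.pow_pred ?_
  rw [sub_zero] at h
  rw [← T.f_mul_top hq, h, mul_assoc,
    ((show Commute r x from T.comm_x hr).pow_right (q - 1)).eq, ← mul_assoc, ← pow_succ',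
    Nat.sub_add_cancel T.one_le, T.pow_q, zero_mul]

omit [Finite G] in
/-- A nilpotent central element of the block is a multiple of `x`. -/
theorem cong_zero_of_nilpotent (T : IsTower C f x q) (hq : 2 ≤ q) {z : k[G]}
    (hz : z ∈ centerIn k C) (hfz : f * z = z) (hnil : IsNilpotent z) : Cong C x z 0 := by
  by_contra hne
  obtain ⟨n, y, y', a', hy, hy', ha', hsum⟩ := T.simple z hz.1 hfz fun a' ha' h =>
    hne ⟨a', ha', by rw [sub_zero, h]⟩
  have hs : IsSupportedOn (∑ i, y i * y' i) C :=
    (suppAlg k C).sum_mem fun i _ => (hy i).mul (hy' i)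
  have h1 : Cong C x (z * ∑ i, y i * y' i) f := by
    refine ⟨a', ha', ?_⟩
    rw [Finset.mul_sum, sub_eq_iff_eq_add', ← hsum]
    refine Finset.sum_congr rfl fun i _ => ?_
    rw [← mul_assoc, ← (commute_of_isFixedBy (hy i) hz.2).eq]
  obtain ⟨N, hN⟩ := hnil
  have h2 : ∀ m, Cong C x ((z * ∑ i, y i * y' i) ^ (m + 1)) f := by
    intro m
    induction m with
    | zero => rwa [pow_one]
    | succ m ih =>
      rw [pow_succ']
      refine (T.congr_mul (hz.1.mul hs) ih).trans ?_
      exact (h1.mul_right T.f_mem.1).trans (Cong.of_eq T.idem)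
  have h3 := h2 N
  rw [(commute_of_isFixedBy hs hz.2).symm.mul_pow, pow_succ z, hN, zero_mul, zero_mul] at h3
  exact T.not_cong_zero hq h3.symm

/-- Conjugation normalising `C` and fixing `f` keeps the multiples of `x`. -/
theorem exists_conj_x (T : IsTower C f x q) (hq : 2 ≤ q) {g : G}
    (hg : g ∈ Subgroup.normalizer (C : Set G)) (hgf : conjA g f = f) :
    ∃ a, IsSupportedOn a C ∧ conjA g x = x * a := by
  have h1 : conjA g x ∈ centerIn k C := by
    have := conjA_mem_centerIn T.x_mem g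
    rwa [map_conj_eq_self_of_mem_normalizer hg] at this
  have h2 : f * conjA g x = conjA g x := by
    conv_lhs => rw [← hgf, ← map_mul, T.f_mul_x]
  obtain ⟨a, ha, h⟩ := T.cong_zero_of_nilpotent hq h1 h2 (IsNilpotent.map ⟨q, T.pow_q⟩ (conjA g))
  exact ⟨a, ha, by rwa [sub_zero] at h⟩

theorem supported_conjA {g : G} (hg : g ∈ Subgroup.normalizer (C : Set G)) {a : k[G]}
    (ha : IsSupportedOn a C) : IsSupportedOn (conjA g a) C := by
  have := ha.conjA g
  rwa [map_conj_eq_self_of_mem_normalizer hg] at this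

/-- Congruences are carried by the conjugation. -/
theorem cong_conjA (T : IsTower C f x q) (hq : 2 ≤ q) {g : G}
    (hg : g ∈ Subgroup.normalizer (C : Set G)) (hgf : conjA g f = f) {a b : k[G]}
    (h : Cong C x a b) : Cong C x (conjA g a) (conjA g b) := by
  obtain ⟨r, hr, he⟩ := h
  obtain ⟨s, hs, hx⟩ := T.exists_conj_x hq hg hgf
  exact ⟨s * conjA g r, hs.mul (supported_conjA hg hr), by rw [← map_sub, he, map_mul, hx, mul_assoc]⟩

/-- Elements of a group normalising `C` and fixing `f` move `x`. -/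
theorem move_of_stab (T : IsTower C f x q) (hq : 2 ≤ q) {H : Subgroup G} (hCH : C ≤ H)
    (hN : H ≤ Subgroup.normalizer (C : Set G)) (hfix : ∀ g ∈ H, conjA g f = f) :
    ∀ s, IsSupportedOn s H → ∃ s', IsSupportedOn s' H ∧ s * x = x * s' := by
  classical
  have key : ∀ g ∈ H, ∀ r : k, ∃ s', IsSupportedOn s' H ∧ single g r * x = x * s' := by
    intro g hg r
    obtain ⟨a, ha, he⟩ := T.exists_conj_x hq (hN hg) (hfix g hg)
    refine ⟨a * single g r, (isSupportedOn_mono ha hCH).mul (IsSupportedOn.single hg r), ?_⟩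
    rw [← mul_assoc, ← he]
    refine MonoidAlgebra.ext (Finsupp.ext fun y => ?_)
    rw [MonoidAlgebra.coeff_single_mul_apply, MonoidAlgebra.coeff_mul_single_apply, coeff_conjA,
      mul_comm r]
    congr 2
    group
  intro s hs
  choose! s' hs' he using key
  refine ⟨∑ g ∈ s.coeff.support, s' g (s.coeff g), (suppAlg k H).sum_mem fun g hg => hs' g ?_ _, ?_⟩
  · by_contra h
    exact (Finsupp.mem_support_iff.1 hg) (hs g h)
  · rw [Finset.mul_sum]
    conv_lhs => rw [← MonoidAlgebra.ofCoeff_coeff s, ← Finsupp.sum_single s.coeff,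
      MonoidAlgebra.ofCoeff_finsuppSum, Finsupp.sum, Finset.sum_mul]
    refine Finset.sum_congr rfl fun g hg => ?_
    rw [MonoidAlgebra.ofCoeff_single]
    refine he g ?_ _
    by_contra h
    exact (Finsupp.mem_support_iff.1 hg) (hs g h)

omit [Finite G] in
/-- The scalar of `j a j` modulo `x`. -/
theorem exists_scalar_jaj (T : IsTower C f x q) {j : k[G]} (hj : IsSupportedOn j C)
    (hjaj : ∀ a, IsSupportedOn a C →
      ∃ c : ℕ → k, j * a * j = ∑ i ∈ Finset.range q, c i • (x ^ i * j))
    {a : k[G]} (ha : IsSupportedOn a C) : ∃ c : k, Cong C x (j * a * j) (c • j) := by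
  obtain ⟨c, hc⟩ := hjaj a ha
  refine ⟨c 0, ∑ i ∈ Finset.range (q - 1), c (i + 1) • (x ^ i * j),
    (suppAlg k C).sum_mem fun i _ => (suppAlg k C).smul_mem
      ((suppAlg k C).mul_mem ((suppAlg k C).pow_mem T.x_mem.1 i) hj) _, ?_⟩
  rw [hc, ← Nat.sub_add_cancel T.one_le, Finset.sum_range_succ', pow_zero, one_mul,
    add_sub_cancel_right, Nat.add_sub_cancel, Finset.mul_sum]
  exact Finset.sum_congr rfl fun i _ => by rw [mul_smul_comm, pow_succ', mul_assoc]

omit [Finite G] in
/-- An element central modulo `x` is a scalar modulo `x`. -/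
theorem exists_scalar_of_cong (T : IsTower C f x q) {z : k[G]} (hz : IsSupportedOn z C)
    (hfz : f * z = z) (hcomm : ∀ a, IsSupportedOn a C → Cong C x (a * z) (z * a)) :
    ∃ c : k, Cong C x z (c • f) := by
  obtain ⟨j, hj, -, hjj, ⟨n, a, b, ha, hb, hab⟩, hjaj⟩ := T.morita
  obtain ⟨c, hc⟩ := T.exists_scalar_jaj hj hjaj hz
  refine ⟨c, ?_⟩
  have h1 : Cong C x (f * z) (∑ i, a i * (j * z) * b i) := by
    rw [hab, Finset.sum_mul]
    refine Cong.sum _ fun i _ => ?_
    rw [mul_assoc (a i * j), mul_assoc (a i) j, mul_assoc (a i) (j * z), mul_assoc j z]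
    exact T.congr_mul (ha i) (T.congr_mul hj (hcomm _ (hb i)))
  have h2 : Cong C x (j * z) (c • j) := by
    refine Cong.trans ?_ hc
    conv_lhs => rw [← hjj, mul_assoc]
    rw [mul_assoc j z j]
    exact T.congr_mul hj (hcomm _ hj)
  rw [hfz] at h1
  refine h1.trans ?_
  rw [hab, Finset.smul_sum]
  refine Cong.sum _ fun i _ => ?_
  rw [← smul_mul_assoc, ← mul_smul_comm]
  exact (T.congr_mul (ha i) h2).mul_right (hb i)

omit [Finite G] in
/-- An element commuting modulo `x` with `C` and with `t` commutes with everything supported on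
the group they generate. -/
theorem _root_.CfsgLib.Blocks.Cyclic.cong_central {H : Subgroup G} {x τ : k[G]}
    (hxH : ∀ s, IsSupportedOn s H → ∃ s', IsSupportedOn s' H ∧ s * x = x * s')
    {t : G} (hU : IsSupportedOn (single t (1 : k)) H)
    (hct : Cong H x (single t (1 : k) * τ) (τ * single t (1 : k)))
    (hcC : ∀ a, IsSupportedOn a C → Cong H x (a * τ) (τ * a))
    (hgen : ∀ s ∈ H, ∃ l : ℕ, ∃ c ∈ C, s = t ^ l * c) :
    ∀ s, IsSupportedOn s H → Cong H x (s * τ) (τ * s) := by
  classical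
  have hl : ∀ l : ℕ, IsSupportedOn (single t (1 : k) ^ l) H := fun l => (suppAlg k H).pow_mem hU l
  have hcp : ∀ l : ℕ, Cong H x (single t (1 : k) ^ l * τ) (τ * single t (1 : k) ^ l) := by
    intro l
    induction l with
    | zero => rw [pow_zero, one_mul, mul_one]; exact Cong.refl τ
    | succ l ih =>
      rw [pow_succ, mul_assoc]
      refine Cong.trans (Cong.mul_left (hl l) hxH hct) ?_
      rw [← mul_assoc, ← mul_assoc]
      exact Cong.mul_right hU ih
  intro s hs
  have hdec : s = ∑ g ∈ s.coeff.support, single g (s.coeff g) := by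
    conv_lhs => rw [← MonoidAlgebra.ofCoeff_coeff s, ← Finsupp.sum_single s.coeff,
      MonoidAlgebra.ofCoeff_finsuppSum, Finsupp.sum]
    exact Finset.sum_congr rfl fun g _ => MonoidAlgebra.ofCoeff_single _ _
  rw [hdec, Finset.sum_mul, Finset.mul_sum]
  refine Cong.sum _ fun g hg => ?_
  have hgH : g ∈ H := by_contra fun h => (Finsupp.mem_support_iff.1 hg) (hs g h)
  obtain ⟨l, c, hc, hgeq⟩ := hgen g hgH
  have he' : single g (s.coeff g) = single t (1 : k) ^ l * single c (s.coeff g) := by
    rw [MonoidAlgebra.single_pow, one_pow, MonoidAlgebra.single_mul_single, one_mul, ← hgeq]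
  have hcs : IsSupportedOn (single c (s.coeff g)) C := IsSupportedOn.single hc _
  have hcH : IsSupportedOn (single c (s.coeff g)) H := by
    refine IsSupportedOn.single ?_ _
    have h1 : c = (t ^ l)⁻¹ * g := by rw [hgeq, inv_mul_cancel_left]
    rw [h1]
    refine H.mul_mem (H.inv_mem (H.pow_mem ?_ l)) hgH
    by_contra ht
    have := hU t ht
    simp at this
  rw [he', mul_assoc]
  refine Cong.trans (Cong.mul_left (hl l) hxH (hcC _ hcs)) ?_
  rw [← mul_assoc, ← mul_assoc]
  exact Cong.mul_right hcH (hcp l)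

/-- Conjugation is inner modulo `x`. -/
theorem exists_normal_element (T : IsTower C f x q) (hq : 2 ≤ q) {g : G}
    (hg : g ∈ Subgroup.normalizer (C : Set G)) (hgf : conjA g f = f) :
    ∃ w w', IsSupportedOn w C ∧ IsSupportedOn w' C ∧ f * w = w ∧ Cong C x (w * w') f ∧
      (∀ a, IsSupportedOn a C → Cong C x (conjA g a * w) (w * a)) ∧
      Cong C x (conjA g w) w := by
  classical
  obtain ⟨j, hj, hfj, hjj, ⟨n, a, b, ha, hb, hab⟩, hjaj⟩ := T.morita
  set σj := conjA g j with hσj
  have hσs : ∀ {z : k[G]}, IsSupportedOn z C → IsSupportedOn (conjA g z) C :=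
    fun hz => supported_conjA hg hz
  have hjnot : ¬ Cong C x j 0 := by
    intro h
    refine T.not_cong_zero hq ?_
    rw [hab]
    refine (Cong.sum _ fun i _ => ((T.congr_mul (ha i) h).mul_right (hb i))).trans (Cong.of_eq ?_)
    simp
  obtain ⟨c₀, hc₀, hu0⟩ : ∃ c, IsSupportedOn c C ∧ ¬ Cong C x (σj * c * j) 0 := by
    by_contra hcon
    simp only [not_exists, not_and, not_not] at hcon
    apply hjnot
    have h1 : Cong C x (conjA g f * j) 0 := by
      rw [hab, map_sum, Finset.sum_mul]
      refine (Cong.sum _ fun i _ => ?_).trans (Cong.of_eq Finset.sum_const_zero)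
      rw [map_mul, map_mul, mul_assoc, mul_assoc, ← mul_assoc σj]
      refine (T.congr_mul (hσs (ha i)) (hcon _ (hσs (hb i)))).trans (Cong.of_eq (mul_zero _))
    rwa [hgf, hfj] at h1
  set u := σj * c₀ * j with hu
  have hus : IsSupportedOn u C := ((hσs hj).mul hc₀).mul hj
  have hju : σj * u = u := by rw [hu, ← mul_assoc, ← mul_assoc, hσj, ← map_mul, hjj]
  have huj : u * j = u := by rw [hu, mul_assoc, hjj]
  set w := ∑ l, conjA g (a l) * u * b l with hw
  have hws : IsSupportedOn w C :=
    (suppAlg k C).sum_mem fun l _ => ((hσs (ha l)).mul hus).mul (hb l)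
  -- the coefficients of `j z j`
  choose c hc using fun z (hz : IsSupportedOn z C) => T.exists_scalar_jaj hj hjaj hz
  have hA : ∀ (z : k[G]) (hz : IsSupportedOn z C) (l : Fin n), Cong C x (f * z * a l * j)
      (∑ m, c _ (((hb m).mul hz).mul (ha l)) • (a m * j)) := by
    intro z hz l
    rw [hab, Finset.sum_mul, Finset.sum_mul, Finset.sum_mul]
    refine Cong.sum _ fun m _ => ?_
    rw [← mul_smul_comm]
    refine Cong.trans (Cong.of_eq ?_) (T.congr_mul (ha m) (hc _ (((hb m).mul hz).mul (ha l))))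
    simp only [mul_assoc]
  have hB : ∀ (z : k[G]) (hz : IsSupportedOn z C) (m : Fin n), Cong C x (j * b m * z * f)
      (∑ l, c _ (((hb m).mul hz).mul (ha l)) • (j * b l)) := by
    intro z hz m
    rw [hab, Finset.mul_sum]
    refine Cong.sum _ fun l _ => ?_
    rw [← smul_mul_assoc]
    refine Cong.trans (Cong.of_eq ?_) ((hc _ (((hb m).mul hz).mul (ha l))).mul_right (hb l))
    simp only [mul_assoc]
  have hfw : f * w = w := by
    rw [hw, Finset.mul_sum]
    refine Finset.sum_congr rfl fun l _ => ?_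
    rw [← mul_assoc, ← mul_assoc, ← T.comm_f (hσs (ha l)), mul_assoc (conjA g (a l)) f]
    congr 2
    rw [hu, ← mul_assoc, ← mul_assoc, hσj]
    conv_lhs => rw [← hgf, ← map_mul, hfj]
  have hwf : w * f = w := by rw [T.comm_f hws, hfw]
  have hnormal : ∀ z, IsSupportedOn z C → Cong C x (conjA g z * w) (w * z) := by
    intro z hz
    let S := ∑ l, ∑ m, c _ (((hb m).mul hz).mul (ha l)) • (conjA g (a m) * u * b l)
    have h1 : Cong C x (conjA g z * w) S := by
      have e : conjA g z * w = ∑ l, conjA g (f * z * a l * j) * (u * b l) := by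
        rw [show conjA g z * w = conjA g z * (f * w) by rw [hfw], ← mul_assoc,
          T.comm_f (hσs hz), show f * conjA g z = conjA g (f * z) by rw [map_mul, hgf], hw,
          Finset.mul_sum]
        refine Finset.sum_congr rfl fun l _ => ?_
        rw [map_mul (conjA g) (f * z * a l) j, map_mul (conjA g) (f * z) (a l)]
        simp only [mul_assoc]
        rw [← mul_assoc (conjA g j) u, ← hσj, hju]
      rw [e]
      refine Cong.sum _ fun l _ => ?_
      refine ((T.cong_conjA hq hg hgf (hA z hz l)).mul_right (hus.mul (hb l))).trans (Cong.of_eq ?_)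
      rw [map_sum, Finset.sum_mul]
      refine Finset.sum_congr rfl fun m _ => ?_
      rw [map_smul, map_mul, smul_mul_assoc, mul_assoc _ σj, ← mul_assoc σj, hju, ← mul_assoc]
    have h2 : Cong C x (w * z) S := by
      have e : w * z = ∑ m, conjA g (a m) * u * (j * b m * z * f) := by
        rw [show w * z = w * z * f by rw [mul_assoc, T.comm_f hz, ← mul_assoc, hwf], hw,
          Finset.sum_mul, Finset.sum_mul]
        refine Finset.sum_congr rfl fun m _ => ?_
        simp only [mul_assoc]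
        rw [← mul_assoc u j, huj]
      rw [e, show S = ∑ m, ∑ l, c _ (((hb m).mul hz).mul (ha l)) • (conjA g (a m) * u * b l)
        from Finset.sum_comm]
      refine Cong.sum _ fun m _ => ?_
      refine (T.congr_mul ((hσs (ha m)).mul hus) (hB z hz m)).trans (Cong.of_eq ?_)
      rw [Finset.mul_sum]
      refine Finset.sum_congr rfl fun l _ => ?_
      rw [mul_smul_comm, ← mul_assoc, mul_assoc _ u j, huj]
    exact h1.trans h2.symm
  have hwne : ¬ Cong C x w 0 := by
    intro h
    choose α hα using fun l => T.exists_scalar_jaj hj hjaj (ha l)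
    choose β hβ using fun l => T.exists_scalar_jaj hj hjaj (hb l)
    set s := ∑ l, α l * β l with hs
    have h1 : Cong C x (∑ l, (j * a l * j) * (j * b l * j)) (s • j) := by
      rw [hs, Finset.sum_smul]
      refine Cong.sum _ fun l _ => ?_
      refine ((hα l).mul_right ((hj.mul (hb l)).mul hj)).trans ?_
      refine (T.congr_mul ((suppAlg k C).smul_mem hj _) (hβ l)).trans (Cong.of_eq ?_)
      rw [smul_mul_smul_comm, hjj]
    have e1 : ∑ l, (j * a l * j) * (j * b l * j) = j := by
      calc ∑ l, (j * a l * j) * (j * b l * j) = ∑ l, j * (a l * j * b l) * j := by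
            refine Finset.sum_congr rfl fun l _ => ?_
            simp only [mul_assoc]
            rw [← mul_assoc j j, hjj]
        _ = j := by rw [← Finset.sum_mul, ← Finset.mul_sum, ← hab, mul_assoc, hfj, hjj]
    rw [e1] at h1
    have hs1 : s = 1 := by
      by_contra hne
      apply hjnot
      obtain ⟨r, hr, he⟩ := h1
      refine ⟨(1 - s)⁻¹ • r, (suppAlg k C).smul_mem hr _, ?_⟩
      rw [sub_zero, mul_smul_comm, ← he]
      rw [show j - s • j = (1 - s) • j by rw [sub_smul, one_smul],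
        inv_smul_smul₀ (sub_ne_zero.2 fun h => hne h.symm)]
    apply hu0
    have h3 : Cong C x (σj * w * j) (s • u) := by
      rw [hs, Finset.sum_smul, hw, Finset.mul_sum, Finset.sum_mul]
      refine Cong.sum _ fun l _ => ?_
      have e : σj * (conjA g (a l) * u * b l) * j = conjA g (j * a l * j) * u * (j * b l * j) := by
        rw [map_mul, map_mul, ← hσj]
        simp only [mul_assoc]
        rw [← mul_assoc σj u, hju, ← mul_assoc u j, huj]
      rw [e]
      refine (((T.cong_conjA hq hg hgf (hα l)).mul_right hus).mul_right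
        ((hj.mul (hb l)).mul hj)).trans ?_
      refine (T.congr_mul ((hσs ((suppAlg k C).smul_mem hj _)).mul hus) (hβ l)).trans
        (Cong.of_eq ?_)
      rw [map_smul, ← hσj, smul_mul_assoc, hju, smul_mul_smul_comm, huj]
    rw [hs1, one_smul] at h3
    refine h3.symm.trans ?_
    refine ((T.congr_mul (hσs hj) h).mul_right hj).trans (Cong.of_eq ?_)
    rw [mul_zero, zero_mul]
  obtain ⟨N, y, y', r, hy, hy', hr, hsum⟩ := T.simple w hws hfw fun a' ha' h =>
    hwne ⟨a', ha', by rw [sub_zero, h]⟩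
  have hginv : g⁻¹ ∈ Subgroup.normalizer (C : Set G) := Subgroup.inv_mem _ hg
  set w' := ∑ i, conjA g⁻¹ (y i) * y' i with hw'
  have hw's : IsSupportedOn w' C :=
    (suppAlg k C).sum_mem fun i _ => (supported_conjA hginv (hy i)).mul (hy' i)
  have hinv : Cong C x (w * w') f := by
    refine Cong.trans ?_ (⟨r, hr, by rw [hsum, add_sub_cancel_left]⟩ :
      Cong C x (∑ i, y i * w * y' i) f)
    rw [hw', Finset.mul_sum]
    refine Cong.sum _ fun i _ => ?_
    have h := (hnormal _ (supported_conjA hginv (hy i))).mul_right (hy' i)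
    rw [conjA_conjA, mul_inv_cancel, conjA_one_left] at h
    rw [← mul_assoc]
    exact h.symm
  refine ⟨w, w', hws, hw's, hfw, hinv, hnormal, ?_⟩
  have hσw : IsSupportedOn (conjA g w) C := hσs hws
  refine Cong.trans (b := conjA g w * (w * w')) ?_ (Cong.trans (b := w * (w * w')) ?_ ?_)
  · refine Cong.trans (Cong.of_eq ?_) (T.congr_mul hσw hinv.symm)
    conv_rhs => rw [← hgf, ← map_mul, hwf]
  · rw [← mul_assoc, ← mul_assoc]
    exact (hnormal w hws).mul_right hw's
  · exact (T.congr_mul hws hinv).trans (Cong.of_eq hwf)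

set_option maxHeartbeats 1000000 in
/-- The orthogonal idempotents of the cyclic quotient. -/
theorem exists_idempotents [IsAlgClosed k] (T : IsTower C f x q) (hq : 2 ≤ q) {H : Subgroup G}
    (hCH : C ≤ H) (hN : H ≤ Subgroup.normalizer (C : Set G))
    (hfix : ∀ g ∈ H, conjA g f = f) {t : G} (ht : t ∈ H) {e : ℕ} (he : 0 < e)
    (hek : (e : k) ≠ 0) (hte : t ^ e ∈ C) (hmin : ∀ l, 0 < l → l < e → t ^ l ∉ C)
    (hgen : ∀ s ∈ H, ∃ l : ℕ, ∃ c ∈ C, s = t ^ l * c) :
    ∃ ε : Fin e → k[G], (∀ i, IsSupportedOn (ε i) H) ∧ (∀ i, f * ε i = ε i) ∧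
      (∀ i, ¬ Cong H x (ε i) 0) ∧ (∀ i, Cong H x (ε i * ε i) (ε i)) ∧
      (∀ i j, i ≠ j → Cong H x (ε i * ε j) 0) ∧
      ∀ i s, IsSupportedOn s H → Cong H x (s * ε i) (ε i * s) := by
  classical
  have hxH := T.move_of_stab hq hCH hN hfix
  have lift : ∀ {a b : k[G]}, Cong C x a b → Cong H x a b := fun h => h.mono hCH
  have mulL : ∀ {a b c : k[G]}, IsSupportedOn c H → Cong H x a b → Cong H x (c * a) (c * b) :=
    fun hc h => h.mul_left hc hxH
  obtain ⟨w, w', hws, hw's, hfw, hinv, hnormal, hσw⟩ :=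
    T.exists_normal_element hq (hN ht) (hfix t ht)
  set T₀ : k[G] := single t⁻¹ (1 : k) with hT₀
  set U₀ : k[G] := single t (1 : k) with hU₀
  have hTs : IsSupportedOn T₀ H := IsSupportedOn.single (H.inv_mem ht) _
  have hUs : IsSupportedOn U₀ H := IsSupportedOn.single ht _
  have hUT : U₀ * T₀ = 1 := by
    rw [hU₀, hT₀, MonoidAlgebra.single_mul_single, mul_inv_cancel, one_mul, MonoidAlgebra.one_def]
  have hTU : T₀ * U₀ = 1 := by
    rw [hU₀, hT₀, MonoidAlgebra.single_mul_single, inv_mul_cancel, one_mul, MonoidAlgebra.one_def]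
  have hconj : ∀ a : k[G], conjA t a * U₀ = U₀ * a := fun a => by
    refine MonoidAlgebra.ext (Finsupp.ext fun y => ?_)
    rw [hU₀, MonoidAlgebra.coeff_single_mul_apply, MonoidAlgebra.coeff_mul_single_apply,
      coeff_conjA, one_mul, mul_one]
    congr 1
    group
  have hconj' : ∀ a : k[G], a * T₀ = T₀ * conjA t a := fun a => by
    calc a * T₀ = T₀ * (U₀ * a) * T₀ := by rw [← mul_assoc, hTU, one_mul]
      _ = T₀ * conjA t a := by rw [← hconj, mul_assoc, mul_assoc, hUT, mul_one]
  set τ := T₀ * w with hτ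
  have hτs : IsSupportedOn τ H := hTs.mul (isSupportedOn_mono hws hCH)
  have hfH : ∀ {s : k[G]}, IsSupportedOn s H → Commute s f := fun hs =>
    commute_of_isFixedBy hs (isFixedBy_iff_conjA.2 hfix)
  have hfτ : f * τ = τ := by rw [hτ, ← mul_assoc, ← (hfH hTs).eq, mul_assoc, hfw]
  have hcC : ∀ a, IsSupportedOn a C → Cong H x (a * τ) (τ * a) := fun a ha => by
    rw [hτ, ← mul_assoc, hconj', mul_assoc, mul_assoc T₀ w]
    exact mulL hTs (lift (hnormal a ha))
  have hct : Cong H x (U₀ * τ) (τ * U₀) := by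
    have e1 : U₀ * τ = w := by rw [hτ, ← mul_assoc, hUT, one_mul]
    have e2 : T₀ * (conjA t w * U₀) = T₀ * U₀ * w := by rw [hconj, mul_assoc]
    rw [e1]
    refine Cong.trans (Cong.of_eq (b := T₀ * (conjA t w * U₀)) ?_) ?_
    · rw [e2, hTU, one_mul]
    · rw [hτ, mul_assoc T₀ w]
      exact mulL hTs ((lift hσw).mul_right hUs)
  have hcentral := cong_central hxH hUs hct hcC hgen
  -- the powers
  set P : ℕ → k[G] := fun l => f * τ ^ l with hP
  have hfs : IsSupportedOn f H := isSupportedOn_mono T.f_mem.1 hCH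
  have hPs : ∀ l, IsSupportedOn (P l) H := fun l => hfs.mul ((suppAlg k H).pow_mem hτs l)
  have hτf : Commute τ f := hfH hτs
  have hPmul : ∀ a b, P a * P b = P (a + b) := fun a b => by
    simp only [hP]
    rw [mul_assoc f, ← mul_assoc (τ ^ a), (hτf.pow_left a).eq, mul_assoc f (τ ^ a), ← mul_assoc f f,
      T.idem, ← pow_add]
  have hPc : ∀ l s, IsSupportedOn s H → Cong H x (s * P l) (P l * s) := by
    intro l s hs
    induction l generalizing s with
    | zero =>
      simp only [hP, pow_zero, mul_one]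
      exact Cong.of_eq (hfH hs).eq
    | succ l ih =>
      have e1 : P (l + 1) = P l * τ := by simp only [hP, pow_succ, mul_assoc]
      rw [e1, ← mul_assoc]
      refine Cong.trans (Cong.mul_right hτs (ih s hs)) ?_
      rw [mul_assoc (P l) s τ, mul_assoc (P l) τ s]
      exact Cong.mul_left (hPs l) hxH (hcentral s hs)
  have hsupp : ∀ l : ℕ, ∃ v, IsSupportedOn v C ∧ P l = single (t⁻¹ ^ l) (1 : k) * v := by
    intro l
    induction l with
    | zero =>
      exact ⟨f, T.f_mem.1, by simp only [hP, pow_zero, mul_one, ← MonoidAlgebra.one_def, one_mul]⟩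
    | succ l ih =>
      obtain ⟨v, hv, hve⟩ := ih
      refine ⟨conjA t v * w, (supported_conjA (hN ht) hv).mul hws, ?_⟩
      rw [show P (l + 1) = P l * τ by simp only [hP, pow_succ, mul_assoc], hve, hτ, ← mul_assoc,
        mul_assoc (single (t⁻¹ ^ l) 1) v T₀, hconj', ← mul_assoc, ← mul_assoc]
      rw [hT₀, MonoidAlgebra.single_mul_single, ← pow_succ, one_mul]
  have hPC : ∀ l, 0 < l → l < e → truncTo C (P l) = 0 := by
    intro l h0 hl
    obtain ⟨v, hv, hve⟩ := hsupp l
    rw [hve]
    refine MonoidAlgebra.ext (Finsupp.ext fun y => ?_)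
    rw [coeff_truncTo, MonoidAlgebra.coeff_single_mul_apply, one_mul]
    split_ifs with hy
    · rw [hv _ fun h => hmin l h0 hl ?_]
      · simp
      · have := C.mul_mem h (C.inv_mem hy)
        rw [inv_pow, inv_inv, mul_inv_cancel_right] at this
        exact this
    · simp
  have hnotH : ∀ {a : k[G]}, ¬ Cong C x (truncTo C a) 0 → ¬ Cong H x a 0 := by
    intro a ha ⟨r, hr, h⟩
    apply ha
    refine ⟨truncTo C r, isSupportedOn_truncTo C r, ?_⟩
    rw [sub_zero] at h ⊢
    rw [h, truncTo_mul_left T.x_mem.1]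
  have hfnot : ¬ Cong H x f 0 := hnotH (by
    rw [truncTo_of_supported T.f_mem.1]; exact T.not_cong_zero hq)
  -- the top power is a scalar
  obtain ⟨v, hv, hve⟩ := hsupp e
  have hPeC : IsSupportedOn (P e) C := by
    rw [hve]; exact (IsSupportedOn.single (by rw [inv_pow]; exact C.inv_mem hte) _).mul hv
  obtain ⟨lam, hlam⟩ := T.exists_scalar_of_cong hPeC
    (by simp only [hP, ← mul_assoc, T.idem]) fun a ha => by
      obtain ⟨r, hr, h⟩ := hPc e a (isSupportedOn_mono ha hCH)
      refine ⟨truncTo C r, isSupportedOn_truncTo C r, ?_⟩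
      rw [← truncTo_mul_left T.x_mem.1, ← h, truncTo_of_supported
        ((suppAlg k C).sub_mem (ha.mul hPeC) (hPeC.mul ha))]
  have hlam' : Cong H x (P e) (lam • f) := lift hlam
  have hR : ∀ m, ∃ R, IsSupportedOn R H ∧ Cong H x (P m * R) f := by
    intro m
    induction m with
    | zero => exact ⟨f, hfs, Cong.of_eq (by simp only [hP, pow_zero, mul_one, T.idem])⟩
    | succ m ih =>
      obtain ⟨R, hR, hcong⟩ := ih
      have hw'H := isSupportedOn_mono hw's hCH
      refine ⟨w' * U₀ * R, (hw'H.mul hUs).mul hR, ?_⟩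
      have e1 : P (m + 1) * (w' * U₀ * R) = P m * (τ * w' * U₀) * R := by
        simp only [hP, pow_succ, mul_assoc]
      rw [e1]
      refine Cong.trans ?_ hcong
      refine Cong.mul_right hR ?_
      refine (mulL (hPs m) (b := f) ?_).trans (Cong.of_eq ?_)
      · rw [hτ, mul_assoc T₀ w w']
        refine ((mulL hTs (lift hinv)).mul_right hUs).trans (Cong.of_eq ?_)
        rw [(hfH hTs).eq, mul_assoc, hTU, mul_one]
      · simp only [hP]
        rw [mul_assoc, (hτf.pow_left m).eq, ← mul_assoc, T.idem]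
  have hlam0 : lam ≠ 0 := by
    rintro rfl
    rw [zero_smul] at hlam'
    obtain ⟨R, hR, hcong⟩ := hR e
    exact hfnot (hcong.symm.trans ((hlam'.mul_right hR).trans (Cong.of_eq (zero_mul _))))
  -- the roots
  obtain ⟨μ, hμ⟩ := IsAlgClosed.exists_pow_nat_eq lam⁻¹ he
  have : NeZero (e : k) := ⟨hek⟩
  have : NeZero e := ⟨he.ne'⟩
  obtain ⟨ζ, hζ⟩ := HasEnoughRootsOfUnity.exists_primitiveRoot k e
  have hζ0 : ζ ≠ 0 := hζ.ne_zero he.ne'
  let ε : Fin e → k[G] := fun i =>
    (e : k)⁻¹ • ∑ l ∈ Finset.range e, (ζ ^ ((i : ℕ) * l) * μ ^ l) • P l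
  have hεs : ∀ i, IsSupportedOn (ε i) H := fun i =>
    (suppAlg k H).smul_mem ((suppAlg k H).sum_mem fun l _ => (suppAlg k H).smul_mem (hPs l) _) _
  have hfP : ∀ l, f * P l = P l := fun l => by simp only [hP, ← mul_assoc, T.idem]
  have hfε : ∀ i, f * ε i = ε i := fun i => by
    simp only [ε, mul_smul_comm, Finset.mul_sum, hfP]
  have hεc : ∀ i s, IsSupportedOn s H → Cong H x (s * ε i) (ε i * s) := by
    intro i s hs
    simp only [ε, mul_smul_comm, Finset.mul_sum, smul_mul_assoc, Finset.sum_mul]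
    exact (Cong.sum _ fun l _ => (hPc l s hs).smul _).smul _
  -- multiplication by the powers
  have hshift : ∀ (i : Fin e) (m : ℕ),
      Cong H x ((ζ ^ ((i : ℕ) * m) * μ ^ m) • (ε i * P m)) (ε i) := by
    intro i m
    induction m with
    | zero =>
      rw [mul_zero, pow_zero, pow_zero, mul_one, one_smul]
      refine Cong.of_eq ?_
      rw [show P 0 = f by simp only [hP, pow_zero, mul_one], (hfH (hεs i)).eq, hfε]
    | succ m ih =>
      have hone : Cong H x ((ζ ^ (i : ℕ) * μ) • (ε i * P 1)) (ε i) := by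
        set F : ℕ → k[G] := fun l => (ζ ^ ((i : ℕ) * l) * μ ^ l) • P l with hF
        have e0 : ε i * P 1 =
            (e : k)⁻¹ • ∑ l ∈ Finset.range e, (ζ ^ ((i : ℕ) * l) * μ ^ l) • P (l + 1) := by
          simp only [ε, smul_mul_assoc, Finset.sum_mul, hPmul]
        rw [e0, smul_comm, Finset.smul_sum]
        refine Cong.smul _ ?_
        have e1 : ∀ l, (ζ ^ (i : ℕ) * μ) • (ζ ^ ((i : ℕ) * l) * μ ^ l) • P (l + 1) = F (l + 1) := by
          intro l
          rw [hF, smul_smul]
          congr 1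
          ring
        rw [Finset.sum_congr rfl fun l _ => e1 l]
        have e2 : Cong H x (F e) (F 0) := by
          simp only [hF, mul_zero, pow_zero, mul_one, one_smul]
          refine (hlam'.smul _).trans (Cong.of_eq ?_)
          rw [smul_smul, hμ, mul_comm (i : ℕ) e, pow_mul, hζ.pow_eq_one, one_pow, one_mul,
            inv_mul_cancel₀ hlam0, one_smul]
          simp [hP]
        have e3 : (∑ l ∈ Finset.range e, F (l + 1)) = ∑ l ∈ Finset.range e, F l + F e - F 0 := by
          rw [← Finset.sum_range_succ, Finset.sum_range_succ' F e, add_sub_cancel_right]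
        rw [e3]
        obtain ⟨r, hr, her⟩ := e2
        exact ⟨r, hr, by rw [← her]; abel⟩
      have e4 : (ζ ^ ((i : ℕ) * (m + 1)) * μ ^ (m + 1)) • (ε i * P (m + 1)) =
          (ζ ^ (i : ℕ) * μ) • (((ζ ^ ((i : ℕ) * m) * μ ^ m) • (ε i * P m)) * P 1) := by
        rw [smul_mul_assoc (ζ ^ ((i : ℕ) * m) * μ ^ m) (ε i * P m) (P 1), smul_smul,
          mul_assoc (ε i) (P m) (P 1), hPmul]
        congr 1
        ring
      rw [e4]
      exact ((ih.mul_right (hPs 1)).smul _).trans hone
  have hmain : ∀ i j : Fin e, Cong H x (ε i * ε j) ((if i = j then (1 : k) else 0) • ε i) := by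
    intro i j
    have e1 : ε i * ε j = (e : k)⁻¹ • ∑ l ∈ Finset.range e,
        (ζ ^ ((j : ℕ) * l) * (ζ ^ ((i : ℕ) * l))⁻¹) •
          ((ζ ^ ((i : ℕ) * l) * μ ^ l) • (ε i * P l)) := by
      show ε i * ((e : k)⁻¹ • ∑ l ∈ Finset.range e, (ζ ^ ((j : ℕ) * l) * μ ^ l) • P l) = _
      rw [mul_smul_comm, Finset.mul_sum]
      congr 1
      refine Finset.sum_congr rfl fun l _ => ?_
      rw [mul_smul_comm, smul_smul]
      congr 1
      field_simp
    rw [e1]
    refine ((Cong.sum _ fun l _ => (hshift i l).smul _).smul _).trans (Cong.of_eq ?_)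
    rw [← Finset.sum_smul, smul_smul]
    congr 1
    have hpow : ∀ l, ζ ^ ((j : ℕ) * l) * (ζ ^ ((i : ℕ) * l))⁻¹ =
        (ζ ^ (j : ℕ) * (ζ ^ (i : ℕ))⁻¹) ^ l := fun l => by
      rw [mul_pow, inv_pow, pow_mul, pow_mul]
    simp only [hpow]
    split_ifs with hij
    · subst hij
      simp [mul_inv_cancel₀ (pow_ne_zero _ hζ0), inv_mul_cancel₀ hek]
    · have hne : ζ ^ (j : ℕ) * (ζ ^ (i : ℕ))⁻¹ ≠ 1 := fun h => hij (Fin.ext
        ((hζ.pow_inj j.2 i.2 (by rwa [mul_inv_eq_one₀ (pow_ne_zero _ hζ0)] at h)).symm))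
      rw [geom_sum_eq hne, mul_pow, inv_pow, ← pow_mul, ← pow_mul, mul_comm (j : ℕ), mul_comm (i : ℕ),
        pow_mul, pow_mul, hζ.pow_eq_one, one_pow, one_pow, inv_one, one_mul, sub_self, zero_div,
        mul_zero]
  refine ⟨ε, hεs, hfε, fun i => hnotH ?_, fun i => ?_, fun i j hij => ?_, hεc⟩
  · have htr : truncTo C (ε i) = (e : k)⁻¹ • f := by
      simp only [ε, map_smul, map_sum]
      congr 1
      rw [Finset.sum_eq_single 0]
      · rw [mul_zero, pow_zero, pow_zero, mul_one, one_smul]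
        simp only [hP, pow_zero, mul_one]
        exact truncTo_of_supported T.f_mem.1
      · intro l hl hl0
        rw [hPC l (Nat.pos_of_ne_zero hl0) (Finset.mem_range.1 hl), smul_zero]
      · intro h
        exact absurd (Finset.mem_range.2 he) h
    rw [htr]
    intro h
    have h' := h.smul (e : k)
    rw [smul_inv_smul₀ hek, smul_zero] at h'
    exact T.not_cong_zero hq h'
  · simpa using hmain i i
  · simpa [hij] using hmain i j

end IsTower

end CfsgLib.Blocks.Cyclic
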