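import Cfsg.Agent.Blocks.Cyclic.Sums
import Cfsg.Agent.Blocks.Defect.Dictionary

/-!
# Block idempotents are relative traces from their defect groups

The sum of the conjugates of a class element with Sylow subgroup `D` in its centralizer is, up to
an index prime to `p`, a trace from `D`; a block seeing it inherits this.
-/

set_option autoImplicit false
open scoped MonoidAlgebra
open MonoidAlgebra (single)

namespace CfsgLib.Blocks.Cyclic

universe u w

variable {k : Type w} [Field k] {G : Type u} [Group G] [Finite G]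

omit [Finite G] in
theorem conjA_single_one (g x : G) (r : k) : conjA g (single x r) = single (g * x * g⁻¹) r := by
  simp [conjA]

omit [Finite G] in
/-- The translates of a fixed element are constant on cosets. -/
theorem conjA_mul_of_fixed {D : Subgroup G} {a : k[G]} (ha : IsFixedBy a D) (g : G) :
    ∀ d ∈ D, conjA (g * d) a = conjA g a := fun d hd => by
  rw [← conjA_conjA, isFixedBy_iff_conjA.1 ha d hd]

/-- A relative trace is central. -/
theorem cosetSum_mem_centerIn {H D : Subgroup G} (hDH : D ≤ H) {a : k[G]}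
    (hs : IsSupportedOn a H) (ha : IsFixedBy a D) :
    cosetSum H D (fun g => conjA g a) ∈ centerIn k H := by
  refine ⟨fun x hx => ?_, isFixedBy_iff_conjA.2 fun h hh => ?_⟩
  · rw [cosetSum, MonoidAlgebra.coeff_sum, Finsupp.finsetSum_apply]
    refine Finset.sum_eq_zero fun ω hω => ?_
    rw [coeff_conjA]
    refine hs _ fun h => hx ?_
    have := H.mul_mem (H.mul_mem (mem_cosets.1 hω) h) (H.inv_mem (mem_cosets.1 hω))
    simpa [mul_assoc] using this
  · rw [map_cosetSum (conjA h)]
    simp only [conjA_conjA]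
    exact cosetSum_mul_left (F := fun g => conjA g a) hDH (conjA_mul_of_fixed ha) hh

/-- A central factor enters a relative trace. -/
theorem mul_cosetSum {H D : Subgroup G} {a z : k[G]} (hz : IsFixedBy z H) :
    z * cosetSum H D (fun g => conjA g a) = cosetSum H D (fun g => conjA g (z * a)) := by
  refine (map_cosetSum (AddMonoidHom.mulLeft z) _).trans (cosetSum_congr fun g hg => ?_)
  show z * conjA g a = _
  rw [map_mul, isFixedBy_iff_conjA.1 hz g hg]

/-- The class sum is the trace from the centralizer. -/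
theorem classSumIn_eq_cosetSum (H : Subgroup G) (x : G) :
    classSumIn k H x = cosetSum H (H ⊓ Subgroup.centralizer ({x} : Set G))
      (fun g => single (g * x * g⁻¹) (1 : k)) := by
  classical
  set S := H ⊓ Subgroup.centralizer ({x} : Set G) with hS
  refine MonoidAlgebra.ext (Finsupp.ext fun y => ?_)
  rw [cosetSum, MonoidAlgebra.coeff_sum, Finsupp.finsetSum_apply, coeff_classSumIn]
  simp only [MonoidAlgebra.coeff_single]
  have hF : ∀ g, ∀ d ∈ S, g * d * x * (g * d)⁻¹ = g * x * g⁻¹ := by
    intro g d hd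
    calc g * d * x * (g * d)⁻¹ = g * (d * x) * d⁻¹ * g⁻¹ := by group
      _ = g * x * g⁻¹ := by
        rw [mem_centralizer_singleton'.1 (Subgroup.mem_inf.1 hd).2]; group
  split_ifs with hy
  · obtain ⟨h, hh, rfl⟩ := hy
    have hout : ((h : G ⧸ S).out) * x * ((h : G ⧸ S).out)⁻¹ = h * x * h⁻¹ :=
      apply_out (N := G) (F := fun g => g * x * g⁻¹) hF h
    rw [Finset.sum_eq_single (h : G ⧸ S) (fun ω hω hne => ?_)
      (fun hn => absurd (mem_cosets.2 ((out_mem_iff inf_le_left h).2 hh)) hn), hout,
      Finsupp.single_eq_same]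
    refine Finsupp.single_eq_of_ne (fun heq => hne ?_)
    rw [← QuotientGroup.out_eq' ω]
    refine QuotientGroup.eq.2 (Subgroup.mem_inf.2 ⟨H.mul_mem (H.inv_mem (mem_cosets.1 hω)) hh,
      mem_centralizer_singleton'.2 ?_⟩)
    calc ω.out⁻¹ * h * x = ω.out⁻¹ * (h * x * h⁻¹) * h := by group
      _ = x * (ω.out⁻¹ * h) := by rw [heq]; group
  · refine (Finset.sum_eq_zero fun ω hω => ?_).symm
    exact Finsupp.single_eq_of_ne fun h => hy ⟨ω.out, mem_cosets.1 hω, h.symm⟩

variable {p : ℕ} [Fact p.Prime]

/-- The index of a maximal `p`-subgroup is prime to `p`. -/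
theorem not_dvd_relIndex_of_isSylowIn {D L : Subgroup G} (h : IsSylowIn p D L) :
    ¬ p ∣ D.relIndex L := by
  obtain ⟨P, hP⟩ := exists_sylow_map_eq h
  have : D.subgroupOf L = P := by
    rw [← hP, Subgroup.subgroupOf, Subgroup.comap_map_eq_self_of_injective L.subtype_injective]
  rw [Subgroup.relIndex, this]
  exact P.not_dvd_index

variable [CharP k p]

/-- A block idempotent is the trace of a fixed element from its defect group. -/
theorem exists_trace_preimage {H D : Subgroup G} {e : k[G]} (he : IsBlockIdem H e)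
    (hD : IsDefectGroupIdem p H e D) :
    ∃ a, IsSupportedOn a H ∧ IsFixedBy a D ∧ e * a = a ∧ e = cosetSum H D (fun g => conjA g a) := by
  obtain ⟨x, ⟨hxH, -, hsees⟩, hsyl⟩ := he.exists_class_of_defectGroup hD
  obtain ⟨w, hw, hwe⟩ := he.exists_inverse (classSumIn_mem_centerIn hxH) hsees
  set S := H ⊓ Subgroup.centralizer ({x} : Set G) with hS
  set N := D.relIndex S with hN
  have hN0 : (N : k) ≠ 0 := by
    rw [Ne, CharP.cast_eq_zero_iff k p]
    exact not_dvd_relIndex_of_isSylowIn hsyl
  set a₁ : k[G] := single x (N : k)⁻¹ with ha₁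
  have hfix₁ : IsFixedBy a₁ D := isFixedBy_iff_conjA.2 fun d hd => by
    rw [ha₁, conjA_single_one,
      mem_centralizer_singleton'.1 (Subgroup.mem_inf.1 (hsyl.1 hd)).2, mul_inv_cancel_right]
  have hsum : cosetSum H D (fun g => conjA g a₁) = classSumIn k H x := by
    rw [cosetSum_trans hsyl.1 inf_le_left (conjA_mul_of_fixed hfix₁), classSumIn_eq_cosetSum]
    refine cosetSum_congr fun g _ => ?_
    rw [cosetSum_congr (F' := fun _ => conjA g a₁) fun c hc => ?_, cosetSum_const hsyl.1,
      ← hN, ha₁, conjA_single_one, ← Nat.cast_smul_eq_nsmul k, MonoidAlgebra.smul_single',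
      mul_inv_cancel₀ hN0]
    rw [← conjA_conjA, ha₁, conjA_single_one,
      mem_centralizer_singleton'.1 (Subgroup.mem_inf.1 hc).2, mul_inv_cancel_right]
  have hew : IsFixedBy (w * e) H := hw.2.mul he.mem.2
  refine ⟨w * e * a₁, (hw.1.mul he.mem.1).mul (IsSupportedOn.single hxH _),
    (hew.mono hD.1).mul hfix₁, ?_, ?_⟩
  · rw [← mul_assoc, ← mul_assoc, (commute_centerIn he.mem hw).eq, mul_assoc w, he.idem]
  · rw [← mul_cosetSum hew, hsum, mul_assoc, (commute_centerIn he.mem (classSumIn_mem_centerIn hxH)).eq,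
      ← mul_assoc, (commute_centerIn hw (classSumIn_mem_centerIn hxH)).eq]
    exact hwe.symm

end CfsgLib.Blocks.Cyclic
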